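import Cfsg.Agent.Lib.H43.SL2Conj

/-!
Elements of order `p` (the characteristic) in `GL₂` and `SL₂`.
-/
set_option autoImplicit false

namespace H43.SL2Order

open Matrix H43.GL2Basic H43.GL2Card H43.SL2Conj

variable {F : Type*} [Field F]

theorem mat_of_pow (p : ℕ) [Fact p.Prime] [CharP F p] (A : Matrix (Fin 2) (Fin 2) F) (hA : A ^ p = 1) :
    A.trace = 2 ∧ A.det = 1 := by
  have hp : p.Prime := Fact.out
  have hN : (A - 1) ^ p = 0 := by
    rw [sub_pow_char_of_commute p (Commute.one_right _), one_pow, hA]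
    simp
  have hnil : IsNilpotent (A - 1) := ⟨p, hN⟩
  have htr : (A - 1).trace = 0 :=
    (Matrix.isNilpotent_trace_of_isNilpotent hnil).eq_zero
  have hdet : (A - 1).det = 0 := by
    have := congrArg Matrix.det hN
    rw [Matrix.det_pow, Matrix.det_zero] at this
    exact pow_eq_zero_iff hp.ne_zero |>.1 this
  have htr' : A.trace = 2 := by
    rw [Matrix.trace_fin_two] at htr ⊢
    simp at htr
    linear_combination htr
  have hdet' : A.det = 1 := by
    rw [Matrix.det_fin_two] at hdet ⊢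
    rw [Matrix.trace_fin_two] at htr'
    simp at hdet
    linear_combination hdet + htr'
  exact ⟨htr', hdet'⟩

theorem mat_pow_of (p : ℕ) [Fact p.Prime] [CharP F p] (A : Matrix (Fin 2) (Fin 2) F) (ht : A.trace = 2)
    (hd : A.det = 1) : A ^ p = 1 := by
  have hp : p.Prime := Fact.out
  have h1 : (A - 1) ^ 2 = 0 := by
    have := sq_eq A
    rw [ht, hd] at this
    rw [sq, Matrix.sub_mul, Matrix.mul_sub, Matrix.mul_sub, this]
    simp only [one_smul, mul_one, one_mul, two_smul]
    abel
  have h2 : (A - 1) ^ p = 0 := by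
    obtain ⟨k, hk⟩ := Nat.exists_eq_add_of_le hp.two_le
    rw [hk, pow_add, h1, zero_mul]
  rw [sub_pow_char_of_commute p (Commute.one_right _), one_pow] at h2
  exact sub_eq_zero.1 h2

theorem not_isScal_of_trace_two (h2 : (2 : F) ≠ 0) (g : SpecialLinearGroup (Fin 2) F)
    (ht : (g : Matrix (Fin 2) (Fin 2) F).trace = 2) (hg : g ≠ 1) : ¬ IsScal (g : Matrix (Fin 2) (Fin 2) F) := by
  rintro ⟨h1, h3, h4⟩
  apply hg
  rw [trace_fin_two, h4] at ht
  have h5 : (g : Matrix (Fin 2) (Fin 2) F) 1 1 = 1 := by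
    apply mul_left_cancel₀ h2
    linear_combination ht
  ext i j
  fin_cases i <;> fin_cases j <;> simp [h1, h3, h4, h5]

theorem sl_isScal_trace_iff (g : SpecialLinearGroup (Fin 2) F) (p : ℕ) [Fact p.Prime] [CharP F p] :
    orderOf g = p ↔ g ≠ 1 ∧ (g : Matrix (Fin 2) (Fin 2) F).trace = 2 := by
  have hp : p.Prime := Fact.out
  constructor
  · intro hg
    have hg1 : g ^ p = 1 := by rw [← hg]; exact pow_orderOf_eq_one g
    refine ⟨?_, ?_⟩
    · rintro rfl
      simp at hg
      exact hp.one_lt.ne hg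
    · refine (mat_of_pow p _ ?_).1
      have := congrArg (fun z : SpecialLinearGroup (Fin 2) F => (z : Matrix (Fin 2) (Fin 2) F)) hg1
      simpa using this
  · rintro ⟨h1, h2⟩
    apply orderOf_eq_prime _ h1
    have h3 : ((g ^ p : SpecialLinearGroup (Fin 2) F) : Matrix (Fin 2) (Fin 2) F) = 1 := by
      rw [Matrix.SpecialLinearGroup.coe_pow]
      exact mat_pow_of p _ h2 g.det_coe
    exact Subtype.ext (h3.trans Matrix.SpecialLinearGroup.coe_one.symm)

end H43.SL2Order
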