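import Cfsg.Agent.Lib.H43.SLVals
import Cfsg.Agent.Lib.H43.SL2Order

/-!
Cyclic subgroups of order `q + 1` of `SL₂` (odd `q`), and characters induced from them.
-/
set_option autoImplicit false
set_option linter.unusedSectionVars false

namespace H43.SLTorus

open Matrix H43.GL2Basic H43.GL2Card H43.GL2Count H43.Lines H43.IndTrans H43.Principal H43.GLIrr H43.SL2Conj H43.SLIrr H43.SLCount
open H43.SLStruct H43.SLOdd H43.SLVals H43.SL2Order Cfsg
open H18.CharBasic H18.CharOrtho H18.CharInd H18.CharQuot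
open scoped ComplexConjugate

variable {F : Type*} [Field F] [Fintype F]

local notation "G2" => GL (Fin 2)
local notation "SL2" => Matrix.SpecialLinearGroup (Fin 2)

variable {C : Subgroup (SL2 F)}

theorem mulVec_pow {A : Matrix (Fin 2) (Fin 2) F} {v : Fin 2 → F} {a : F} (h : A.mulVec v = a • v) (n : ℕ) :
    (A ^ n).mulVec v = a ^ n • v := by
  induction n with
  | zero => simp
  | succ n ih =>
    rw [pow_succ, ← Matrix.mulVec_mulVec, h, Matrix.mulVec_smul, ih, smul_smul, pow_succ, mul_comm]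

/-- nonscalar elements of order dividing `q + 1` have no eigenvector -/
theorem no_eig {c : SL2 F} (hc : c ^ (Fintype.card F + 1) = 1)
    (hs : ¬ IsScal (c : Matrix (Fin 2) (Fin 2) F)) : ¬ HasEig (c : Matrix (Fin 2) (Fin 2) F) := by
  rintro ⟨a, v, hv, ha⟩
  set A := (c : Matrix (Fin 2) (Fin 2) F) with hA
  have hcA : A ^ (Fintype.card F + 1) = 1 := by
    rw [hA, ← Matrix.SpecialLinearGroup.coe_pow, hc, Matrix.SpecialLinearGroup.coe_one]
  have hdet : A.det = 1 := c.det_coe
  have h1 : a ^ (Fintype.card F + 1) = 1 := by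
    have h2 := mulVec_pow ha (Fintype.card F + 1)
    rw [hcA, Matrix.one_mulVec] at h2
    obtain ⟨i, hi⟩ := Function.ne_iff.1 hv
    have h3 := congrFun h2 i
    simp only [Pi.smul_apply, smul_eq_mul] at h3
    simp only [Pi.zero_apply] at hi
    exact (mul_right_cancel₀ hi ((one_mul _).trans h3)).symm
  have ha2 : a ^ 2 = 1 := by
    rw [pow_succ, FiniteField.pow_card] at h1
    rw [sq]; exact h1
  have ha0 : a ≠ 0 := by rintro rfl; simp at ha2
  have hev : a ^ 2 - A.trace * a + 1 = 0 := by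
    have h2 : (A * A).mulVec v = (a * a) • v := by
      rw [← sq, mulVec_pow ha 2, sq]
    rw [sq_eq, hdet, one_smul, Matrix.sub_mulVec, Matrix.smul_mulVec, ha, Matrix.one_mulVec] at h2
    obtain ⟨i, hi⟩ := Function.ne_iff.1 hv
    have h3 := congrFun h2 i
    simp only [Pi.sub_apply, Pi.smul_apply, smul_eq_mul] at h3
    simp only [Pi.zero_apply] at hi
    apply mul_right_cancel₀ hi
    linear_combination -h3
  have htr : A.trace = 2 * a := by
    apply mul_right_cancel₀ ha0
    linear_combination -hev - ha2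
  obtain ⟨p, hp⟩ := CharP.exists F
  have hpp : Fact p.Prime := ⟨CharP.char_is_prime F p⟩
  have hB : (a • A) ^ p = 1 := by
    apply mat_pow_of p
    · rw [Matrix.trace_smul, htr, smul_eq_mul]; linear_combination 2 * ha2
    · rw [Matrix.det_smul, hdet, Fintype.card_fin, ha2, mul_one]
  obtain ⟨n, hn, hcard⟩ := FiniteField.card F p
  have hBq : (a • A) ^ (Fintype.card F) = 1 := by
    rw [hcard]
    obtain ⟨m, hm⟩ : ∃ m, p ^ (n : ℕ) = p * m := dvd_pow_self p n.ne_zero
    rw [hm, pow_mul, hB, one_pow]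
  have hB1 : (a • A) ^ (Fintype.card F + 1) = 1 := by
    rw [smul_pow, h1, hcA, one_smul]
  rw [pow_succ, hBq, one_mul] at hB1
  apply hs
  rw [isScal_iff]
  refine ⟨a, ?_⟩
  rw [← hB1, smul_smul, ← sq, ha2, one_smul]

theorem disc_of_no_eig (hodd : Odd (Fintype.card F)) {g : SL2 F} (hg : ¬ HasEig (g : Matrix (Fin 2) (Fin 2) F)) :
    (g : Matrix (Fin 2) (Fin 2) F).trace ^ 2 - 4 ≠ 0 := by
  intro h0
  apply hg
  rw [hasEig_iff, g.det_coe]
  have h2 := two_ne_zero' hodd
  refine ⟨(g : Matrix (Fin 2) (Fin 2) F).trace / 2, ?_⟩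
  field_simp
  linear_combination -h0

/-- a cyclic subgroup of order `q + 1` -/
structure Tor (C : Subgroup (SL2 F)) : Prop where
  odd : Odd (Fintype.card F)
  cyc : IsCyclic C
  card : Nat.card C = Fintype.card F + 1

theorem Tor.comm (hC : Tor C) {a b : SL2 F} (ha : a ∈ C) (hb : b ∈ C) : a * b = b * a := by
  have := hC.cyc
  have h := IsCyclic.isMulCommutative (α := C)
  exact congrArg Subtype.val (h.is_comm.comm (⟨a, ha⟩ : C) ⟨b, hb⟩)

theorem Tor.pow (hC : Tor C) {c : SL2 F} (hc : c ∈ C) : c ^ (Fintype.card F + 1) = 1 := by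
  have h := pow_card_eq_one' (x := (⟨c, hc⟩ : C))
  rw [hC.card] at h
  exact congrArg Subtype.val h

theorem Tor.no_eig (hC : Tor C) {c : SL2 F} (hc : c ∈ C) (hs : ¬ IsScal (c : Matrix (Fin 2) (Fin 2) F)) :
    ¬ HasEig (c : Matrix (Fin 2) (Fin 2) F) := SLTorus.no_eig (hC.pow hc) hs

theorem isScal_one : IsScal ((1 : SL2 F) : Matrix (Fin 2) (Fin 2) F) := by simp [IsScal]
theorem isScal_neg_one : IsScal ((-1 : SL2 F) : Matrix (Fin 2) (Fin 2) F) := by simp [IsScal]

theorem isScal_iff' (g : SL2 F) : IsScal (g : Matrix (Fin 2) (Fin 2) F) ↔ g = 1 ∨ g = -1 := by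
  constructor
  · exact eq_one_or_neg_one_of_isScal g
  · rintro (rfl | rfl)
    · exact isScal_one
    · exact isScal_neg_one

theorem one_ne_neg_one (hodd : Odd (Fintype.card F)) : (1 : SL2 F) ≠ -1 := by
  intro h
  have h1 := congrArg (fun g : SL2 F => (g : Matrix (Fin 2) (Fin 2) F) 0 0) h
  simp at h1
  apply two_ne_zero' hodd
  linear_combination h1

theorem eq_of_sq (hodd : Odd (Fintype.card F)) {g : SL2 F} (h : g * g = 1) : g = 1 ∨ g = -1 := by
  rw [← isScal_iff']
  by_contra hs
  have h1 : (g : Matrix (Fin 2) (Fin 2) F) * (g : Matrix (Fin 2) (Fin 2) F) = 1 := congrArg Subtype.val h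
  rw [sq_eq, g.det_coe, one_smul] at h1
  have h2 : (-2 : F) • (1 : Matrix (Fin 2) (Fin 2) F) + (g : Matrix (Fin 2) (Fin 2) F).trace • (g : Matrix (Fin 2) (Fin 2) F) =
      (0 : F) • (1 : Matrix (Fin 2) (Fin 2) F) + (0 : F) • (g : Matrix (Fin 2) (Fin 2) F) := by
    rw [sub_eq_iff_eq_add] at h1
    rw [h1]
    simp only [zero_smul, add_zero]
    rw [neg_smul, two_smul]
    abel
  have h3 := (poly_inj hs h2).1
  apply two_ne_zero' hodd
  linear_combination -h3

theorem Tor.neg_one_mem (hC : Tor C) : (-1 : SL2 F) ∈ C := by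
  classical
  have hd : 2 ∣ Nat.card C := by
    rw [hC.card]
    obtain ⟨k, hk⟩ := hC.odd
    exact ⟨k + 1, by omega⟩
  obtain ⟨z, hz⟩ := exists_prime_orderOf_dvd_card' 2 hd
  have h1 : (z : SL2 F) * (z : SL2 F) = 1 := by
    have h2 : z ^ 2 = 1 := by
      have h3 := pow_orderOf_eq_one z
      rwa [hz] at h3
    rw [sq] at h2
    exact congrArg Subtype.val h2
  rcases eq_of_sq hC.odd h1 with h | h
  · exfalso
    have h2 : z = 1 := Subtype.ext h
    rw [h2, orderOf_one] at hz
    norm_num at hz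
  · rw [← h]; exact z.2

theorem Tor.centralizer (hC : Tor C) {c : SL2 F} (hc : c ∈ C) (hs : ¬ IsScal (c : Matrix (Fin 2) (Fin 2) F)) :
    Subgroup.centralizer ({c} : Set (SL2 F)) = C := by
  symm
  apply Subgroup.eq_of_le_of_card_ge
  · intro x hx
    rw [Subgroup.mem_centralizer_singleton_iff]
    exact hC.comm hx hc
  · rw [sl_card_centralizer_aniso c (hC.no_eig hc hs), hC.card]

theorem coe_add_inv (c : SL2 F) : (c : Matrix (Fin 2) (Fin 2) F) + ((c⁻¹ : SL2 F) : Matrix (Fin 2) (Fin 2) F) =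
    (c : Matrix (Fin 2) (Fin 2) F).trace • (1 : Matrix (Fin 2) (Fin 2) F) := by
  ext i j
  rw [Matrix.SpecialLinearGroup.coe_inv]
  fin_cases i <;> fin_cases j <;> simp [Matrix.adjugate_fin_two, trace_fin_two]
  ring

/-- conjugates in the torus -/
theorem Tor.conj_eq (hC : Tor C) {c c' : SL2 F} (hc : c ∈ C) (hs : ¬ IsScal (c : Matrix (Fin 2) (Fin 2) F))
    (hc' : c' ∈ C) (hconj : IsConj c c') : c' = c ∨ c' = c⁻¹ := by
  have hcom : (c : Matrix (Fin 2) (Fin 2) F) * (c' : Matrix (Fin 2) (Fin 2) F) = c' * c :=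
    congrArg Subtype.val (hC.comm hc hc')
  obtain ⟨x, y, hxy⟩ := (commute_iff hs _).1 hcom
  have htr := trace_of_conj hconj
  have hdet' := c'.det_coe
  have hdet := c.det_coe
  have hD := disc_of_no_eig hC.odd (hC.no_eig hc hs)
  have h2 := two_ne_zero' hC.odd
  rw [hxy, det_poly, hdet] at hdet'
  rw [hxy, Matrix.trace_add, Matrix.trace_smul, Matrix.trace_smul, Matrix.trace_one, Fintype.card_fin] at htr
  simp only [smul_eq_mul] at htr
  set t := (c : Matrix (Fin 2) (Fin 2) F).trace with ht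
  have hx : x * 2 = t * (1 - y) := by push_cast at htr; linear_combination -htr
  have h3 : (1 - y) * (1 + y) * (t ^ 2 - 4) = 0 := by
    linear_combination 4 * hdet' - (2 * x + t * (1 - y)) * hx - 2 * t * y * hx
  rcases mul_eq_zero.1 h3 with h4 | h4
  · rcases mul_eq_zero.1 h4 with h5 | h5
    · left
      have hy : y = 1 := by linear_combination -h5
      have hx0 : x = 0 := by
        rw [hy, sub_self, mul_zero] at hx
        exact (mul_eq_zero.1 hx).resolve_right h2
      apply Subtype.ext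
      rw [hxy, hx0, hy]; simp
    · right
      have hy : y = -1 := by linear_combination h5
      have hx0 : x = t := by
        apply mul_right_cancel₀ h2
        rw [hx, hy]; ring
      apply Subtype.ext
      rw [hxy, hx0, hy, ← coe_add_inv]
      simp
  · exact absurd h4 hD

section ind
variable [Fintype (SL2 F)]

theorem conj_inv_of_no_eig (hodd : Odd (Fintype.card F)) {c : SL2 F} (hc : ¬ HasEig (c : Matrix (Fin 2) (Fin 2) F)) :
    IsConj c c⁻¹ := by
  have hD := disc_of_no_eig hodd hc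
  have htr : ((c⁻¹ : SL2 F) : Matrix (Fin 2) (Fin 2) F).trace = (c : Matrix (Fin 2) (Fin 2) F).trace := by
    have h1 := congrArg Matrix.trace (coe_add_inv c)
    rw [Matrix.trace_add, Matrix.trace_smul, Matrix.trace_one, Fintype.card_fin] at h1
    simp only [smul_eq_mul] at h1
    push_cast at h1
    linear_combination h1
  have h1 := conj_cSL_of_disc c hD
  have h2 := conj_cSL_of_disc c⁻¹ (by rw [htr]; exact hD)
  rw [htr] at h2
  exact h1.trans h2.symm

/-- value of a character induced from the torus at a noncentral torus element -/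
theorem Tor.ind_apply (hC : Tor C) (θ : C → ℂ) (c : C) (hs : ¬ IsScal ((c : SL2 F) : Matrix (Fin 2) (Fin 2) F)) :
    indFun C θ c = θ c + θ c⁻¹ := by
  classical
  rw [indFun_apply]
  have hne : (c : SL2 F) ≠ (c : SL2 F)⁻¹ := by
    intro h
    apply hs
    rw [isScal_iff']
    apply eq_of_sq hC.odd
    nth_rewrite 2 [h]
    exact mul_inv_cancel _
  have hval : ∀ x : SL2 F, extendByZero C θ (x⁻¹ * c * x) =
      (if x⁻¹ * (c : SL2 F) * x = c then θ c else 0) + (if x⁻¹ * (c : SL2 F) * x = (c : SL2 F)⁻¹ then θ c⁻¹ else 0) := by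
    intro x
    by_cases hx : x⁻¹ * (c : SL2 F) * x ∈ C
    · rw [ext_mem _ _ hx]
      have hcj : IsConj (c : SL2 F) (x⁻¹ * c * x) := isConj_iff.2 ⟨x⁻¹, by group⟩
      rcases hC.conj_eq c.2 hs hx hcj with h | h
      · rw [if_pos h, if_neg (by rw [h]; exact hne), add_zero]
        congr 1
        exact Subtype.ext h
      · rw [if_neg (by rw [h]; exact hne.symm), if_pos h, zero_add]
        congr 1
        exact Subtype.ext h
    · rw [ext_notMem _ _ hx, if_neg, if_neg, add_zero]
      · intro h; rw [h] at hx; exact hx (C.inv_mem c.2)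
      · intro h; rw [h] at hx; exact hx c.2
  have hcard1 : (Finset.univ.filter (fun x : SL2 F => x⁻¹ * (c : SL2 F) * x = c)).card = Nat.card C := by
    have h0 : Nat.card C = Nat.card (Subgroup.centralizer ({(c : SL2 F)} : Set (SL2 F))) := by
      rw [hC.centralizer c.2 hs]
    rw [h0, Nat.card_eq_fintype_card, ← Fintype.card_subtype]
    apply Fintype.card_congr
    refine Equiv.subtypeEquivRight (fun x => ?_)
    rw [Subgroup.mem_centralizer_singleton_iff, mul_assoc, inv_mul_eq_iff_eq_mul, eq_comm]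
  obtain ⟨y, hy⟩ := isConj_iff.1 (conj_inv_of_no_eig hC.odd (hC.no_eig c.2 hs))
  have hcard2 : (Finset.univ.filter (fun x : SL2 F => x⁻¹ * (c : SL2 F) * x = (c : SL2 F)⁻¹)).card = Nat.card C := by
    rw [← hcard1]
    refine Finset.card_bij (fun x _ => x * y) ?_ ?_ ?_
    · intro x hx
      simp only [Finset.mem_filter, Finset.mem_univ, true_and] at hx ⊢
      have h3 : (x * y)⁻¹ * (c : SL2 F) * (x * y) = y⁻¹ * (x⁻¹ * c * x) * y := by group
      rw [h3, hx, ← hy]
      group
    · intro a _ b _ hab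
      exact mul_right_cancel hab
    · intro b hb
      simp only [Finset.mem_filter, Finset.mem_univ, true_and] at hb
      refine ⟨b * y⁻¹, ?_, by group⟩
      simp only [Finset.mem_filter, Finset.mem_univ, true_and]
      have h3 : (b * y⁻¹)⁻¹ * (c : SL2 F) * (b * y⁻¹) = y * (b⁻¹ * c * b) * y⁻¹ := by group
      rw [h3, hb, hy]
  simp only [hval]
  rw [Finset.sum_add_distrib, ← Finset.sum_filter, ← Finset.sum_filter, Finset.sum_const, Finset.sum_const,
    hcard1, hcard2, nsmul_eq_mul, nsmul_eq_mul]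
  have : (Nat.card C : ℂ) ≠ 0 := by exact_mod_cast (Nat.card_pos (α := C)).ne'
  field_simp

/-- induced functions vanish at nonscalar elements with an eigenvector -/
theorem Tor.ind_apply_eig (hC : Tor C) (θ : C → ℂ) {g : SL2 F} (hs : ¬ IsScal (g : Matrix (Fin 2) (Fin 2) F))
    (hg : HasEig (g : Matrix (Fin 2) (Fin 2) F)) : indFun C θ g = 0 := by
  classical
  rw [indFun_apply, Finset.sum_eq_zero, mul_zero]
  intro x _
  apply ext_notMem
  intro hx
  have hcj : IsConj g (x⁻¹ * g * x) := isConj_iff.2 ⟨x⁻¹, by group⟩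
  have hs' : ¬ IsScal ((x⁻¹ * g * x : SL2 F) : Matrix (Fin 2) (Fin 2) F) := fun h => hs ((isScal_of_conj hcj).2 h)
  apply hC.no_eig hx hs'
  rw [hasEig_iff] at hg ⊢
  rw [← trace_of_conj hcj, (x⁻¹ * g * x).det_coe]
  rw [g.det_coe] at hg
  exact hg

/-- induced functions from a subgroup containing a central element acting by a scalar -/
theorem ind_central {G : Type*} [Group G] [Fintype G] (H : Subgroup G) (θ : H → ℂ) (z : H) (hz : ∀ g : G, (z : G) * g = g * z)
    (w : ℂ) (hw : ∀ h : H, θ (z * h) = w * θ h) (g : G) : indFun H θ (z * g) = w * indFun H θ g := by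
  classical
  rw [indFun_apply, indFun_apply, mul_left_comm]
  congr 1
  rw [Finset.mul_sum]
  apply Finset.sum_congr rfl
  intro x _
  have h1 : x⁻¹ * ((z : G) * g) * x = (z : G) * (x⁻¹ * g * x) := by
    rw [← mul_assoc x⁻¹, ← hz x⁻¹]; group
  rw [h1]
  by_cases h : x⁻¹ * g * x ∈ H
  · rw [ext_mem _ _ h, ext_mem _ _ (H.mul_mem z.2 h)]
    exact hw ⟨_, h⟩
  · rw [ext_notMem _ _ h, ext_notMem, mul_zero]
    intro h'
    apply h
    have := H.mul_mem (H.inv_mem z.2) h'
    rwa [inv_mul_cancel_left] at this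

end ind

end H43.SLTorus
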