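import Cfsg.Agent.Lib.H43.GL2Card

/-!
Counting points of binary quadratic forms over a finite field; centraliser orders in `GL₂` and `SL₂`.
-/
set_option autoImplicit false

namespace H43.GL2Count

open Matrix H43.GL2Basic H43.GL2Card

variable {F : Type*} [Field F]

/-- linear change of variables splitting a form with distinct roots -/
noncomputable def splitEquiv (l m : F) (h : l ≠ m) : F × F ≃ F × F where
  toFun p := (p.1 + l * p.2, p.1 + m * p.2)
  invFun p := (p.1 - l * ((p.1 - p.2) / (l - m)), (p.1 - p.2) / (l - m))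
  left_inv := by
    rintro ⟨x, y⟩
    have h' : l - m ≠ 0 := sub_ne_zero.2 h
    have : (x + l * y - (x + m * y)) / (l - m) = y := by field_simp; ring
    simp only [this, Prod.mk.injEq, and_true]
    ring
  right_inv := by
    rintro ⟨u, v⟩
    have h' : l - m ≠ 0 := sub_ne_zero.2 h
    simp only [Prod.mk.injEq]
    refine ⟨by ring, ?_⟩
    field_simp
    ring

variable [Fintype F]

theorem card_split_ne_zero (l m : F) (h : l ≠ m) :
    Nat.card {p : F × F // p.1 ^ 2 + (l + m) * p.1 * p.2 + (l * m) * p.2 ^ 2 ≠ 0} = (Fintype.card F - 1) ^ 2 := by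
  classical
  have e1 : {p : F × F // p.1 ^ 2 + (l + m) * p.1 * p.2 + (l * m) * p.2 ^ 2 ≠ 0} ≃
      {p : F × F // p.1 ≠ 0 ∧ p.2 ≠ 0} :=
    (splitEquiv l m h).subtypeEquiv (by
      rintro ⟨x, y⟩
      simp only [splitEquiv, Equiv.coe_fn_mk, ← mul_ne_zero_iff]
      have : x ^ 2 + (l + m) * x * y + (l * m) * y ^ 2 = (x + l * y) * (x + m * y) := by ring
      rw [this])
  have e2 : {p : F × F // p.1 ≠ 0 ∧ p.2 ≠ 0} ≃ {x : F // x ≠ 0} × {x : F // x ≠ 0} :=
    { toFun := fun p => (⟨p.1.1, p.2.1⟩, ⟨p.1.2, p.2.2⟩)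
      invFun := fun p => ⟨(p.1.1, p.2.1), ⟨p.1.2, p.2.2⟩⟩
      left_inv := fun _ => rfl
      right_inv := fun _ => rfl }
  rw [Nat.card_congr (e1.trans e2), Nat.card_prod, sq]
  have : Nat.card {x : F // x ≠ 0} = Fintype.card F - 1 := by
    rw [← card_units]
    exact Nat.card_congr unitsEquivNeZero.symm
  rw [this]

theorem card_split_eq_one (l m : F) (h : l ≠ m) :
    Nat.card {p : F × F // p.1 ^ 2 + (l + m) * p.1 * p.2 + (l * m) * p.2 ^ 2 = 1} = Fintype.card F - 1 := by
  classical
  have e1 : {p : F × F // p.1 ^ 2 + (l + m) * p.1 * p.2 + (l * m) * p.2 ^ 2 = 1} ≃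
      {p : F × F // p.1 * p.2 = 1} :=
    (splitEquiv l m h).subtypeEquiv (by
      rintro ⟨x, y⟩
      simp only [splitEquiv, Equiv.coe_fn_mk]
      have : x ^ 2 + (l + m) * x * y + (l * m) * y ^ 2 = (x + l * y) * (x + m * y) := by ring
      rw [this])
  have e2 : {p : F × F // p.1 * p.2 = 1} ≃ Fˣ :=
    { toFun := fun p => ⟨p.1.1, p.1.2, p.2, by rw [mul_comm]; exact p.2⟩
      invFun := fun u => ⟨(u, (u⁻¹ : Fˣ)), u.mul_inv⟩
      left_inv := fun _ => rfl
      right_inv := fun _ => by ext; rfl }
  rw [Nat.card_congr (e1.trans e2), card_units]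

omit [Fintype F] in
theorem form_aniso {t d : F} (h : ¬ ∃ c : F, c ^ 2 - t * c + d = 0) {x y : F}
    (hxy : x ^ 2 + t * x * y + d * y ^ 2 = 0) : x = 0 ∧ y = 0 := by
  by_cases hy : y = 0
  · subst hy
    simp at hxy
    exact ⟨hxy, rfl⟩
  · exfalso
    apply h
    refine ⟨-x / y, ?_⟩
    field_simp
    linear_combination hxy

theorem card_aniso_ne_zero (t d : F) (h : ¬ ∃ c : F, c ^ 2 - t * c + d = 0) :
    Nat.card {p : F × F // p.1 ^ 2 + t * p.1 * p.2 + d * p.2 ^ 2 ≠ 0} = Fintype.card F ^ 2 - 1 := by
  classical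
  have e1 : {p : F × F // p.1 ^ 2 + t * p.1 * p.2 + d * p.2 ^ 2 ≠ 0} ≃ {p : F × F // p ≠ 0} :=
    Equiv.subtypeEquivRight (by
      rintro ⟨x, y⟩
      constructor
      · rintro hne heq
        obtain ⟨rfl, rfl⟩ := Prod.mk.inj heq
        simp at hne
      · intro hne heq
        obtain ⟨rfl, rfl⟩ := form_aniso h heq
        exact hne rfl)
  rw [Nat.card_congr e1, Nat.card_eq_fintype_card, Fintype.card_subtype_compl, Fintype.card_prod,
    Fintype.card_subtype_eq, sq]

theorem aniso_t_ne_zero {t d : F} (h : ¬ ∃ c : F, c ^ 2 - t * c + d = 0) (h2 : (2 : F) = 0) : t ≠ 0 := by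
  rintro rfl
  have hc : ringChar F = 2 := by
    have h3 : ringChar F ∣ 2 := (ringChar.spec F 2).1 (by exact_mod_cast h2)
    have h4 : ringChar F ≠ 1 := by
      intro h5
      have := (ringChar.spec F 1).2 (by rw [h5])
      simp at this
    exact ((Nat.dvd_prime Nat.prime_two).1 h3).resolve_left h4
  obtain ⟨r, hr⟩ := FiniteField.isSquare_of_char_two hc (-d)
  exact h ⟨r, by linear_combination -hr⟩

/-- Number of solutions of `x² + t x y + d y² = 1` for an anisotropic form. -/
theorem card_aniso_eq_one (t d : F) (h : ¬ ∃ c : F, c ^ 2 - t * c + d = 0) :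
    Nat.card {p : F × F // p.1 ^ 2 + t * p.1 * p.2 + d * p.2 ^ 2 = 1} = Fintype.card F + 1 := by
  classical
  -- parametrise by lines through (1, 0)
  have hN : ∀ m : F, m ^ 2 + t * m + d ≠ 0 := by
    intro m hm
    apply h
    exact ⟨-m, by linear_combination hm⟩
  let f : Option F → {p : F × F // p.1 ^ 2 + t * p.1 * p.2 + d * p.2 ^ 2 = 1} := fun o =>
    match o with
    | none => ⟨(-1, 0), by simp⟩
    | some m => ⟨(1 + m * (-(2 * m + t) / (m ^ 2 + t * m + d)), -(2 * m + t) / (m ^ 2 + t * m + d)), by
        have hs : (-(2 * m + t) / (m ^ 2 + t * m + d)) * (m ^ 2 + t * m + d) = -(2 * m + t) :=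
          div_mul_cancel₀ _ (hN m)
        simp only
        linear_combination (-(2 * m + t) / (m ^ 2 + t * m + d)) * hs⟩
  have hf : Function.Bijective f := by
    constructor
    · have key : ∀ m : F, -(2 * m + t) / (m ^ 2 + t * m + d) = 0 → (2 : F) ≠ 0 ∧ 2 * m + t = 0 := by
        intro m hm
        have h1 : 2 * m + t = 0 := by
          rcases div_eq_zero_iff.1 hm with h' | h'
          · exact neg_eq_zero.1 h'
          · exact absurd h' (hN m)
        refine ⟨?_, h1⟩
        intro h2
        apply aniso_t_ne_zero h h2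
        rw [h2] at h1
        linear_combination h1
      rintro (_ | m) (_ | m') hmm
      · rfl
      · exfalso
        have h1 := congrArg (fun z => (z.1.1 : F)) hmm
        have h2 := congrArg (fun z => (z.1.2 : F)) hmm
        simp only [f] at h1 h2
        rw [← h2] at h1
        apply (key m' h2.symm).1
        linear_combination -h1
      · exfalso
        have h1 := congrArg (fun z => (z.1.1 : F)) hmm
        have h2 := congrArg (fun z => (z.1.2 : F)) hmm
        simp only [f] at h1 h2
        rw [h2] at h1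
        apply (key m h2).1
        linear_combination h1
      · have h1 := congrArg (fun z => (z.1.1 : F)) hmm
        have h2 := congrArg (fun z => (z.1.2 : F)) hmm
        simp only [f] at h1 h2
        rw [← h2] at h1
        by_cases h0 : -(2 * m + t) / (m ^ 2 + t * m + d) = 0
        · obtain ⟨hne, h3⟩ := key m h0
          rw [h0] at h2
          obtain ⟨-, h4⟩ := key m' h2.symm
          congr 1
          apply mul_left_cancel₀ hne
          linear_combination h3 - h4
        · congr 1
          apply mul_right_cancel₀ h0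
          linear_combination h1
    · rintro ⟨⟨x, y⟩, hxy⟩
      simp only at hxy
      by_cases hy : y = 0
      · subst hy
        have hx : x = 1 ∨ x = -1 := by
          have : (x - 1) * (x + 1) = 0 := by linear_combination hxy
          rcases mul_eq_zero.1 this with h' | h'
          · left; linear_combination h'
          · right; linear_combination h'
        rcases hx with rfl | rfl
        · by_cases h2 : (2 : F) = 0
          · refine ⟨none, ?_⟩
            apply Subtype.ext
            simp only [f, Prod.mk.injEq, and_true]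
            linear_combination -h2
          · refine ⟨some (-t / 2), ?_⟩
            apply Subtype.ext
            have : 2 * (-t / 2) + t = 0 := by field_simp; ring
            simp only [f, this]
            simp
        · exact ⟨none, rfl⟩
      · refine ⟨some ((x - 1) / y), ?_⟩
        have h1 : -(2 * ((x - 1) / y) + t) / (((x - 1) / y) ^ 2 + t * ((x - 1) / y) + d) = y := by
          rw [div_eq_iff (hN _)]
          field_simp
          linear_combination -hxy
        apply Subtype.ext
        simp only [f, h1, Prod.mk.injEq, and_true]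
        field_simp
        ring
  rw [← Nat.card_congr (Equiv.ofBijective f hf), Nat.card_eq_fintype_card, Fintype.card_option]

/-- centraliser order in `GL₂` of an element with two distinct eigenvalues `l`, `m` -/
theorem gl_card_centralizer_split (g : GL (Fin 2) F) (l m : F) (h : l ≠ m)
    (ht : (g : Matrix (Fin 2) (Fin 2) F).trace = l + m) (hd : (g : Matrix (Fin 2) (Fin 2) F).det = l * m) :
    Nat.card (Subgroup.centralizer ({g} : Set (GL (Fin 2) F))) = (Fintype.card F - 1) ^ 2 := by
  have hs : ¬ IsScal (g : Matrix (Fin 2) (Fin 2) F) := by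
    rintro ⟨h1, h2, h3⟩
    rw [trace_fin_two, h3] at ht
    rw [det_fin_two, h1, h3] at hd
    apply h
    have : (l - m) ^ 2 = 0 := by
      have : (l - m) ^ 2 = (l + m) ^ 2 - 4 * (l * m) := by ring
      rw [this, ← ht, ← hd]
      ring
    exact sub_eq_zero.1 (pow_eq_zero_iff two_ne_zero |>.1 this)
  rw [Nat.card_congr (glCentralizerEquiv g hs), ht, hd]
  exact card_split_ne_zero l m h

theorem gl_card_centralizer_aniso (g : GL (Fin 2) F) (h : ¬ HasEig (g : Matrix (Fin 2) (Fin 2) F)) :
    Nat.card (Subgroup.centralizer ({g} : Set (GL (Fin 2) F))) = Fintype.card F ^ 2 - 1 := by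
  rw [Nat.card_congr (glCentralizerEquiv g (not_isScal_of_not_hasEig h))]
  apply card_aniso_ne_zero
  rwa [hasEig_iff] at h

theorem sl_card_centralizer_split (g : SpecialLinearGroup (Fin 2) F) (l m : F) (h : l ≠ m)
    (ht : (g : Matrix (Fin 2) (Fin 2) F).trace = l + m) (hd : l * m = 1) :
    Nat.card (Subgroup.centralizer ({g} : Set (SpecialLinearGroup (Fin 2) F))) = Fintype.card F - 1 := by
  have hd' : (g : Matrix (Fin 2) (Fin 2) F).det = l * m := by rw [hd, g.det_coe]
  have hs : ¬ IsScal (g : Matrix (Fin 2) (Fin 2) F) := by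
    rintro ⟨h1, h2, h3⟩
    rw [trace_fin_two, h3] at ht
    rw [det_fin_two, h1, h3] at hd'
    apply h
    have : (l - m) ^ 2 = 0 := by
      have : (l - m) ^ 2 = (l + m) ^ 2 - 4 * (l * m) := by ring
      rw [this, ← ht, ← hd']
      ring
    exact sub_eq_zero.1 (pow_eq_zero_iff two_ne_zero |>.1 this)
  rw [Nat.card_congr (slCentralizerEquiv g hs), ht]
  have := card_split_eq_one l m h
  rw [hd] at this
  simpa using this

theorem sl_card_centralizer_aniso (g : SpecialLinearGroup (Fin 2) F)
    (h : ¬ HasEig (g : Matrix (Fin 2) (Fin 2) F)) :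
    Nat.card (Subgroup.centralizer ({g} : Set (SpecialLinearGroup (Fin 2) F))) = Fintype.card F + 1 := by
  rw [Nat.card_congr (slCentralizerEquiv g (not_isScal_of_not_hasEig h))]
  rw [hasEig_iff, g.det_coe] at h
  have := card_aniso_eq_one _ _ h
  simpa using this

/-- centraliser order in `GL₂` of a non-scalar element with a double eigenvalue -/
theorem gl_card_centralizer_unip (g : GL (Fin 2) F) (l : F) (hs : ¬ IsScal (g : Matrix (Fin 2) (Fin 2) F))
    (ht : (g : Matrix (Fin 2) (Fin 2) F).trace = l + l) (hd : (g : Matrix (Fin 2) (Fin 2) F).det = l * l) :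
    Nat.card (Subgroup.centralizer ({g} : Set (GL (Fin 2) F))) = (Fintype.card F - 1) * Fintype.card F := by
  classical
  rw [Nat.card_congr (glCentralizerEquiv g hs), ht, hd]
  have e1 : {p : F × F // p.1 ^ 2 + (l + l) * p.1 * p.2 + (l * l) * p.2 ^ 2 ≠ 0} ≃ Fˣ × F :=
    { toFun := fun p => (Units.mk0 (p.1.1 + l * p.1.2) (by
        intro h
        apply p.2
        have : p.1.1 ^ 2 + (l + l) * p.1.1 * p.1.2 + (l * l) * p.1.2 ^ 2 = (p.1.1 + l * p.1.2) ^ 2 := by ring
        rw [this, h]
        simp), p.1.2)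
      invFun := fun p => ⟨(p.1 - l * p.2, p.2), by
        have : (p.1 - l * p.2 : F) ^ 2 + (l + l) * (p.1 - l * p.2) * p.2 + (l * l) * p.2 ^ 2 = (p.1 : F) ^ 2 := by
          ring
        simp only [this]
        exact pow_ne_zero 2 p.1.ne_zero⟩
      left_inv := by
        rintro ⟨⟨x, y⟩, h⟩
        simp
      right_inv := by
        rintro ⟨u, y⟩
        simp }
  rw [Nat.card_congr e1, Nat.card_prod, card_units, Nat.card_eq_fintype_card]

/-- centraliser order in `SL₂` of a non-scalar element with eigenvalue `l`, `l² = 1` -/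
theorem sl_card_centralizer_unip (g : SpecialLinearGroup (Fin 2) F) (l : F)
    (hs : ¬ IsScal (g : Matrix (Fin 2) (Fin 2) F))
    (ht : (g : Matrix (Fin 2) (Fin 2) F).trace = l + l) (hl : l * l = 1) :
    Nat.card (Subgroup.centralizer ({g} : Set (SpecialLinearGroup (Fin 2) F))) =
      Nat.card {x : F // x ^ 2 = 1} * Fintype.card F := by
  classical
  rw [Nat.card_congr (slCentralizerEquiv g hs), ht]
  have e1 : {p : F × F // p.1 ^ 2 + (l + l) * p.1 * p.2 + p.2 ^ 2 = 1} ≃ {x : F // x ^ 2 = 1} × F :=
    { toFun := fun p => (⟨p.1.1 + l * p.1.2, by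
        have := p.2
        linear_combination this + p.1.2 ^ 2 * hl⟩, p.1.2)
      invFun := fun p => ⟨(p.1 - l * p.2, p.2), by
        have := p.1.2
        simp only
        linear_combination this - p.2 ^ 2 * hl⟩
      left_inv := by
        rintro ⟨⟨x, y⟩, h⟩
        simp
      right_inv := by
        rintro ⟨u, y⟩
        simp }
  rw [Nat.card_congr e1, Nat.card_prod, Nat.card_eq_fintype_card (α := F)]

end H43.GL2Count
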