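import Cfsg.Agent.Lib.H43.SLIrr
import Cfsg.Agent.S2331

/-!
Irreducible characters of `SL₂` over a finite field: counting tools, and the case of even `q`.
-/
set_option autoImplicit false

namespace H43.SLCount

open Matrix H43.GL2Basic H43.GL2Card H43.Lines H43.IndTrans H43.Principal H43.GLIrr H43.SL2Conj H43.SLIrr Cfsg
open H18.CharBasic H18.CharOrtho H18.CharInd H18.CharQuot
open scoped ComplexConjugate

/-- cardinality of the range of a two-to-one map -/
theorem card_range_two {A B : Type*} [Finite A] (f : A → B) (σ : A → A) (hσ : ∀ a, f (σ a) = f a)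
    (hσ1 : ∀ a, σ a ≠ a) (hf : ∀ a b, f a = f b → b = a ∨ b = σ a) :
    Nat.card A = 2 * Nat.card (Set.range f) := by
  classical
  have : Fintype A := Fintype.ofFinite A
  have : Fintype (Set.range f) := Fintype.ofFinite _
  rw [Nat.card_congr (Equiv.sigmaFiberEquiv (Set.rangeFactorization f)).symm, Nat.card_eq_fintype_card,
    Fintype.card_sigma]
  have h : ∀ b : Set.range f, Fintype.card {a // Set.rangeFactorization f a = b} = 2 := by
    rintro ⟨_, a, rfl⟩
    rw [Fintype.card_subtype]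
    have : (Finset.univ.filter (fun x => Set.rangeFactorization f x = ⟨f a, a, rfl⟩)) = {a, σ a} := by
      ext x
      simp only [Finset.mem_filter, Finset.mem_univ, true_and, Finset.mem_insert, Finset.mem_singleton]
      constructor
      · intro hx
        exact hf a x (congrArg Subtype.val hx).symm
      · rintro (rfl | rfl)
        · rfl
        · exact Subtype.ext (hσ a)
    rw [this, Finset.card_pair (hσ1 a).symm]
  simp only [h, Finset.sum_const, Finset.card_univ, smul_eq_mul]
  rw [Nat.card_eq_fintype_card, mul_comm]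

section general
variable {G : Type*} [Group G] {I : Type*} (f : I → IrrCharacter G) (hf : Function.Injective f)

/-- the complement of the range of a family of irreducible characters -/
abbrev Rest (f : I → IrrCharacter G) : Type _ := {χ : IrrCharacter G // χ ∉ Set.range f}

noncomputable def split : I ⊕ Rest f ≃ IrrCharacter G := by
  classical
  exact (Equiv.sumCongr (Equiv.ofInjective f hf) (Equiv.refl _)).trans (Equiv.Set.sumCompl (Set.range f))

theorem split_inl (i : I) : split f hf (Sum.inl i) = f i := rfl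
theorem split_inr (c : Rest f) : split f hf (Sum.inr c) = c.1 := rfl

end general

variable {F : Type*} [Field F]

local notation "G2" => GL (Fin 2)
local notation "SL2" => Matrix.SpecialLinearGroup (Fin 2)

section Fin
variable [Fintype F] [Fintype (SL2 F)]

/-- irreducible principal series as a map to irreducible characters -/
noncomputable def psS (γ : {γ : MulChar F ℂ // γ ^ 2 ≠ 1}) : IrrCharacter (SL2 F) :=
  ⟨indFun (BSL F) (thS γ.1), (isIrr_indS_iff γ.1).2 γ.2⟩

theorem card_psS : Nat.card {γ : MulChar F ℂ // γ ^ 2 ≠ 1} =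
    2 * Nat.card (Set.range (psS : {γ : MulChar F ℂ // γ ^ 2 ≠ 1} → IrrCharacter (SL2 F))) := by
  refine card_range_two psS (fun γ => ⟨γ.1⁻¹, by
      rw [inv_pow, Ne, inv_eq_one]; exact γ.2⟩) ?_ ?_ ?_
  · rintro ⟨γ, h⟩
    exact Subtype.ext ((indS_eq_iff _ _).2 (Or.inr rfl))
  · rintro ⟨γ, h⟩ heq
    have h1 : γ⁻¹ = γ := congrArg Subtype.val heq
    exact h ((eq_inv_iff γ).1 h1.symm)
  · rintro ⟨a, ha⟩ ⟨b, hb⟩ h
    rcases (indS_eq_iff _ _).1 (congrArg Subtype.val h) with h1 | h1
    · left; exact Subtype.ext h1.symm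
    · right; apply Subtype.ext; have h1' : a = b⁻¹ := h1
      change b = a⁻¹; rw [h1', inv_inv]

omit [Fintype (SL2 F)] in
theorem card_sq_ne_one : Nat.card {γ : MulChar F ℂ // γ ^ 2 ≠ 1} + Nat.card {γ : MulChar F ℂ // γ ^ 2 = 1} =
    Fintype.card F - 1 := by
  classical
  rw [← card_mulChar (F := F), add_comm, ← Nat.card_sum]
  exact Nat.card_congr (Equiv.sumCompl (fun γ : MulChar F ℂ => γ ^ 2 = 1))

variable (F) in
/-- the set of irreducible principal series characters -/
abbrev PS := Set.range (psS : {γ : MulChar F ℂ // γ ^ 2 ≠ 1} → IrrCharacter (SL2 F))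

variable (F) in
/-- index type of the basic irreducible characters -/
abbrev BI := Unit ⊕ Unit ⊕ PS F

/-- the basic irreducible characters: trivial, Steinberg, principal series -/
noncomputable def bas : BI F → IrrCharacter (SL2 F)
  | Sum.inl _ => ⟨fun _ => 1, isIrrCharacter_one⟩
  | Sum.inr (Sum.inl _) => ⟨StS F, isIrr_StS⟩
  | Sum.inr (Sum.inr s) => s.1

theorem psS_one (s : PS F) :
    ((s : IrrCharacter (SL2 F)) : SL2 F → ℂ) 1 = (Fintype.card F : ℂ) + 1 := by
  obtain ⟨_, γ, rfl⟩ := s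
  exact indS_one γ.1

theorem bas_degree (a : BI F) :
    (bas a : SL2 F → ℂ) 1 = match a with
    | Sum.inl _ => 1
    | Sum.inr (Sum.inl _) => (Fintype.card F : ℂ)
    | Sum.inr (Sum.inr _) => (Fintype.card F : ℂ) + 1 := by
  match a with
  | Sum.inl _ => rfl
  | Sum.inr (Sum.inl _) => exact StS_one
  | Sum.inr (Sum.inr s) => exact psS_one s

theorem bas_injective : Function.Injective
    (bas (F := F)) := by
  obtain ⟨n1, n2, n3⟩ := q_ne (F := F)
  intro a b h
  have h2 : (bas a : SL2 F → ℂ) 1 = (bas b : SL2 F → ℂ) 1 := by rw [h]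
  rw [bas_degree, bas_degree] at h2
  match a, b with
  | Sum.inl _, Sum.inl _ => rfl
  | Sum.inl _, Sum.inr (Sum.inl _) => exact absurd h2 n1
  | Sum.inl _, Sum.inr (Sum.inr s) => exact absurd h2 n2
  | Sum.inr (Sum.inl _), Sum.inl _ => exact absurd h2.symm n1
  | Sum.inr (Sum.inl _), Sum.inr (Sum.inl _) => rfl
  | Sum.inr (Sum.inl _), Sum.inr (Sum.inr s) => exact absurd h2 n3
  | Sum.inr (Sum.inr s), Sum.inl _ => exact absurd h2.symm n2
  | Sum.inr (Sum.inr s), Sum.inr (Sum.inl _) => exact absurd h2.symm n3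
  | Sum.inr (Sum.inr s), Sum.inr (Sum.inr t) =>
    have h3 : s.1 = t.1 := h
    rw [Subtype.ext h3]

section even

omit [Fintype (SL2 F)] in
theorem conj_cjg_even (h2 : (2 : F) = 0) (x : G2 F) (g : SL2 F) : IsConj g (cjg x g) := by
  by_cases hg : IsScal (g : Matrix (Fin 2) (Fin 2) F)
  · have h1 : IsConj (Matrix.SpecialLinearGroup.toGL g) (Matrix.SpecialLinearGroup.toGL (cjg x g)) :=
      isConj_iff.2 ⟨x, (toGL_cjg x g).symm⟩
    have h3 := gl_eq_of_conj_scal h1 hg
    rw [← Matrix.SpecialLinearGroup.toGL_injective h3]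
  · have h1 := conj_cSL_of_char_two h2 g hg
    have h3 := conj_cSL_of_char_two h2 (cjg x g) (fun h => hg ((isScal_cjg x g).1 h))
    rw [trace_cjg] at h3
    exact h1.trans h3.symm

variable [Fintype (G2 F)]

theorem irr_res_even (h2 : (2 : F) = 0) (c : CuspIrr F) : IsIrrCharacter (SL2 F) (res (c.1 : G2 F → ℂ)) := by
  have hc := isCharacter_res (isCharacter_of_isIrr c.1.2)
  rcases norm_res_cusp c with h | h
  · exact isIrr_of_norm_one hc h
  · exfalso
    obtain ⟨θ, hθ, hne⟩ := exists_constituent hc (by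
      intro h0
      rw [h0] at h
      have : classInner (0 : SL2 F → ℂ) 0 = 0 := by simp [classInner]
      rw [this] at h
      norm_num at h)
    obtain ⟨φ, hφ, hne2, -, x, hx⟩ := split_structure c.1.2 h hθ hne
    apply hne2
    funext g
    rw [hx g]
    exact classFunction_isConj (isClassFunction_of_isIrr hθ) (conj_cjg_even h2 x g)

omit [Fintype (SL2 F)] [Fintype (G2 F)] in
theorem even_card (h2 : (2 : F) = 0) : Even (Fintype.card F) := by
  have := FiniteField.even_card_of_char_two (ringChar_eq_two h2)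
  exact Nat.even_iff.2 this

omit [Fintype (SL2 F)] [Fintype (G2 F)] in
theorem sq_one_even (h2 : (2 : F) = 0) {γ : MulChar F ℂ} (h : γ ^ 2 = 1) : γ = 1 := by
  have h1 : γ ^ (Fintype.card F - 1) = 1 := by
    have : Fintype (MulChar F ℂ) := Fintype.ofFinite _
    rw [← card_mulChar (F := F), Nat.card_eq_fintype_card]
    exact pow_card_eq_one
  have h3 := even_card h2
  have h4 : Odd (Fintype.card F - 1) := Nat.Even.sub_odd Fintype.card_pos h3 odd_one
  obtain ⟨k, hk⟩ := h4
  rw [hk, pow_succ, pow_mul, h, one_pow, one_mul] at h1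
  exact h1

theorem cases_even (h2 : (2 : F) = 0) {θ : SL2 F → ℂ} (hθ : IsIrrCharacter (SL2 F) θ) :
    (θ = fun _ => 1) ∨ θ = StS F ∨ (∃ γ : MulChar F ℂ, γ ^ 2 ≠ 1 ∧ θ = indFun (BSL F) (thS γ)) ∨
    (∃ c : CuspIrr F, θ = res (c.1 : G2 F → ℂ)) := by
  rcases cases hθ with h | h | h | ⟨γ, h1, h3, -⟩ | ⟨c, hne⟩
  · exact Or.inl h
  · exact Or.inr (Or.inl h)
  · exact Or.inr (Or.inr (Or.inl h))
  · exact absurd (sq_one_even h2 h1) h3
  · refine Or.inr (Or.inr (Or.inr ⟨c, ?_⟩))
    by_contra hcon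
    exact hne (inner_irr_ne (irr_res_even h2 c) hθ (fun h' => hcon h'.symm))

theorem rest_degree_even (h2 : (2 : F) = 0) (r : Rest (bas (F := F))) :
    (r.1 : SL2 F → ℂ) 1 = (Fintype.card F : ℂ) - 1 := by
  rcases cases_even h2 r.1.2 with h | h | ⟨γ, hγ, h⟩ | ⟨c, h⟩
  · exact absurd ⟨Sum.inl (), Subtype.ext h.symm⟩ r.2
  · exact absurd ⟨Sum.inr (Sum.inl ()), Subtype.ext h.symm⟩ r.2
  · exact absurd ⟨Sum.inr (Sum.inr ⟨psS ⟨γ, hγ⟩, ⟨γ, hγ⟩, rfl⟩), Subtype.ext h.symm⟩ r.2
  · rw [h, res_one, (cusp_degree c).1]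

omit [Fintype (G2 F)] in
theorem card_rest_even [CharP F 2] :
    2 * Nat.card (Rest (bas (F := F))) = Fintype.card F ∧
    2 * Nat.card (PS F) =
      Fintype.card F - 2 := by
  have h2 : (2 : F) = 0 := by exact_mod_cast CharP.cast_eq_zero F 2
  have h1 := Nat.card_congr (split (bas (F := F)) bas_injective)
  rw [card_irr_eq_card_conjClasses, Cfsg.Agent.S2331.result, Nat.card_sum, Nat.card_sum, Nat.card_sum] at h1
  have h3 := card_psS (F := F)
  have h4 := card_sq_ne_one (F := F)
  have h5 : Nat.card {γ : MulChar F ℂ // γ ^ 2 = 1} = 1 := by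
    rw [Nat.card_eq_one_iff_unique]
    refine ⟨⟨?_⟩, ⟨⟨1, one_pow 2⟩⟩⟩
    rintro ⟨a, ha⟩ ⟨b, hb⟩
    exact Subtype.ext ((sq_one_even h2 ha).trans (sq_one_even h2 hb).symm)
  have hq := Fintype.one_lt_card (α := F)
  simp only [Nat.card_unique] at h1
  rw [show Nat.card (Set.range (psS (F := F))) = Nat.card (PS F) from rfl] at h3
  constructor <;> omega

open Classical in
theorem card_deg_even (h2 : (2 : F) = 0) (d : ℂ) : Nat.card {χ : IrrCharacter (SL2 F) // (χ : SL2 F → ℂ) 1 = d} =
    (if (1 : ℂ) = d then 1 else 0) +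
    ((if (Fintype.card F : ℂ) = d then 1 else 0) +
    (if (Fintype.card F : ℂ) + 1 = d then
      Nat.card (PS F) else 0)) +
    (if (Fintype.card F : ℂ) - 1 = d then Nat.card (Rest (bas (F := F))) else 0) := by
  have e1 : {χ : IrrCharacter (SL2 F) // (χ : SL2 F → ℂ) 1 = d} ≃
      {y : BI F ⊕ Rest (bas (F := F)) // (split bas bas_injective y : SL2 F → ℂ) 1 = d} :=
    (Equiv.subtypeEquiv (split bas bas_injective) (fun y => Iff.rfl)).symm
  have e2 : {y : BI F ⊕ Rest (bas (F := F)) // (split bas bas_injective y : SL2 F → ℂ) 1 = d} ≃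
      {a : BI F // (bas a : SL2 F → ℂ) 1 = d} ⊕ {c : Rest (bas (F := F)) // (c.1 : SL2 F → ℂ) 1 = d} :=
    Equiv.subtypeSum
  have e3 : {a : BI F // (bas a : SL2 F → ℂ) 1 = d} ≃
      {_a : Unit // (1 : ℂ) = d} ⊕ {y : Unit ⊕ PS F // (bas (Sum.inr y) : SL2 F → ℂ) 1 = d} := (Equiv.subtypeSum).trans
        (Equiv.sumCongr (Equiv.subtypeEquivRight (fun a => by rw [bas_degree])) (Equiv.refl _))
  have e4 : {y : Unit ⊕ PS F // (bas (Sum.inr y) : SL2 F → ℂ) 1 = d} ≃
        {_a : Unit // (Fintype.card F : ℂ) = d} ⊕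
        {_s : PS F //
          (Fintype.card F : ℂ) + 1 = d} := (Equiv.subtypeSum).trans
        (Equiv.sumCongr (Equiv.subtypeEquivRight (fun a => by rw [bas_degree]))
          (Equiv.subtypeEquivRight (fun a => by rw [bas_degree])))
  have e5 : {c : Rest (bas (F := F)) // (c.1 : SL2 F → ℂ) 1 = d} ≃
      {_c : Rest (bas (F := F)) // (Fintype.card F : ℂ) - 1 = d} :=
    Equiv.subtypeEquivRight (fun c => by rw [rest_degree_even h2 c])
  rw [Nat.card_congr e1, Nat.card_congr e2, Nat.card_sum, Nat.card_congr e3, Nat.card_congr e5, Nat.card_sum,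
    Nat.card_congr e4, Nat.card_sum, card_const, card_const, card_const, card_const]
  simp only [Nat.card_unique]

end even

end Fin

end H43.SLCount
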