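import Cfsg.Agent.Lib.H43.Principal
import Cfsg.Agent.Lib.H18.CharQuot
import Cfsg.Agent.S2330

/-!
The irreducible characters of `GL₂` over a finite field: degrees, and value at unipotent elements.
-/
set_option autoImplicit false

namespace H43.GLIrr

open Matrix H43.GL2Basic H43.GL2Card H43.Lines H43.IndTrans H43.Principal Cfsg
open H18.CharBasic H18.CharOrtho H18.CharInd H18.CharQuot
open scoped ComplexConjugate

variable {F : Type*} [Field F]

local notation "G2" => GL (Fin 2)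

/-- the linear character `α ∘ det` -/
noncomputable def dl (α : MulChar F ℂ) : G2 F → ℂ := fun g => α (g : Matrix (Fin 2) (Fin 2) F).det

noncomputable def dlHom (α : MulChar F ℂ) : G2 F →* ℂˣ := α.toUnitHom.comp GeneralLinearGroup.det

theorem dlHom_coe (α : MulChar F ℂ) : (fun g => ((dlHom α g : ℂˣ) : ℂ)) = dl α := by
  funext g
  simp [dlHom, dl]

theorem isIrr_dl (α : MulChar F ℂ) : IsIrrCharacter (G2 F) (dl α) := by
  rw [← dlHom_coe]; exact isIrrCharacter_of_hom _

theorem dl_one (α : MulChar F ℂ) : dl α 1 = 1 := by simp [dl]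

theorem diag_surj (a : Fˣ) : ∃ g : G2 F, (g : Matrix (Fin 2) (Fin 2) F) = !![(a : F), 0; 0, 1] :=
  ⟨GeneralLinearGroup.mkOfDetNeZero !![(a : F), 0; 0, 1] (by simp), rfl⟩

theorem dl_injective : Function.Injective (dl : MulChar F ℂ → _) := by
  intro α β h
  apply MulChar.ext
  intro a
  obtain ⟨g, hg⟩ := diag_surj a
  have := congrFun h g
  simp only [dl, hg] at this
  simpa using this

/-- the unipotent element `!![1, x; 0, 1]` -/
def u (x : F) : G2 F := ⟨!![1, x; 0, 1], !![1, -x; 0, 1], by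
  ext i j; fin_cases i <;> fin_cases j <;> simp, by
  ext i j; fin_cases i <;> fin_cases j <;> simp⟩

theorem u_coe (x : F) : (u x : Matrix (Fin 2) (Fin 2) F) = !![1, x; 0, 1] := rfl

theorem u_zero : (u (0 : F)) = 1 := by
  ext i j; rw [u_coe]; fin_cases i <;> fin_cases j <;> simp

theorem u_conj {x : F} (hx : x ≠ 0) : IsConj (u (1 : F)) (u x) := by
  apply gl_conj_of_trace_det
  · rw [u_coe]; simp [IsScal]
  · rw [u_coe]; simp [IsScal, hx]
  · rw [u_coe, u_coe]; simp [trace_fin_two]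
  · rw [u_coe, u_coe]; simp [det_fin_two]

section Fin
variable [Fintype F] [Fintype (G2 F)]

/-- the Steinberg character of `GL₂` -/
noncomputable def St (F : Type*) [Field F] [Fintype (G2 F)] : G2 F → ℂ :=
  indFun (upperTriangularGL 2 F) (th 1 1) - fun _ => 1

omit [Fintype F] [Fintype (G2 F)] in
theorem th_one_one : (th (1 : MulChar F ℂ) 1) = fun _ => 1 := by
  funext b
  obtain ⟨h1, h2⟩ := B_diag_ne_zero b
  simp only [th]
  rw [MulChar.one_apply (isUnit_iff_ne_zero.2 h1), MulChar.one_apply (isUnit_iff_ne_zero.2 h2), one_mul]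

theorem inner_one : classInner (indFun (upperTriangularGL 2 F) (th 1 1)) (fun _ => 1 : G2 F → ℂ) = 1 := by
  have : Fintype (upperTriangularGL 2 F) := Fintype.ofFinite _
  rw [H18.CharInd.frobenius _ _ (isClassFunction_const 1), th_one_one]
  exact inner_irr_self isIrrCharacter_one

theorem isIrr_St : IsIrrCharacter (G2 F) (St F) := by
  classical
  have h1 : IsIrrCharacter (G2 F) (fun _ => 1 : G2 F → ℂ) := isIrrCharacter_one
  have hI := isCharacter_ind (1 : MulChar F ℂ) 1
  have h2 := inner_one (F := F)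
  have hn := inner_ind (1 : MulChar F ℂ) 1 1 1
  have hone : indFun (upperTriangularGL 2 F) (th (1 : MulChar F ℂ) 1) 1 = (Fintype.card F : ℂ) + 1 := by
    rw [ind_apply_B _ _ _ (by simp)]
    simp only [Units.val_one, Matrix.one_apply_eq, ne_eq, zero_ne_one, not_false_eq_true, Matrix.one_apply_ne,
      N_self_zero]
    simp
    ring
  unfold St
  generalize indFun (upperTriangularGL 2 F) (th (1 : MulChar F ℂ) 1) = I at hI h2 hn hone ⊢
  have h3 : classInner (fun _ => 1 : G2 F → ℂ) I = 1 := by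
    rw [← H18.CharOrtho.inner_conj_symm, h2]; simp
  apply isIrr_of_gen_norm_one
  · exact isGen_sub (isGen_of_isCharacter hI) (isGen_of_isIrr h1)
  · rw [H18.CharOrtho.inner_sub_left, H18.CharOrtho.inner_sub_right, H18.CharOrtho.inner_sub_right, h2, h3, hn,
      inner_irr_self h1]
    simp
  · rw [Pi.sub_apply, hone]
    simp
    exact Fintype.card_pos

theorem St_apply_B (g : G2 F) (hg : (g : Matrix (Fin 2) (Fin 2) F) 1 0 = 0) :
    St F g = N ((g : Matrix (Fin 2) (Fin 2) F) 0 0) ((g : Matrix (Fin 2) (Fin 2) F) 1 1)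
      ((g : Matrix (Fin 2) (Fin 2) F) 0 1) := by
  unfold St
  rw [Pi.sub_apply, ind_apply_B _ _ _ hg]
  obtain ⟨h1, h2⟩ := B_diag_ne_zero ⟨g, (mem_B g).2 hg⟩
  simp only at h1 h2
  rw [MulChar.one_apply (isUnit_iff_ne_zero.2 h1), MulChar.one_apply (isUnit_iff_ne_zero.2 h2)]
  ring

theorem St_one : St F 1 = Fintype.card F := by
  rw [St_apply_B _ (by simp)]
  simp [N_self_zero]

theorem St_apply_not (g : G2 F) (hg : ¬ HasEig (g : Matrix (Fin 2) (Fin 2) F)) : St F g = -1 := by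
  unfold St
  rw [Pi.sub_apply, ind_apply_not _ _ _ hg]
  ring

theorem St_diag (g : G2 F) (h10 : (g : Matrix (Fin 2) (Fin 2) F) 1 0 = 0)
    (h : (g : Matrix (Fin 2) (Fin 2) F) 0 0 ≠ (g : Matrix (Fin 2) (Fin 2) F) 1 1) : St F g = 1 := by
  rw [St_apply_B _ h10, N_of_ne h]; simp

theorem St_u {x : F} (hx : x ≠ 0) : St F (u x) = 0 := by
  rw [St_apply_B _ (by rw [u_coe]; rfl)]
  simp [u_coe, N_self_ne _ hx]

/-- twisted Steinberg characters -/
noncomputable def StT (α : MulChar F ℂ) : G2 F → ℂ := fun g => dl α g * St F g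

theorem isIrr_StT (α : MulChar F ℂ) : IsIrrCharacter (G2 F) (StT α) := by
  have := isIrrCharacter_hom_mul (dlHom α) (isIrr_St (F := F))
  have h2 : StT α = fun g => ((dlHom α g : ℂˣ) : ℂ) * St F g := by
    funext g
    simp only [StT, ← dlHom_coe]
  rw [h2]
  exact this

theorem StT_one (α : MulChar F ℂ) : StT α 1 = Fintype.card F := by
  simp only [StT, dl_one, St_one, one_mul]

theorem StT_injective : Function.Injective (StT : MulChar F ℂ → G2 F → ℂ) := by
  intro α β h
  apply MulChar.ext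
  intro a
  by_cases ha : (a : F) = 1
  · rw [ha, map_one, map_one]
  obtain ⟨g, hg⟩ := diag_surj a
  have := congrFun h g
  have hs : St F g = 1 := by
    apply St_diag
    · rw [hg]; rfl
    · rw [hg]; exact ha
  simp only [StT, hs, mul_one, dl, hg] at this
  simpa using this

omit [Fintype F] in
theorem ind_self (α : MulChar F ℂ) : indFun (upperTriangularGL 2 F) (th α α) = dl α + StT α := by
  have h1 : th α α = fun h : upperTriangularGL 2 F => (th 1 1) h * dl α h := by
    funext b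
    rw [th_one_one]
    simp only [th, dl, one_mul]
    have hb := (mem_B (b : G2 F)).1 b.2
    rw [det_fin_two, hb, mul_zero, sub_zero, map_mul]
  rw [h1]
  have h2 := indFun_mul_restrict (upperTriangularGL 2 F) (th 1 1) (isClassFunction_of_isIrr (isIrr_dl α))
  rw [h2]
  funext g
  simp only [Pi.add_apply, StT, St, Pi.sub_apply, Pi.mul_apply]
  ring

theorem ind_one (α β : MulChar F ℂ) : indFun (upperTriangularGL 2 F) (th α β) 1 = (Fintype.card F : ℂ) + 1 := by
  rw [ind_apply_B _ _ _ (by simp)]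
  simp only [Units.val_one, Matrix.one_apply_eq, ne_eq, zero_ne_one, not_false_eq_true, Matrix.one_apply_ne,
    N_self_zero]
  simp
  ring

/-- `χ` is cuspidal: the sum over the unipotent radical vanishes -/
def Cusp (χ : G2 F → ℂ) : Prop := ∑ x : F, χ (u x) = 0

/-- if `χ` is orthogonal to all principal series then its sums over all cosets `t U` vanish -/
theorem sum_coset_of_orth {χ : G2 F → ℂ} (hχ : IsClassFunction (G2 F) χ)
    (h : ∀ α β : MulChar F ℂ, classInner χ (indFun (upperTriangularGL 2 F) (th α β)) = 0) (a₀ d₀ : Fˣ) :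
    ∑ x : F, χ ((BEquiv F ((a₀, d₀), x) : G2 F)) = 0 := by
  classical
  have : Fintype (upperTriangularGL 2 F) := Fintype.ofFinite _
  have : Fintype (MulChar F ℂ) := Fintype.ofFinite _
  -- f a d = sum over x
  let f : Fˣ → Fˣ → ℂ := fun a d => ∑ x : F, χ ((BEquiv F ((a, d), x) : G2 F))
  have h1 : ∀ α β : MulChar F ℂ, ∑ a : Fˣ, ∑ d : Fˣ, f a d * (α⁻¹ (a : F) * β⁻¹ (d : F)) = 0 := by
    intro α β
    have h2 := h α β
    rw [H18.CharInd.frobenius' _ _ hχ] at h2
    unfold classInner at h2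
    have h3 : (Nat.card (upperTriangularGL 2 F) : ℂ)⁻¹ ≠ 0 := by
      apply inv_ne_zero
      exact_mod_cast Nat.card_pos.ne'
    have h4 := (mul_eq_zero.1 h2).resolve_left h3
    rw [← (BEquiv F).sum_comp, Fintype.sum_prod_type, Fintype.sum_prod_type] at h4
    rw [← h4]
    refine Finset.sum_congr rfl (fun a _ => Finset.sum_congr rfl (fun d _ => ?_))
    rw [Finset.sum_mul]
    refine Finset.sum_congr rfl (fun x _ => ?_)
    have e00 : ((BEquiv F ((a, d), x) : GL (Fin 2) F) : Matrix (Fin 2) (Fin 2) F) 0 0 = a := rfl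
    have e11 : ((BEquiv F ((a, d), x) : GL (Fin 2) F) : Matrix (Fin 2) (Fin 2) F) 1 1 = d := rfl
    simp only [th, e00, e11, map_mul, conj_mulChar]
  -- orthogonality: sum over characters
  have horth0 : ∀ a : Fˣ, ∑ α : MulChar F ℂ, α⁻¹ (a : F) = if a = 1 then (Fintype.card (MulChar F ℂ) : ℂ) else 0 := by
    intro a
    split_ifs with ha
    · subst ha
      simp
    · have ha' : (a : F) ≠ 1 := fun h => ha (Units.ext h)
      obtain ⟨β, hβ⟩ := MulChar.exists_apply_ne_one_of_hasEnoughRootsOfUnity F ℂ ha'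
      have h5 : β (a : F) * ∑ α : MulChar F ℂ, α⁻¹ (a : F) = ∑ α : MulChar F ℂ, α⁻¹ (a : F) := by
        rw [Finset.mul_sum]
        refine Fintype.sum_equiv (Equiv.mulRight β⁻¹) _ _ (fun α => ?_)
        rw [Equiv.coe_mulRight, mul_inv, inv_inv, MulChar.mul_apply, mul_comm]
      have h6 : (β (a : F) - 1) * ∑ α : MulChar F ℂ, α⁻¹ (a : F) = 0 := by
        rw [sub_mul, h5, one_mul, sub_self]
      exact (mul_eq_zero.1 h6).resolve_left (sub_ne_zero.2 hβ)
  have horth : ∀ b a : Fˣ, ∑ α : MulChar F ℂ, α⁻¹ (a : F) * α (b : F) =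
      if a = b then (Fintype.card (MulChar F ℂ) : ℂ) else 0 := by
    intro b a
    have h5 := horth0 (a * b⁻¹)
    simp only [mul_inv_eq_one] at h5
    rw [← h5]
    refine Finset.sum_congr rfl (fun α _ => ?_)
    rw [Units.val_mul, map_mul]
    congr 1
    rw [MulChar.inv_apply, Ring.inverse_unit, inv_inv]
  have h7 : ∑ α : MulChar F ℂ, ∑ β : MulChar F ℂ, (∑ a : Fˣ, ∑ d : Fˣ, f a d * (α⁻¹ (a : F) * β⁻¹ (d : F))) *
      (α (a₀ : F) * β (d₀ : F)) = 0 := by
    apply Finset.sum_eq_zero; intro α _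
    apply Finset.sum_eq_zero; intro β _
    rw [h1 α β, zero_mul]
  have h8 : ∑ α : MulChar F ℂ, ∑ β : MulChar F ℂ, (∑ a : Fˣ, ∑ d : Fˣ, f a d * (α⁻¹ (a : F) * β⁻¹ (d : F))) *
      (α (a₀ : F) * β (d₀ : F)) =
      ∑ a : Fˣ, ∑ d : Fˣ, f a d * ((∑ α : MulChar F ℂ, α⁻¹ (a : F) * α (a₀ : F)) *
        (∑ β : MulChar F ℂ, β⁻¹ (d : F) * β (d₀ : F))) := by
    have e1 : ∀ α : MulChar F ℂ, ∑ β : MulChar F ℂ, (∑ a : Fˣ, ∑ d : Fˣ, f a d * (α⁻¹ (a : F) * β⁻¹ (d : F))) *
        (α (a₀ : F) * β (d₀ : F)) =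
        ∑ a : Fˣ, ∑ d : Fˣ, f a d * ((α⁻¹ (a : F) * α (a₀ : F)) * ∑ β : MulChar F ℂ, β⁻¹ (d : F) * β (d₀ : F)) := by
      intro α
      simp only [Finset.sum_mul]
      rw [Finset.sum_comm]
      refine Finset.sum_congr rfl (fun a _ => ?_)
      rw [Finset.sum_comm]
      refine Finset.sum_congr rfl (fun d _ => ?_)
      rw [Finset.mul_sum, Finset.mul_sum]
      refine Finset.sum_congr rfl (fun β _ => ?_)
      ring
    simp only [e1]
    rw [Finset.sum_comm]
    refine Finset.sum_congr rfl (fun a _ => ?_)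
    rw [Finset.sum_comm]
    refine Finset.sum_congr rfl (fun d _ => ?_)
    rw [← Finset.mul_sum, ← Finset.sum_mul]
  rw [h8] at h7
  simp only [horth] at h7
  rw [Finset.sum_eq_single a₀ (by
      intro a _ ha
      apply Finset.sum_eq_zero
      intro d _
      rw [if_neg ha]; ring) (by simp)] at h7
  rw [Finset.sum_eq_single d₀ (by
      intro a _ ha
      rw [if_neg ha]; ring) (by simp)] at h7
  rw [if_pos rfl, if_pos rfl] at h7
  have h9 : (Fintype.card (MulChar F ℂ) : ℂ) ≠ 0 := by exact_mod_cast Fintype.card_ne_zero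
  rcases mul_eq_zero.1 h7 with h | h
  · exact h
  · exact absurd h (mul_ne_zero h9 h9)

/-- if `χ` is orthogonal to all principal series then it is cuspidal -/
theorem cusp_of_orth {χ : G2 F → ℂ} (hχ : IsClassFunction (G2 F) χ)
    (h : ∀ α β : MulChar F ℂ, classInner χ (indFun (upperTriangularGL 2 F) (th α β)) = 0) : Cusp χ := by
  unfold Cusp
  rw [← sum_coset_of_orth hχ h 1 1]
  refine Finset.sum_congr rfl (fun x _ => ?_)
  congr 1
  apply Units.ext
  ext i j
  fin_cases i <;> fin_cases j <;> rfl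

/-- a class function orthogonal to all principal series vanishes at split regular elements -/
theorem split_of_orth {χ : G2 F → ℂ} (hχ : IsClassFunction (G2 F) χ)
    (h : ∀ α β : MulChar F ℂ, classInner χ (indFun (upperTriangularGL 2 F) (th α β)) = 0) (g : G2 F)
    (h10 : (g : Matrix (Fin 2) (Fin 2) F) 1 0 = 0)
    (hne : (g : Matrix (Fin 2) (Fin 2) F) 0 0 ≠ (g : Matrix (Fin 2) (Fin 2) F) 1 1) : χ g = 0 := by
  obtain ⟨h0, h1⟩ := B_diag_ne_zero ⟨g, (mem_B g).2 h10⟩
  simp only at h0 h1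
  have h2 := sum_coset_of_orth hχ h (Units.mk0 _ h0) (Units.mk0 _ h1)
  have h3 : ∀ x : F, χ ((BEquiv F ((Units.mk0 _ h0, Units.mk0 _ h1), x) : G2 F)) = χ g := by
    intro x
    apply classFunction_isConj hχ
    apply gl_conj_of_trace_det
    · rintro ⟨-, -, h4⟩
      exact hne h4
    · rintro ⟨-, -, h4⟩
      exact hne h4
    · rw [trace_fin_two, trace_fin_two]; rfl
    · rw [det_fin_two, det_fin_two, h10]
      have e00 : ((BEquiv F ((Units.mk0 _ h0, Units.mk0 _ h1), x) : G2 F) : Matrix (Fin 2) (Fin 2) F) 0 0 =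
        (g : Matrix (Fin 2) (Fin 2) F) 0 0 := rfl
      have e10 : ((BEquiv F ((Units.mk0 _ h0, Units.mk0 _ h1), x) : G2 F) : Matrix (Fin 2) (Fin 2) F) 1 0 = 0 := rfl
      have e11 : ((BEquiv F ((Units.mk0 _ h0, Units.mk0 _ h1), x) : G2 F) : Matrix (Fin 2) (Fin 2) F) 1 1 =
        (g : Matrix (Fin 2) (Fin 2) F) 1 1 := rfl
      rw [e00, e10, e11]; ring
  simp only [h3] at h2
  rw [Finset.sum_const, Finset.card_univ, nsmul_eq_mul] at h2
  have h4 : (Fintype.card F : ℂ) ≠ 0 := by exact_mod_cast Fintype.card_ne_zero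
  exact (mul_eq_zero.1 h2).resolve_left h4

omit [Fintype (G2 F)] in
/-- the degree and the value at unipotent elements of a cuspidal character -/
theorem cusp_values {χ : G2 F → ℂ} (hχ : IsIrrCharacter (G2 F) χ) (hc : Cusp χ) :
    ∃ k : ℕ, 0 < k ∧ χ 1 = ((Fintype.card F : ℂ) - 1) * k ∧ ∀ x : F, x ≠ 0 → χ (u x) = -k := by
  classical
  have hcf := isClassFunction_of_isIrr hχ
  have hval : ∀ x : F, x ≠ 0 → χ (u x) = χ (u 1) := fun x hx => (classFunction_isConj hcf (u_conj hx)).symm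
  have hq1 : (Fintype.card F : ℂ) - 1 ≠ 0 := by
    rw [sub_ne_zero]; exact_mod_cast (Fintype.one_lt_card (α := F)).ne'
  have h1 : χ 1 + ((Fintype.card F : ℂ) - 1) * χ (u 1) = 0 := by
    unfold Cusp at hc
    rw [← Finset.add_sum_erase _ _ (Finset.mem_univ (0 : F)), u_zero] at hc
    have h2 : ∑ x ∈ Finset.univ.erase (0 : F), χ (u x) = ∑ x ∈ Finset.univ.erase (0 : F), χ (u 1) :=
      Finset.sum_congr rfl (fun x hx => hval x (Finset.ne_of_mem_erase hx))
    rw [h2, Finset.sum_const, Finset.card_erase_of_mem (Finset.mem_univ _), Finset.card_univ, nsmul_eq_mul,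
      Nat.cast_sub Fintype.card_pos] at hc
    simpa using hc
  obtain ⟨n, hn, hn1⟩ := exists_degree_pos hχ
  have h3 : χ (u 1) = -((n : ℂ) / ((Fintype.card F : ℂ) - 1)) := by
    rw [hn1] at h1
    field_simp
    linear_combination h1
  have h4 : IsIntegral ℤ (χ (u 1)) := char_isIntegral (isCharacter_of_isIrr hχ) _
  have h5 : IsIntegral ℤ (((n : ℚ) / ((Fintype.card F : ℚ) - 1) : ℚ)) := by
    have h6 : IsIntegral ℤ ((((n : ℚ) / ((Fintype.card F : ℚ) - 1) : ℚ)) : ℂ) := by
      have h7 := h4.neg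
      rw [h3, neg_neg] at h7
      push_cast
      exact h7
    exact (isIntegral_algebraMap_iff (algebraMap ℚ ℂ).injective).1 h6
  obtain ⟨k, hk⟩ := IsIntegrallyClosed.isIntegral_iff.1 h5
  have hk' : (k : ℂ) = (n : ℂ) / ((Fintype.card F : ℂ) - 1) := by
    have := congrArg (fun z : ℚ => (z : ℂ)) hk
    push_cast at this
    simpa using this
  have hkq : (k : ℚ) = (n : ℚ) / ((Fintype.card F : ℚ) - 1) := by simpa using hk
  have hkpos : 0 < k := by
    have hq2 : (0 : ℚ) < (Fintype.card F : ℚ) - 1 := by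
      rw [sub_pos]; exact_mod_cast (Fintype.one_lt_card (α := F))
    have : (0 : ℚ) < k := by
      rw [hkq]; positivity
    exact_mod_cast this
  obtain ⟨m, rfl⟩ := Int.eq_ofNat_of_zero_le hkpos.le
  refine ⟨m, by exact_mod_cast hkpos, ?_, ?_⟩
  · rw [hn1]
    have : ((m : ℤ) : ℂ) = (m : ℂ) := by simp
    rw [this] at hk'
    rw [hk']
    field_simp
  · intro x hx
    rw [hval x hx, h3, ← hk']
    simp

open Classical in
/-- index set of the non-cuspidal irreducible characters -/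
abbrev X (F : Type*) [Field F] : Type _ := MulChar F ℂ ⊕ MulChar F ℂ ⊕ {s : Sym2 (MulChar F ℂ) // ¬ s.IsDiag}

/-- principal series on unordered pairs -/
noncomputable def ps : Sym2 (MulChar F ℂ) → (G2 F → ℂ) :=
  Sym2.lift ⟨fun α β => indFun (upperTriangularGL 2 F) (th α β), fun α β =>
    (ind_eq_iff α β β α).2 (Or.inr ⟨rfl, rfl⟩)⟩

theorem ps_mk (α β : MulChar F ℂ) : ps s(α, β) = indFun (upperTriangularGL 2 F) (th α β) := rfl

theorem isIrr_ps (s : {s : Sym2 (MulChar F ℂ) // ¬ s.IsDiag}) : IsIrrCharacter (G2 F) (ps s.1) := by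
  obtain ⟨s, hs⟩ := s
  induction s with
  | _ α β =>
    rw [Sym2.mk_isDiag_iff] at hs
    exact isIrr_ind hs

theorem ps_one (s : Sym2 (MulChar F ℂ)) : ps s 1 = (Fintype.card F : ℂ) + 1 := by
  induction s with
  | _ α β => exact ind_one α β

theorem ps_injective : Function.Injective (ps : Sym2 (MulChar F ℂ) → (G2 F → ℂ)) := by
  intro s t h
  induction s with
  | _ α β =>
    induction t with
    | _ γ δ =>
      rw [ps_mk, ps_mk, ind_eq_iff] at h
      rw [Sym2.eq_iff]
      exact h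

/-- the non-cuspidal irreducible characters -/
noncomputable def nc : X F → IrrCharacter (G2 F)
  | Sum.inl α => ⟨dl α, isIrr_dl α⟩
  | Sum.inr (Sum.inl α) => ⟨StT α, isIrr_StT α⟩
  | Sum.inr (Sum.inr s) => ⟨ps s.1, isIrr_ps s⟩

omit [Fintype (G2 F)] in
theorem q_ne : (1 : ℂ) ≠ (Fintype.card F : ℂ) ∧ (1 : ℂ) ≠ (Fintype.card F : ℂ) + 1 ∧
    (Fintype.card F : ℂ) ≠ (Fintype.card F : ℂ) + 1 := by
  have h := Fintype.one_lt_card (α := F)
  refine ⟨?_, ?_, ?_⟩
  · intro h2
    have : 1 = Fintype.card F := by exact_mod_cast h2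
    omega
  · intro h2
    have : 1 = Fintype.card F + 1 := by exact_mod_cast h2
    omega
  · intro h2
    have : Fintype.card F = Fintype.card F + 1 := by exact_mod_cast h2
    omega

theorem nc_injective : Function.Injective (nc : X F → IrrCharacter (G2 F)) := by
  obtain ⟨n1, n2, n3⟩ := q_ne (F := F)
  intro a b h
  have h1 : (nc a : G2 F → ℂ) = nc b := congrArg Subtype.val h
  have h2 := congrFun h1 1
  match a, b with
  | Sum.inl α, Sum.inl β => exact congrArg _ (dl_injective h1)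
  | Sum.inl α, Sum.inr (Sum.inl β) =>
    exfalso; simp only [nc, dl_one, StT_one] at h2; exact n1 h2
  | Sum.inl α, Sum.inr (Sum.inr s) =>
    exfalso; simp only [nc, dl_one, ps_one] at h2; exact n2 h2
  | Sum.inr (Sum.inl α), Sum.inl β =>
    exfalso; simp only [nc, dl_one, StT_one] at h2; exact n1 h2.symm
  | Sum.inr (Sum.inl α), Sum.inr (Sum.inl β) => exact congrArg _ (congrArg _ (StT_injective h1))
  | Sum.inr (Sum.inl α), Sum.inr (Sum.inr s) =>
    exfalso; simp only [nc, StT_one, ps_one] at h2; exact n3 h2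
  | Sum.inr (Sum.inr s), Sum.inl β =>
    exfalso; simp only [nc, dl_one, ps_one] at h2; exact n2 h2.symm
  | Sum.inr (Sum.inr s), Sum.inr (Sum.inl β) =>
    exfalso; simp only [nc, StT_one, ps_one] at h2; exact n3 h2.symm
  | Sum.inr (Sum.inr s), Sum.inr (Sum.inr t) =>
    exact congrArg _ (congrArg _ (Subtype.ext (ps_injective h1)))

theorem nc_degree (a : X F) : (nc a : G2 F → ℂ) 1 = match a with
    | Sum.inl _ => 1
    | Sum.inr (Sum.inl _) => (Fintype.card F : ℂ)
    | Sum.inr (Sum.inr _) => (Fintype.card F : ℂ) + 1 := by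
  match a with
  | Sum.inl α => exact dl_one α
  | Sum.inr (Sum.inl α) => exact StT_one α
  | Sum.inr (Sum.inr s) => exact ps_one _

theorem orth_of_notMem {χ : IrrCharacter (G2 F)} (h : χ ∉ Set.range (nc : X F → _)) (α β : MulChar F ℂ) :
    classInner (χ : G2 F → ℂ) (indFun (upperTriangularGL 2 F) (th α β)) = 0 := by
  have hχ := χ.2
  by_cases hab : α = β
  · subst hab
    rw [ind_self, H18.CharOrtho.inner_add_right, inner_irr_ne hχ (isIrr_dl α), inner_irr_ne hχ (isIrr_StT α),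
      add_zero]
    · intro h2
      exact h ⟨Sum.inr (Sum.inl α), Subtype.ext h2.symm⟩
    · intro h2
      exact h ⟨Sum.inl α, Subtype.ext h2.symm⟩
  · apply inner_irr_ne hχ (isIrr_ind hab)
    intro h2
    exact h ⟨Sum.inr (Sum.inr ⟨s(α, β), by rwa [Sym2.mk_isDiag_iff]⟩), Subtype.ext h2.symm⟩

/-- an irreducible character outside the range of `nc` is cuspidal -/
theorem cusp_of_notMem {χ : IrrCharacter (G2 F)} (h : χ ∉ Set.range (nc : X F → _)) : Cusp (χ : G2 F → ℂ) :=
  cusp_of_orth (isClassFunction_of_isIrr χ.2) (orth_of_notMem h)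

omit [Fintype (G2 F)] in
theorem card_mulChar : Nat.card (MulChar F ℂ) = Fintype.card F - 1 := by
  rw [MulChar.card_eq_card_units_of_hasEnoughRootsOfUnity, card_units]

/-- the cuspidal irreducible characters -/
abbrev CuspIrr (F : Type*) [Field F] [Fintype F] [Fintype (G2 F)] : Type _ :=
  {χ : IrrCharacter (G2 F) // χ ∉ Set.range (nc : X F → _)}

noncomputable def irrEquiv : X F ⊕ CuspIrr F ≃ IrrCharacter (G2 F) := by
  classical
  exact (Equiv.sumCongr (Equiv.ofInjective nc nc_injective) (Equiv.refl _)).trans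
    (Equiv.Set.sumCompl (Set.range (nc : X F → IrrCharacter (G2 F))))

theorem irrEquiv_inl (a : X F) : irrEquiv (Sum.inl a : X F ⊕ CuspIrr F) = nc a := rfl
theorem irrEquiv_inr (c : CuspIrr F) : irrEquiv (Sum.inr c : X F ⊕ CuspIrr F) = c.1 := rfl

omit [Fintype (G2 F)] in
theorem card_X_third : Nat.card {s : Sym2 (MulChar F ℂ) // ¬ s.IsDiag} = (Fintype.card F - 1).choose 2 := by
  classical
  have : Fintype (MulChar F ℂ) := Fintype.ofFinite _
  rw [Nat.card_eq_fintype_card, Sym2.card_subtype_not_diag, ← Nat.card_eq_fintype_card, card_mulChar]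

theorem two_choose (n : ℕ) : 2 * (n.choose 2 : ℤ) = n * (n - 1) := by
  have h := Nat.choose_two_right n
  have h2 : 2 ∣ n * (n - 1) := (Nat.even_mul_pred_self n).two_dvd
  have h3 : 2 * n.choose 2 = n * (n - 1) := by rw [h]; exact Nat.mul_div_cancel' h2
  rcases Nat.eq_zero_or_pos n with rfl | hn
  · simp
  · have h4 := congrArg (fun z : ℕ => (z : ℤ)) h3
    push_cast [Nat.cast_sub hn] at h4
    exact h4

theorem card_CuspIrr : 2 * (Nat.card (CuspIrr F) : ℤ) = Fintype.card F * (Fintype.card F - 1) := by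
  have h1 := Nat.card_congr (irrEquiv (F := F))
  rw [card_irr_eq_card_conjClasses, Cfsg.Agent.S2330.result, Nat.card_sum, Nat.card_sum, Nat.card_sum, card_mulChar,
    card_X_third] at h1
  have h2 := two_choose (Fintype.card F - 1)
  have hq := Fintype.one_lt_card (α := F)
  have hq2 : 1 ≤ Fintype.card F ^ 2 := Nat.one_le_pow _ _ (by omega)
  have h3 := congrArg (fun z : ℕ => (z : ℤ)) h1
  push_cast [Nat.cast_sub hq.le, Nat.cast_sub hq2] at h2 h3
  linear_combination (-1 : ℤ) * h2 + 2 * h3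

/-- every cuspidal irreducible character of `GL₂` has degree `q - 1` and takes the value `-1` at the non-identity
unipotent elements -/
theorem cusp_degree (c : CuspIrr F) : (c.1 : G2 F → ℂ) 1 = (Fintype.card F : ℂ) - 1 ∧
    ∀ x : F, x ≠ 0 → (c.1 : G2 F → ℂ) (u x) = -1 := by
  classical
  have : Fintype (IrrCharacter (G2 F)) := Fintype.ofFinite _
  have : Fintype (MulChar F ℂ) := Fintype.ofFinite _
  have : Fintype (CuspIrr F) := Fintype.ofFinite _
  choose k hk hk1 hk2 using fun c : CuspIrr F => cusp_values c.1.2 (cusp_of_notMem c.2)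
  have hsum := sum_degree_sq (G := G2 F)
  rw [← (irrEquiv (F := F)).sum_comp, Fintype.sum_sum_type, Fintype.sum_sum_type, Fintype.sum_sum_type] at hsum
  simp only [irrEquiv_inl, irrEquiv_inr, nc_degree, hk1] at hsum
  simp only [Finset.sum_const, Finset.card_univ, nsmul_eq_mul] at hsum
  have hc1 : Fintype.card (MulChar F ℂ) = Fintype.card F - 1 := by
    rw [← Nat.card_eq_fintype_card, card_mulChar]
  have hc2 : Fintype.card {s : Sym2 (MulChar F ℂ) // ¬ s.IsDiag} = (Fintype.card F - 1).choose 2 := by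
    rw [← Nat.card_eq_fintype_card, card_X_third]
  rw [hc1, hc2, card_GL] at hsum
  have hq := Fintype.one_lt_card (α := F)
  have hq2 : 1 ≤ Fintype.card F ^ 2 := Nat.one_le_pow _ _ (by omega)
  have hq3 : Fintype.card F ≤ Fintype.card F ^ 2 := by nlinarith
  -- move to ℤ
  have hZ : ((Fintype.card F - 1 : ℕ) : ℤ) * 1 ^ 2 + (((Fintype.card F - 1 : ℕ) : ℤ) * (Fintype.card F : ℤ) ^ 2 +
      ((Fintype.card F - 1).choose 2 : ℤ) * ((Fintype.card F : ℤ) + 1) ^ 2) +
      ∑ c : CuspIrr F, (((Fintype.card F : ℤ) - 1) * (k c : ℤ)) ^ 2 =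
      (((Fintype.card F ^ 2 - 1) * (Fintype.card F ^ 2 - Fintype.card F) : ℕ) : ℤ) := by
    exact_mod_cast hsum
  have hch := two_choose (Fintype.card F - 1)
  push_cast [Nat.cast_sub hq.le, Nat.cast_sub hq2, Nat.cast_sub hq3] at hZ hch
  have hq1 : (Fintype.card F : ℤ) - 1 ≠ 0 := by omega
  have hfac : ∑ c : CuspIrr F, (((Fintype.card F : ℤ) - 1) * (k c : ℤ)) ^ 2 =
      ((Fintype.card F : ℤ) - 1) ^ 2 * ∑ c : CuspIrr F, (k c : ℤ) ^ 2 := by
    rw [Finset.mul_sum]
    exact Finset.sum_congr rfl (fun c _ => by ring)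
  rw [hfac] at hZ
  have hk4 : 2 * ∑ c : CuspIrr F, (k c : ℤ) ^ 2 = Fintype.card F * (Fintype.card F - 1) := by
    have h5 : ((Fintype.card F : ℤ) - 1) ^ 2 * (2 * ∑ c : CuspIrr F, (k c : ℤ) ^ 2) =
        ((Fintype.card F : ℤ) - 1) ^ 2 * (Fintype.card F * (Fintype.card F - 1)) := by
      linear_combination 2 * hZ - ((Fintype.card F : ℤ) + 1) ^ 2 * hch
    exact mul_left_cancel₀ (pow_ne_zero 2 hq1) h5
  have hk5 := card_CuspIrr (F := F)
  rw [← hk5] at hk4
  have hk6 : ∑ c : CuspIrr F, (k c : ℤ) ^ 2 = ∑ c : CuspIrr F, (1 : ℤ) := by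
    rw [Finset.sum_const, Finset.card_univ, nsmul_eq_mul, mul_one, ← Nat.card_eq_fintype_card]
    linarith
  have hk7 : ∀ c : CuspIrr F, k c = 1 := by
    have h8 : ∑ c : CuspIrr F, ((k c : ℤ) ^ 2 - 1) = 0 := by
      rw [Finset.sum_sub_distrib, hk6, sub_self]
    have h9 := (Finset.sum_eq_zero_iff_of_nonneg (fun c _ => by
      have : (1 : ℤ) ≤ k c := by exact_mod_cast hk c
      nlinarith)).1 h8
    intro c
    have h10 := h9 c (Finset.mem_univ c)
    have h11 : (1 : ℤ) ≤ k c := by exact_mod_cast hk c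
    have h12 : (k c : ℤ) = 1 := by nlinarith
    exact_mod_cast h12
  refine ⟨?_, ?_⟩
  · rw [hk1 c, hk7 c]; simp
  · intro x hx
    rw [hk2 c x hx, hk7 c]; simp

/-- trichotomy for irreducible characters of `GL₂` -/
theorem cases {χ : G2 F → ℂ} (hχ : IsIrrCharacter (G2 F) χ) :
    (∃ α : MulChar F ℂ, χ = dl α) ∨ (∃ α : MulChar F ℂ, χ = StT α) ∨
    (∃ α β : MulChar F ℂ, α ≠ β ∧ χ = indFun (upperTriangularGL 2 F) (th α β)) ∨
    (∃ c : CuspIrr F, χ = c.1) := by
  by_cases h : (⟨χ, hχ⟩ : IrrCharacter (G2 F)) ∈ Set.range (nc : X F → _)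
  · obtain ⟨a, ha⟩ := h
    have ha' : (nc a : G2 F → ℂ) = χ := congrArg Subtype.val ha
    match a with
    | Sum.inl α => exact Or.inl ⟨α, ha'.symm⟩
    | Sum.inr (Sum.inl α) => exact Or.inr (Or.inl ⟨α, ha'.symm⟩)
    | Sum.inr (Sum.inr ⟨s, hs⟩) =>
      induction s with
      | _ α β =>
        rw [Sym2.mk_isDiag_iff] at hs
        exact Or.inr (Or.inr (Or.inl ⟨α, β, hs, ha'.symm⟩))
  · exact Or.inr (Or.inr (Or.inr ⟨⟨_, h⟩, rfl⟩))

/-- an irreducible character of degree `q - 1` is cuspidal if `q ≥ 3` -/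
theorem cases_q_sub_one {χ : G2 F → ℂ} (hχ : IsIrrCharacter (G2 F) χ) (hq : 3 ≤ Fintype.card F)
    (h1 : χ 1 = (Fintype.card F : ℂ) - 1) : ∃ c : CuspIrr F, χ = c.1 := by
  rcases cases hχ with ⟨α, rfl⟩ | ⟨α, rfl⟩ | ⟨α, β, hab, rfl⟩ | h
  · exfalso
    rw [dl_one] at h1
    have : (Fintype.card F : ℂ) = 2 := by linear_combination -h1
    have : Fintype.card F = 2 := by exact_mod_cast this
    omega
  · exfalso
    rw [StT_one] at h1
    have : (1 : ℂ) = 0 := by linear_combination h1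
    norm_num at this
  · exfalso
    rw [ind_one] at h1
    have : (2 : ℂ) = 0 := by linear_combination h1
    norm_num at this
  · exact h

theorem cases_q {χ : G2 F → ℂ} (hχ : IsIrrCharacter (G2 F) χ)
    (h1 : χ 1 = (Fintype.card F : ℂ)) : ∃ α : MulChar F ℂ, χ = StT α := by
  obtain ⟨n1, n2, n3⟩ := q_ne (F := F)
  rcases cases hχ with ⟨α, rfl⟩ | ⟨α, rfl⟩ | ⟨α, β, hab, rfl⟩ | ⟨c, rfl⟩
  · exfalso
    rw [dl_one] at h1
    exact n1 h1
  · exact ⟨α, rfl⟩
  · exfalso
    rw [ind_one] at h1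
    exact n3 h1.symm
  · exfalso
    rw [(cusp_degree c).1] at h1
    have : (1 : ℂ) = 0 := by linear_combination -h1
    norm_num at this

theorem cases_q_add_one {χ : G2 F → ℂ} (hχ : IsIrrCharacter (G2 F) χ)
    (h1 : χ 1 = (Fintype.card F : ℂ) + 1) : ∃ α β : MulChar F ℂ, α ≠ β ∧
      χ = indFun (upperTriangularGL 2 F) (th α β) := by
  obtain ⟨n1, n2, n3⟩ := q_ne (F := F)
  rcases cases hχ with ⟨α, rfl⟩ | ⟨α, rfl⟩ | ⟨α, β, hab, rfl⟩ | ⟨c, rfl⟩
  · exfalso
    rw [dl_one] at h1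
    exact n2 h1
  · exfalso
    rw [StT_one] at h1
    exact n3 h1
  · exact ⟨α, β, hab, rfl⟩
  · exfalso
    rw [(cusp_degree c).1] at h1
    have : (2 : ℂ) = 0 := by linear_combination -h1
    norm_num at this

theorem cases_one {χ : G2 F → ℂ} (hχ : IsIrrCharacter (G2 F) χ) (hq : 3 ≤ Fintype.card F)
    (h1 : χ 1 = 1) : ∃ α : MulChar F ℂ, χ = dl α := by
  obtain ⟨n1, n2, n3⟩ := q_ne (F := F)
  rcases cases hχ with ⟨α, rfl⟩ | ⟨α, rfl⟩ | ⟨α, β, hab, rfl⟩ | ⟨c, rfl⟩
  · exact ⟨α, rfl⟩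
  · exfalso
    rw [StT_one] at h1
    exact n1 h1.symm
  · exfalso
    rw [ind_one] at h1
    exact n2 h1.symm
  · exfalso
    rw [(cusp_degree c).1] at h1
    have : (Fintype.card F : ℂ) = 2 := by linear_combination h1
    have : Fintype.card F = 2 := by exact_mod_cast this
    omega

theorem card_const {A : Type*} (P : Prop) [Decidable P] : Nat.card {_a : A // P} = if P then Nat.card A else 0 := by
  split_ifs with h
  · exact Nat.card_congr (Equiv.subtypeUnivEquiv (fun _ => h))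
  · have : IsEmpty {_a : A // P} := ⟨fun a => h a.2⟩
    exact Nat.card_of_isEmpty

open Classical in
/-- number of irreducible characters of a given degree -/
theorem card_deg (d : ℂ) : Nat.card {χ : IrrCharacter (G2 F) // (χ : G2 F → ℂ) 1 = d} =
    (if (1 : ℂ) = d then Nat.card (MulChar F ℂ) else 0) +
    ((if (Fintype.card F : ℂ) = d then Nat.card (MulChar F ℂ) else 0) +
    (if (Fintype.card F : ℂ) + 1 = d then (Fintype.card F - 1).choose 2 else 0)) +
    (if (Fintype.card F : ℂ) - 1 = d then Nat.card (CuspIrr F) else 0) := by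
  have e1 : {χ : IrrCharacter (G2 F) // (χ : G2 F → ℂ) 1 = d} ≃
      {y : X F ⊕ CuspIrr F // (irrEquiv y : G2 F → ℂ) 1 = d} :=
    (Equiv.subtypeEquiv irrEquiv (fun y => Iff.rfl)).symm
  have e2 : {y : X F ⊕ CuspIrr F // (irrEquiv y : G2 F → ℂ) 1 = d} ≃
      {a : X F // (nc a : G2 F → ℂ) 1 = d} ⊕ {c : CuspIrr F // (c.1 : G2 F → ℂ) 1 = d} := Equiv.subtypeSum
  have e3 : {a : X F // (nc a : G2 F → ℂ) 1 = d} ≃
      {_a : MulChar F ℂ // (1 : ℂ) = d} ⊕ {y : MulChar F ℂ ⊕ {s : Sym2 (MulChar F ℂ) // ¬ s.IsDiag} //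
        (nc (Sum.inr y) : G2 F → ℂ) 1 = d} := (Equiv.subtypeSum).trans
        (Equiv.sumCongr (Equiv.subtypeEquivRight (fun a => by rw [nc_degree])) (Equiv.refl _))
  have e4 : {y : MulChar F ℂ ⊕ {s : Sym2 (MulChar F ℂ) // ¬ s.IsDiag} //
        (nc (Sum.inr y) : G2 F → ℂ) 1 = d} ≃ {_a : MulChar F ℂ // (Fintype.card F : ℂ) = d} ⊕
        {_s : {s : Sym2 (MulChar F ℂ) // ¬ s.IsDiag} // (Fintype.card F : ℂ) + 1 = d} := (Equiv.subtypeSum).trans
        (Equiv.sumCongr (Equiv.subtypeEquivRight (fun a => by rw [nc_degree]))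
          (Equiv.subtypeEquivRight (fun a => by rw [nc_degree])))
  have e5 : {c : CuspIrr F // (c.1 : G2 F → ℂ) 1 = d} ≃ {_c : CuspIrr F // (Fintype.card F : ℂ) - 1 = d} :=
    Equiv.subtypeEquivRight (fun c => by rw [(cusp_degree c).1])
  rw [Nat.card_congr e1, Nat.card_congr e2, Nat.card_sum, Nat.card_congr e3, Nat.card_congr e5, Nat.card_sum,
    Nat.card_congr e4, Nat.card_sum, card_const, card_const, card_const, card_const, card_X_third]

end Fin

end H43.GLIrr
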