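import Mathlib.Algebra.BigOperators.Field
import Mathlib.GroupTheory.Coset.Card
import Cfsg.Prelude.Def_Characters

/-!
Induced class functions as sums over a transversal.
-/
set_option autoImplicit false

namespace H43.IndTrans

open Cfsg

variable {G : Type*} [Group G]

theorem extendByZero_apply_mem (H : Subgroup G) (θ : H → ℂ) {g : G} (hg : g ∈ H) :
    extendByZero H θ g = θ ⟨g, hg⟩ := by
  have := Function.Injective.extend_apply (Subtype.val_injective (p := fun x => x ∈ H)) θ 0 ⟨g, hg⟩
  exact this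

theorem extendByZero_apply_notMem (H : Subgroup G) (θ : H → ℂ) {g : G} (hg : g ∉ H) :
    extendByZero H θ g = 0 := by
  unfold extendByZero
  rw [Function.extend_apply']
  · rfl
  · rintro ⟨a, rfl⟩
    exact hg a.2

theorem extendByZero_conj (H : Subgroup G) (θ : H → ℂ) (hθ : ∀ h k : H, θ (h * k * h⁻¹) = θ k) (h : H) (g : G) :
    extendByZero H θ ((h : G)⁻¹ * g * h) = extendByZero H θ g := by
  by_cases hg : g ∈ H
  · have h1 : (h : G)⁻¹ * g * h ∈ H := H.mul_mem (H.mul_mem (H.inv_mem h.2) hg) h.2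
    rw [extendByZero_apply_mem H θ hg, extendByZero_apply_mem H θ h1]
    have := hθ h⁻¹ ⟨g, hg⟩
    rw [← this]
    congr 1
    apply Subtype.ext
    simp
  · rw [extendByZero_apply_notMem H θ hg, extendByZero_apply_notMem]
    intro h1
    apply hg
    have : g = h * ((h : G)⁻¹ * g * h) * (h : G)⁻¹ := by group
    rw [this]
    exact H.mul_mem (H.mul_mem h.2 h1) (H.inv_mem h.2)

/-- the bijection `ι × H ≃ G` given by a left transversal -/
noncomputable def transEquiv (H : Subgroup G) {ι : Type*} (r : ι → G)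
    (hr : Function.Bijective (fun i => (r i : G ⧸ H))) : ι × H ≃ G :=
  Equiv.ofBijective (fun p => r p.1 * (p.2 : G)) (by
    constructor
    · rintro ⟨i, h⟩ ⟨j, k⟩ hij
      simp only at hij
      have h1 : (r i : G ⧸ H) = (r j : G ⧸ H) := by
        rw [QuotientGroup.eq]
        have : (r i)⁻¹ * r j = h * (k : G)⁻¹ := by
          rw [inv_mul_eq_iff_eq_mul, ← mul_assoc, hij]; group
        rw [this]
        exact H.mul_mem h.2 (H.inv_mem k.2)
      have h2 : i = j := hr.1 h1
      subst h2
      have h3 : (h : G) = k := mul_left_cancel hij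
      rw [Subtype.ext h3]
    · intro g
      obtain ⟨i, hi⟩ := hr.2 (g : G ⧸ H)
      simp only at hi
      rw [QuotientGroup.eq] at hi
      exact ⟨(i, ⟨_, hi⟩), by simp⟩)

theorem indFun_eq_sum [Fintype G] (H : Subgroup G) (θ : H → ℂ) (hθ : ∀ h k : H, θ (h * k * h⁻¹) = θ k)
    {ι : Type*} [Fintype ι] (r : ι → G) (hr : Function.Bijective (fun i => (r i : G ⧸ H))) (g : G) :
    indFun H θ g = ∑ i, extendByZero H θ ((r i)⁻¹ * g * r i) := by
  classical
  have hH : (Nat.card H : ℂ) ≠ 0 := Nat.cast_ne_zero.2 Nat.card_pos.ne'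
  have : Fintype H := Fintype.ofFinite H
  unfold indFun
  rw [← (transEquiv H r hr).sum_comp, Fintype.sum_prod_type]
  have h1 : ∀ (i : ι) (h : H), extendByZero H θ ((transEquiv H r hr (i, h))⁻¹ * g * transEquiv H r hr (i, h)) =
      extendByZero H θ ((r i)⁻¹ * g * r i) := by
    intro i h
    have : (transEquiv H r hr (i, h))⁻¹ * g * transEquiv H r hr (i, h) = (h : G)⁻¹ * ((r i)⁻¹ * g * r i) * h := by
      have h0 : transEquiv H r hr (i, h) = r i * h := rfl
      rw [h0]
      group
    rw [this, extendByZero_conj H θ hθ]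
  simp only [h1, Finset.sum_const, Finset.card_univ, ← Nat.card_eq_fintype_card (α := H), nsmul_eq_mul]
  rw [← Finset.mul_sum, ← mul_assoc, inv_mul_cancel₀ hH, one_mul]

end H43.IndTrans
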