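import Cfsg.Agent.Lib.H43.GL2Basic
import Cfsg.Prelude.Def_ParabolicCharacters

/-!
Cosets of the Borel subgroup of `GL₂` and `SL₂`: explicit transversals indexed by `Option F` (points of the
projective line).
-/
set_option autoImplicit false

namespace H43.Lines

open Matrix H43.GL2Basic Cfsg

section Field
variable {F : Type*} [Field F]

theorem mem_B (g : GL (Fin 2) F) : g ∈ upperTriangularGL 2 F ↔ (g : Matrix (Fin 2) (Fin 2) F) 1 0 = 0 := by
  change (g : Matrix (Fin 2) (Fin 2) F).BlockTriangular id ↔ _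
  constructor
  · intro h
    exact h (by decide)
  · intro h i j hij
    fin_cases i <;> fin_cases j <;> simp at hij ⊢
    exact h

/-- representative of the coset of the line through `(a, 1)` (or `(1, 0)`) -/
def rGL : Option F → GL (Fin 2) F
  | none => 1
  | some a => ⟨!![a, 1; 1, 0], !![0, 1; 1, -a], by
      ext i j; fin_cases i <;> fin_cases j <;> simp, by
      ext i j; fin_cases i <;> fin_cases j <;> simp⟩

theorem rGL_conj_some (a : F) (g : GL (Fin 2) F) :
    (((rGL (some a))⁻¹ * g * rGL (some a) : GL (Fin 2) F) : Matrix (Fin 2) (Fin 2) F) =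
      !![(g : Matrix (Fin 2) (Fin 2) F) 1 0 * a + (g : Matrix (Fin 2) (Fin 2) F) 1 1,
          (g : Matrix (Fin 2) (Fin 2) F) 1 0;
        -Q (g : Matrix (Fin 2) (Fin 2) F) a 1,
          (g : Matrix (Fin 2) (Fin 2) F) 0 0 - a * (g : Matrix (Fin 2) (Fin 2) F) 1 0] := by
  have h1 : ((rGL (some a) : GL (Fin 2) F) : Matrix (Fin 2) (Fin 2) F) = !![a, 1; 1, 0] := rfl
  have h2 : (((rGL (some a))⁻¹ : GL (Fin 2) F) : Matrix (Fin 2) (Fin 2) F) = !![0, 1; 1, -a] := rfl
  rw [Units.val_mul, Units.val_mul, h1, h2]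
  ext i j
  fin_cases i <;> fin_cases j <;> simp [Matrix.mul_apply, Fin.sum_univ_two, Q, Matrix.vecMul, dotProduct] <;> ring

theorem rGL_bijective : Function.Bijective (fun o : Option F => (rGL o : GL (Fin 2) F ⧸ upperTriangularGL 2 F)) := by
  have key : ∀ x : GL (Fin 2) F, (rGL none)⁻¹ * x ∈ upperTriangularGL 2 F ↔
      (x : Matrix (Fin 2) (Fin 2) F) 1 0 = 0 := by
    intro x
    have : (rGL none)⁻¹ * x = x := by simp [rGL]
    rw [this, mem_B]
  have key2 : ∀ (a : F) (x : GL (Fin 2) F), (rGL (some a))⁻¹ * x ∈ upperTriangularGL 2 F ↔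
      (x : Matrix (Fin 2) (Fin 2) F) 0 0 = a * (x : Matrix (Fin 2) (Fin 2) F) 1 0 := by
    intro a x
    rw [mem_B, Units.val_mul]
    have h2 : (((rGL (some a))⁻¹ : GL (Fin 2) F) : Matrix (Fin 2) (Fin 2) F) = !![0, 1; 1, -a] := rfl
    rw [h2]
    simp [Matrix.mul_apply, Fin.sum_univ_two]
    constructor
    · intro h; linear_combination h
    · intro h; linear_combination h
  have h10 : ∀ a : F, ((rGL (some a) : GL (Fin 2) F) : Matrix (Fin 2) (Fin 2) F) 1 0 = 1 := fun a => rfl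
  have h00 : ∀ a : F, ((rGL (some a) : GL (Fin 2) F) : Matrix (Fin 2) (Fin 2) F) 0 0 = a := fun a => rfl
  constructor
  · rintro (_ | a) (_ | b) hab
    · rfl
    · exfalso
      have h := QuotientGroup.eq.1 hab
      rw [key, h10] at h
      exact one_ne_zero h
    · exfalso
      have h := QuotientGroup.eq.1 hab.symm
      rw [key, h10] at h
      exact one_ne_zero h
    · have h := QuotientGroup.eq.1 hab
      rw [key2, h10, h00] at h
      rw [h, mul_one]
  · intro x
    obtain ⟨g, rfl⟩ := QuotientGroup.mk_surjective x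
    by_cases h : (g : Matrix (Fin 2) (Fin 2) F) 1 0 = 0
    · exact ⟨none, QuotientGroup.eq.2 ((key g).2 h)⟩
    · refine ⟨some ((g : Matrix (Fin 2) (Fin 2) F) 0 0 / (g : Matrix (Fin 2) (Fin 2) F) 1 0),
        QuotientGroup.eq.2 ((key2 _ g).2 ?_)⟩
      field_simp

/-- fixed cosets as fixed representatives -/
theorem fixed_iff {G : Type*} [Group G] (H : Subgroup G) (g x : G) :
    g • (x : G ⧸ H) = (x : G ⧸ H) ↔ x⁻¹ * g * x ∈ H := by
  rw [MulAction.Quotient.smul_coe, smul_eq_mul, eq_comm, QuotientGroup.eq, mul_assoc]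

theorem fixedPoint_eq {G : Type*} [Group G] (H : Subgroup G) {ι : Type*} (r : ι → G)
    (hr : Function.Bijective (fun i => (r i : G ⧸ H))) (g : G) :
    Nat.card (MulAction.fixedBy (G ⧸ H) g) = Nat.card {i : ι // (r i)⁻¹ * g * r i ∈ H} := by
  symm
  refine Nat.card_congr ((Equiv.ofBijective _ hr).subtypeEquiv ?_)
  intro i
  rw [Equiv.ofBijective_apply, MulAction.mem_fixedBy, fixed_iff]

/-- in `SL₂` -/
def rSL : Option F → Matrix.SpecialLinearGroup (Fin 2) F
  | none => 1
  | some a => ⟨!![a, -1; 1, 0], by simp⟩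

/-- the Borel subgroup of `SL₂` -/
abbrev BSL (F : Type*) [Field F] : Subgroup (Matrix.SpecialLinearGroup (Fin 2) F) :=
  (upperTriangularGL 2 F).comap Matrix.SpecialLinearGroup.toGL

theorem mem_BSL (g : Matrix.SpecialLinearGroup (Fin 2) F) :
    g ∈ BSL F ↔ (g : Matrix (Fin 2) (Fin 2) F) 1 0 = 0 := by
  rw [Subgroup.mem_comap, mem_B]
  rfl

theorem rSL_conj_some (a : F) (g : Matrix.SpecialLinearGroup (Fin 2) F) :
    (((rSL (some a))⁻¹ * g * rSL (some a) : Matrix.SpecialLinearGroup (Fin 2) F) : Matrix (Fin 2) (Fin 2) F) =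
      !![(g : Matrix (Fin 2) (Fin 2) F) 1 0 * a + (g : Matrix (Fin 2) (Fin 2) F) 1 1,
          -(g : Matrix (Fin 2) (Fin 2) F) 1 0;
        Q (g : Matrix (Fin 2) (Fin 2) F) a 1,
          (g : Matrix (Fin 2) (Fin 2) F) 0 0 - a * (g : Matrix (Fin 2) (Fin 2) F) 1 0] := by
  have h1 : ((rSL (some a) : Matrix.SpecialLinearGroup (Fin 2) F) : Matrix (Fin 2) (Fin 2) F) = !![a, -1; 1, 0] := rfl
  have h2 : (((rSL (some a))⁻¹ : Matrix.SpecialLinearGroup (Fin 2) F) : Matrix (Fin 2) (Fin 2) F) =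
      !![0, 1; -1, a] := by
    rw [Matrix.SpecialLinearGroup.coe_inv, h1, Matrix.adjugate_fin_two]
    simp
  rw [Matrix.SpecialLinearGroup.coe_mul, Matrix.SpecialLinearGroup.coe_mul, h1, h2]
  ext i j
  fin_cases i <;> fin_cases j <;> simp [Matrix.mul_apply, Fin.sum_univ_two, Q, Matrix.vecMul, dotProduct] <;> ring

theorem rSL_bijective : Function.Bijective
    (fun o : Option F => (rSL o : Matrix.SpecialLinearGroup (Fin 2) F ⧸ BSL F)) := by
  have key : ∀ x : Matrix.SpecialLinearGroup (Fin 2) F, (rSL none)⁻¹ * x ∈ BSL F ↔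
      (x : Matrix (Fin 2) (Fin 2) F) 1 0 = 0 := by
    intro x
    have : (rSL none)⁻¹ * x = x := by simp [rSL]
    rw [this, mem_BSL]
  have key2 : ∀ (a : F) (x : Matrix.SpecialLinearGroup (Fin 2) F), (rSL (some a))⁻¹ * x ∈ BSL F ↔
      (x : Matrix (Fin 2) (Fin 2) F) 0 0 = a * (x : Matrix (Fin 2) (Fin 2) F) 1 0 := by
    intro a x
    rw [mem_BSL, Matrix.SpecialLinearGroup.coe_mul]
    have h1 : ((rSL (some a) : Matrix.SpecialLinearGroup (Fin 2) F) : Matrix (Fin 2) (Fin 2) F) = !![a, -1; 1, 0] := rfl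
    have h2 : (((rSL (some a))⁻¹ : Matrix.SpecialLinearGroup (Fin 2) F) : Matrix (Fin 2) (Fin 2) F) =
        !![0, 1; -1, a] := by
      rw [Matrix.SpecialLinearGroup.coe_inv, h1, Matrix.adjugate_fin_two]
      simp
    rw [h2]
    simp [Matrix.mul_apply, Fin.sum_univ_two]
    constructor
    · intro h; linear_combination -h
    · intro h; linear_combination -h
  have h10 : ∀ a : F, ((rSL (some a) : Matrix.SpecialLinearGroup (Fin 2) F) : Matrix (Fin 2) (Fin 2) F) 1 0 = 1 :=
    fun a => rfl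
  have h00 : ∀ a : F, ((rSL (some a) : Matrix.SpecialLinearGroup (Fin 2) F) : Matrix (Fin 2) (Fin 2) F) 0 0 = a :=
    fun a => rfl
  constructor
  · rintro (_ | a) (_ | b) hab
    · rfl
    · exfalso
      have h := QuotientGroup.eq.1 hab
      rw [key, h10] at h
      exact one_ne_zero h
    · exfalso
      have h := QuotientGroup.eq.1 hab.symm
      rw [key, h10] at h
      exact one_ne_zero h
    · have h := QuotientGroup.eq.1 hab
      rw [key2, h10, h00] at h
      rw [h, mul_one]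
  · intro x
    obtain ⟨g, rfl⟩ := QuotientGroup.mk_surjective x
    by_cases h : (g : Matrix (Fin 2) (Fin 2) F) 1 0 = 0
    · exact ⟨none, QuotientGroup.eq.2 ((key g).2 h)⟩
    · refine ⟨some ((g : Matrix (Fin 2) (Fin 2) F) 0 0 / (g : Matrix (Fin 2) (Fin 2) F) 1 0),
        QuotientGroup.eq.2 ((key2 _ g).2 ?_)⟩
      field_simp

theorem fixedGL (g : GL (Fin 2) F) (o : Option F) : (rGL o)⁻¹ * g * rGL o ∈ upperTriangularGL 2 F ↔
    (match o with
      | none => (g : Matrix (Fin 2) (Fin 2) F) 1 0 = 0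
      | some a => Q (g : Matrix (Fin 2) (Fin 2) F) a 1 = 0) := by
  match o with
  | none =>
    have : (rGL none)⁻¹ * g * rGL none = g := by simp [rGL]
    rw [this, mem_B]
  | some a =>
    rw [mem_B, rGL_conj_some]
    simp

theorem fixedSL (g : Matrix.SpecialLinearGroup (Fin 2) F) (o : Option F) : (rSL o)⁻¹ * g * rSL o ∈ BSL F ↔
    (match o with
      | none => (g : Matrix (Fin 2) (Fin 2) F) 1 0 = 0
      | some a => Q (g : Matrix (Fin 2) (Fin 2) F) a 1 = 0) := by
  match o with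
  | none =>
    have : (rSL none)⁻¹ * g * rSL none = g := by simp [rSL]
    rw [this, mem_BSL]
  | some a =>
    rw [mem_BSL, rSL_conj_some]
    simp

theorem hasEig_of_Q {A : Matrix (Fin 2) (Fin 2) F} {a : F} (h : Q A a 1 = 0) : HasEig A := by
  rw [hasEig_iff]
  refine ⟨A 1 0 * a + A 1 1, ?_⟩
  simp only [Q] at h
  rw [trace_fin_two, det_fin_two]
  linear_combination (A 1 0) * h

theorem hasEig_of_zero {A : Matrix (Fin 2) (Fin 2) F} (h : A 1 0 = 0) : HasEig A := by
  rw [hasEig_iff]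
  refine ⟨A 0 0, ?_⟩
  rw [trace_fin_two, det_fin_two, h]
  ring

end Field

end H43.Lines
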