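import Mathlib

/-! Packed vectors over the field with 5 elements (24 bits per entry, the two lowest places are free). -/

set_option autoImplicit false
set_option maxRecDepth 100000

noncomputable section

namespace H43.LyR

def LOW : Nat := 0x7000007000007000007000007000007000007000007000007000007000007000007000007000007000007000007000007000007000007000007000007000007000007000007000007000007000007000007000007000007000007000007000007000007000007000007000007000007000007000007000007000007000007000007000007000007000007000007000007000007000007000007000007000007000007000007000007000007000007000007000007000007000007000007000007000007000007000007000007000007000007000007000007000007000007000007000007000007000007000007000007000007000007000007000007000007000007000007000007000007000007000007000007000007000007000007000007000007000007000007000007000007000007000007000007000007000007000007000007000007000007ffffffffffff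

def LOR : Nat := 0x7000007000007000007000007000007000007000007000007000007000007000007000007000007000007000007000007000007000007000007000007000007000007000007000007000007000007000007000007000007000007000007000007000007000007000007000007000007000007000007000007000007000007000007000007000007000007000007000007000007000007000007000007000007000007000007000007000007000007000007000007000007000007000007000007000007000007000007000007000007000007000007000007000007000007000007000007000007000007000007000007000007000007000007000007000007000007000007000007000007000007000007000007000007000007000007000007000007000007000007000007000007000007000007000007000007000007000007000007000007000007003fff003fff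

def MQ : Nat := 0x3ff0003ff0003ff0003ff0003ff0003ff0003ff0003ff0003ff0003ff0003ff0003ff0003ff0003ff0003ff0003ff0003ff0003ff0003ff0003ff0003ff0003ff0003ff0003ff0003ff0003ff0003ff0003ff0003ff0003ff0003ff0003ff0003ff0003ff0003ff0003ff0003ff0003ff0003ff0003ff0003ff0003ff0003ff0003ff0003ff0003ff0003ff0003ff0003ff0003ff0003ff0003ff0003ff0003ff0003ff0003ff0003ff0003ff0003ff0003ff0003ff0003ff0003ff0003ff0003ff0003ff0003ff0003ff0003ff0003ff0003ff0003ff0003ff0003ff0003ff0003ff0003ff0003ff0003ff0003ff0003ff0003ff0003ff0003ff0003ff0003ff0003ff0003ff0003ff0003ff0003ff0003ff0003ff0003ff0003ff0003ff0003ff0003ff0003ff0003ff0003ff0003ff0003ff0003ff0003ff0003ff0003ff0003ff0003ff0003ff0003ff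

/-- combination of the rows -/
def L : List (Nat × Nat) → Nat → Nat
  | [], _ => 0
  | (i, r) :: rs, v => Nat.add (Nat.mul (Nat.land (Nat.shiftRight v i) 7) r) (L rs v)

/-- admissible row -/
def okp (p : Nat × Nat) : Bool :=
  Bool.and (Nat.beq (Nat.mul 24 (Nat.div p.1 24)) p.1)
    (Bool.and (Nat.blt (Nat.div p.1 24) 113) (Bool.and (Nat.blt 1 (Nat.div p.1 24)) (Nat.beq (Nat.land p.2 LOR) p.2)))

end H43.LyR
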