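import Cfsg.Agent.Lib.H43.Lines
import Cfsg.Agent.Lib.H43.IndTrans
import Cfsg.Agent.Lib.H43.GL2Card
import Cfsg.Agent.Lib.H18.CharInd

/-!
Principal series of `GL₂` and `SL₂` over a finite field: values on the Borel subgroup and inner products.
-/
set_option autoImplicit false

namespace H43.Principal

open Matrix H43.GL2Basic H43.GL2Card H43.Lines H43.IndTrans Cfsg
open scoped ComplexConjugate

variable {F : Type*} [Field F] [Fintype F]

open Classical in
theorem sum_units (χ : MulChar F ℂ) :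
    ∑ u : Fˣ, χ (u : F) = if χ = 1 then ((Fintype.card F : ℂ) - 1) else 0 := by
  have h := sum_hom_units (R := ℂ) (G := Fˣ) ((χ.toMonoidHom : F →* ℂ).comp (Units.coeHom F))
  have h2 : ((χ.toMonoidHom : F →* ℂ).comp (Units.coeHom F)) = 1 ↔ χ = 1 := by
    constructor
    · intro h
      apply MulChar.ext
      intro a
      have := DFunLike.congr_fun h a
      simpa using this
    · rintro rfl
      ext u
      simp
  simp only [h2] at h
  rw [show (∑ u : Fˣ, χ (u : F)) = ∑ u : Fˣ, ((χ.toMonoidHom : F →* ℂ).comp (Units.coeHom F)) u from rfl, h]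
  by_cases hχ : χ = 1
  · rw [if_pos hχ, if_pos hχ, Fintype.card_units, Nat.cast_sub Fintype.one_lt_card.le]
    simp
  · rw [if_neg hχ, if_neg hχ]
    simp

theorem conj_mulChar (χ : MulChar F ℂ) (a : F) : conj (χ a) = χ⁻¹ a := by
  have := MulChar.star_apply' χ a
  rwa [RCLike.star_def] at this

open Classical in
theorem sum_units_conj (α β : MulChar F ℂ) :
    ∑ u : Fˣ, α (u : F) * conj (β (u : F)) = if α = β then ((Fintype.card F : ℂ) - 1) else 0 := by
  have h := sum_units (α * β⁻¹)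
  simp only [MulChar.mul_apply, mul_inv_eq_one] at h
  simp only [conj_mulChar]
  exact h

/-- number of `y` with `(d - a) y = x` -/
noncomputable def N (a d x : F) : ℕ := Nat.card {y : F // (d - a) * y = x}

theorem sum_N (a d : F) : ∑ x : F, (N a d x : ℂ) = Fintype.card F := by
  classical
  have : ∑ x : F, N a d x = Fintype.card F := by
    unfold N
    simp only [Nat.card_eq_fintype_card]
    rw [← Fintype.card_sigma]
    exact Fintype.card_congr (Equiv.sigmaFiberEquiv (fun y : F => (d - a) * y))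
  rw [← this]
  push_cast
  rfl

omit [Fintype F] in
theorem N_of_ne {a d : F} (h : a ≠ d) (x : F) : N a d x = 1 := by
  unfold N
  rw [Nat.card_eq_one_iff_unique]
  have h' : d - a ≠ 0 := sub_ne_zero.2 h.symm
  refine ⟨⟨?_⟩, ⟨⟨x / (d - a), by field_simp⟩⟩⟩
  rintro ⟨y, hy⟩ ⟨z, hz⟩
  apply Subtype.ext
  exact mul_left_cancel₀ h' (hy.trans hz.symm)

theorem N_self_zero (a : F) : N a a 0 = Fintype.card F := by
  unfold N
  rw [← Nat.card_eq_fintype_card]
  exact Nat.card_congr (Equiv.subtypeUnivEquiv (by simp))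

omit [Fintype F] in
theorem N_self_ne (a : F) {x : F} (hx : x ≠ 0) : N a a x = 0 := by
  unfold N
  have : IsEmpty {y : F // (a - a) * y = x} := ⟨fun y => hx (by rw [← y.2]; simp)⟩
  exact Nat.card_of_isEmpty

section GLpart

/-- diagonal characters of the Borel subgroup of `GL₂` -/
noncomputable def th (α β : MulChar F ℂ) : upperTriangularGL 2 F → ℂ :=
  fun b => α (((b : GL (Fin 2) F) : Matrix (Fin 2) (Fin 2) F) 0 0) * β (((b : GL (Fin 2) F) : Matrix (Fin 2) (Fin 2) F) 1 1)

omit [Fintype F] in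
theorem B_mul (b c : upperTriangularGL 2 F) :
    (((b * c : upperTriangularGL 2 F) : GL (Fin 2) F) : Matrix (Fin 2) (Fin 2) F) 0 0 =
      ((b : GL (Fin 2) F) : Matrix (Fin 2) (Fin 2) F) 0 0 * ((c : GL (Fin 2) F) : Matrix (Fin 2) (Fin 2) F) 0 0 ∧
    (((b * c : upperTriangularGL 2 F) : GL (Fin 2) F) : Matrix (Fin 2) (Fin 2) F) 1 1 =
      ((b : GL (Fin 2) F) : Matrix (Fin 2) (Fin 2) F) 1 1 * ((c : GL (Fin 2) F) : Matrix (Fin 2) (Fin 2) F) 1 1 := by
  have hb := (mem_B (b : GL (Fin 2) F)).1 b.2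
  have hc := (mem_B (c : GL (Fin 2) F)).1 c.2
  rw [Subgroup.coe_mul, Units.val_mul, Matrix.mul_apply, Matrix.mul_apply, Fin.sum_univ_two, Fin.sum_univ_two]
  constructor
  · rw [hc]; ring
  · rw [hb]; ring

omit [Fintype F] in
theorem B_diag_ne_zero (b : upperTriangularGL 2 F) :
    ((b : GL (Fin 2) F) : Matrix (Fin 2) (Fin 2) F) 0 0 ≠ 0 ∧ ((b : GL (Fin 2) F) : Matrix (Fin 2) (Fin 2) F) 1 1 ≠ 0 := by
  have hb := (mem_B (b : GL (Fin 2) F)).1 b.2
  have h := (b : GL (Fin 2) F).isUnit
  rw [Matrix.isUnit_iff_isUnit_det, det_fin_two, hb] at h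
  have h2 := h.ne_zero
  constructor
  · intro h3; apply h2; rw [h3]; ring
  · intro h3; apply h2; rw [h3]; ring

/-- `th α β` as a homomorphism to `ℂˣ` -/
noncomputable def thHom (α β : MulChar F ℂ) : upperTriangularGL 2 F →* ℂˣ where
  toFun b := α.toUnitHom (Units.mk0 _ (B_diag_ne_zero b).1) * β.toUnitHom (Units.mk0 _ (B_diag_ne_zero b).2)
  map_one' := by
    have h1 : Units.mk0 _ (B_diag_ne_zero (1 : upperTriangularGL 2 F)).1 = 1 := by ext; simp
    have h2 : Units.mk0 _ (B_diag_ne_zero (1 : upperTriangularGL 2 F)).2 = 1 := by ext; simp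
    rw [h1, h2]; simp
  map_mul' b c := by
    have h1 : Units.mk0 _ (B_diag_ne_zero (b * c)).1 = Units.mk0 _ (B_diag_ne_zero b).1 * Units.mk0 _ (B_diag_ne_zero c).1 := by
      ext; exact (B_mul b c).1
    have h2 : Units.mk0 _ (B_diag_ne_zero (b * c)).2 = Units.mk0 _ (B_diag_ne_zero b).2 * Units.mk0 _ (B_diag_ne_zero c).2 := by
      ext; exact (B_mul b c).2
    rw [h1, h2, map_mul, map_mul]
    exact mul_mul_mul_comm _ _ _ _

omit [Fintype F] in
theorem thHom_coe (α β : MulChar F ℂ) : (fun b => ((thHom α β b : ℂˣ) : ℂ)) = th α β := by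
  funext b
  simp [thHom, th]

omit [Fintype F] in
theorem isIrr_th (α β : MulChar F ℂ) : IsIrrCharacter (upperTriangularGL 2 F) (th α β) := by
  rw [← thHom_coe]
  exact H18.CharBasic.isIrrCharacter_of_hom _

omit [Fintype F] in
theorem th_classFun (α β : MulChar F ℂ) (h k : upperTriangularGL 2 F) : th α β (h * k * h⁻¹) = th α β k :=
  H18.CharBasic.isClassFunction_of_isIrr (isIrr_th α β) k h

variable [Fintype (GL (Fin 2) F)]

/-- value of the induced character on the Borel subgroup -/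
theorem ind_apply_B (α β : MulChar F ℂ) (g : GL (Fin 2) F) (hg : (g : Matrix (Fin 2) (Fin 2) F) 1 0 = 0) :
    indFun (upperTriangularGL 2 F) (th α β) g =
      α ((g : Matrix (Fin 2) (Fin 2) F) 0 0) * β ((g : Matrix (Fin 2) (Fin 2) F) 1 1) +
      N ((g : Matrix (Fin 2) (Fin 2) F) 0 0) ((g : Matrix (Fin 2) (Fin 2) F) 1 1) ((g : Matrix (Fin 2) (Fin 2) F) 0 1) *
        (α ((g : Matrix (Fin 2) (Fin 2) F) 1 1) * β ((g : Matrix (Fin 2) (Fin 2) F) 0 0)) := by
  classical
  rw [indFun_eq_sum _ _ (th_classFun α β) rGL rGL_bijective, Fintype.sum_option]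
  congr 1
  · have h0 : (rGL none)⁻¹ * g * rGL none = g := by simp [rGL]
    rw [h0, extendByZero_apply_mem _ _ ((mem_B g).2 hg)]
    rfl
  · have h1 : ∀ a : F, extendByZero (upperTriangularGL 2 F) (th α β) ((rGL (some a))⁻¹ * g * rGL (some a)) =
        if (((g : Matrix (Fin 2) (Fin 2) F) 1 1 - (g : Matrix (Fin 2) (Fin 2) F) 0 0) * a =
          (g : Matrix (Fin 2) (Fin 2) F) 0 1) then
          (α ((g : Matrix (Fin 2) (Fin 2) F) 1 1) * β ((g : Matrix (Fin 2) (Fin 2) F) 0 0)) else 0 := by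
      intro a
      have hQ : Q (g : Matrix (Fin 2) (Fin 2) F) a 1 = ((g : Matrix (Fin 2) (Fin 2) F) 1 1 -
          (g : Matrix (Fin 2) (Fin 2) F) 0 0) * a - (g : Matrix (Fin 2) (Fin 2) F) 0 1 := by
        simp [Q, hg]
      split_ifs with h
      · have h2 : (rGL (some a))⁻¹ * g * rGL (some a) ∈ upperTriangularGL 2 F := by
          rw [fixedGL]
          change Q _ a 1 = 0
          rw [hQ, h, sub_self]
        rw [extendByZero_apply_mem _ _ h2]
        simp only [th, rGL_conj_some, hg]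
        simp
      · rw [extendByZero_apply_notMem]
        rw [fixedGL]
        change ¬ Q _ a 1 = 0
        rw [hQ, sub_eq_zero]
        exact h
    simp only [h1]
    rw [Finset.sum_ite, Finset.sum_const_zero, add_zero, Finset.sum_const, nsmul_eq_mul, N,
      Nat.card_eq_fintype_card, Fintype.card_subtype]

theorem ind_apply_not (α β : MulChar F ℂ) (g : GL (Fin 2) F) (hg : ¬ HasEig (g : Matrix (Fin 2) (Fin 2) F)) :
    indFun (upperTriangularGL 2 F) (th α β) g = 0 := by
  classical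
  rw [indFun_eq_sum _ _ (th_classFun α β) rGL rGL_bijective]
  apply Finset.sum_eq_zero
  intro o _
  rw [extendByZero_apply_notMem]
  rw [fixedGL]
  match o with
  | none => exact fun h2 => hg (hasEig_of_zero h2)
  | some a => exact fun h2 => hg (hasEig_of_Q h2)

/-- coordinates on the Borel subgroup of `GL₂` -/
noncomputable def BEquiv (F : Type*) [Field F] : (Fˣ × Fˣ) × F ≃ upperTriangularGL 2 F where
  toFun p := ⟨GeneralLinearGroup.mkOfDetNeZero !![(p.1.1 : F), p.2; 0, (p.1.2 : F)] (by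
      rw [det_fin_two]; simp), (mem_B _).2 rfl⟩
  invFun b := ((Units.mk0 _ (B_diag_ne_zero b).1, Units.mk0 _ (B_diag_ne_zero b).2),
    ((b : GL (Fin 2) F) : Matrix (Fin 2) (Fin 2) F) 0 1)
  left_inv := by
    rintro ⟨⟨a, d⟩, x⟩
    ext <;> rfl
  right_inv := by
    rintro ⟨b, hb⟩
    apply Subtype.ext
    have h := (mem_B b).1 hb
    ext i j
    fin_cases i <;> fin_cases j
    · rfl
    · rfl
    · exact h.symm
    · rfl

open Classical in
/-- Mackey formula for the principal series of `GL₂`. -/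
theorem inner_ind (α β α' β' : MulChar F ℂ) :
    classInner (indFun (upperTriangularGL 2 F) (th α β)) (indFun (upperTriangularGL 2 F) (th α' β')) =
      (if α = α' ∧ β = β' then 1 else 0) + (if α = β' ∧ β = α' then 1 else 0) := by
  have : Fintype (upperTriangularGL 2 F) := Fintype.ofFinite _
  rw [H18.CharInd.frobenius _ _ (H18.CharInd.isClassFunction_indFun _ _)]
  unfold classInner
  have hq0 : (Fintype.card F : ℂ) ≠ 0 := by exact_mod_cast Fintype.card_ne_zero
  have hq1 : (Fintype.card F : ℂ) - 1 ≠ 0 := by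
    rw [sub_ne_zero]; exact_mod_cast (Fintype.one_lt_card (α := F)).ne'
  have hcard : (Nat.card (upperTriangularGL 2 F) : ℂ) = ((Fintype.card F : ℂ) - 1) ^ 2 * Fintype.card F := by
    rw [← Nat.card_congr (BEquiv F), Nat.card_prod, Nat.card_prod, card_units, Nat.card_eq_fintype_card]
    push_cast [Nat.cast_sub (Fintype.one_lt_card (α := F)).le]
    ring
  rw [hcard, ← (BEquiv F).sum_comp, Fintype.sum_prod_type]
  have hval : ∀ (a d : Fˣ) (x : F), th α β (BEquiv F ((a, d), x)) *
      conj (indFun (upperTriangularGL 2 F) (th α' β') ((BEquiv F ((a, d), x) : GL (Fin 2) F))) =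
      (α a * conj (α' a)) * (β d * conj (β' d)) + N (a : F) (d : F) x * ((α a * conj (β' a)) * (β d * conj (α' d))) := by
    intro a d x
    rw [ind_apply_B _ _ _ ((mem_B _).1 (BEquiv F ((a, d), x)).2)]
    have e00 : ((BEquiv F ((a, d), x) : GL (Fin 2) F) : Matrix (Fin 2) (Fin 2) F) 0 0 = a := rfl
    have e01 : ((BEquiv F ((a, d), x) : GL (Fin 2) F) : Matrix (Fin 2) (Fin 2) F) 0 1 = x := rfl
    have e11 : ((BEquiv F ((a, d), x) : GL (Fin 2) F) : Matrix (Fin 2) (Fin 2) F) 1 1 = d := rfl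
    simp only [th, e00, e01, e11, map_add, map_mul, Complex.conj_natCast]
    ring
  have hsum : ∀ p : Fˣ × Fˣ, ∑ x : F, th α β (BEquiv F (p, x)) *
      conj (indFun (upperTriangularGL 2 F) (th α' β') ((BEquiv F (p, x) : GL (Fin 2) F))) =
      Fintype.card F * ((α p.1 * conj (α' p.1)) * (β p.2 * conj (β' p.2)) +
        (α p.1 * conj (β' p.1)) * (β p.2 * conj (α' p.2))) := by
    rintro ⟨a, d⟩
    simp only [hval]
    have s1 := Finset.sum_mul Finset.univ (fun x => (N (a : F) (d : F) x : ℂ))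
      ((α a * conj (β' a)) * (β d * conj (α' d)))
    rw [Finset.sum_add_distrib, ← s1, sum_N, Finset.sum_const, Finset.card_univ, nsmul_eq_mul]
    ring
  simp only [hsum]
  rw [← Finset.mul_sum, Finset.sum_add_distrib, Fintype.sum_prod_type, Fintype.sum_prod_type]
  simp only
  rw [← Finset.sum_mul_sum, ← Finset.sum_mul_sum, sum_units_conj, sum_units_conj, sum_units_conj, sum_units_conj]
  have hA : ∀ (P Q : Prop) [Decidable P] [Decidable Q], (if P then ((Fintype.card F : ℂ) - 1) else 0) *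
      (if Q then ((Fintype.card F : ℂ) - 1) else 0) = ((Fintype.card F : ℂ) - 1) ^ 2 * (if P ∧ Q then 1 else 0) := by
    intro P Q _ _
    by_cases hP : P <;> by_cases hQ : Q <;> simp [hP, hQ, sq]
  rw [hA, hA]
  field_simp

omit [Fintype F] in
theorem isCharacter_ind (α β : MulChar F ℂ) :
    IsCharacter (GL (Fin 2) F) (indFun (upperTriangularGL 2 F) (th α β)) :=
  H18.CharInd.isCharacter_ind _ (H18.CharBasic.isCharacter_of_isIrr (isIrr_th α β))

theorem isIrr_ind {α β : MulChar F ℂ} (h : α ≠ β) :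
    IsIrrCharacter (GL (Fin 2) F) (indFun (upperTriangularGL 2 F) (th α β)) := by
  classical
  apply H18.CharOrtho.isIrr_of_norm_one (isCharacter_ind α β)
  rw [inner_ind]
  simp [h]

theorem ind_eq_iff (α β α' β' : MulChar F ℂ) :
    indFun (upperTriangularGL 2 F) (th α β) = indFun (upperTriangularGL 2 F) (th α' β') ↔
      (α = α' ∧ β = β') ∨ (α = β' ∧ β = α') := by
  classical
  constructor
  · intro h
    have h1 := inner_ind α β α β
    have h2 := inner_ind α β α' β'
    rw [← h] at h2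
    rw [h1] at h2
    by_contra hcon
    push Not at hcon
    have h3 : ¬ (α = α' ∧ β = β') := fun h => hcon.1 h.1 h.2
    have h4 : ¬ (α = β' ∧ β = α') := fun h => hcon.2 h.1 h.2
    rw [if_neg h3, if_neg h4, if_pos ⟨rfl, rfl⟩] at h2
    by_cases hab : α = β
    · rw [if_pos ⟨hab, hab.symm⟩] at h2
      norm_num at h2
    · rw [if_neg (fun h => hab h.1)] at h2
      norm_num at h2
  · rintro (⟨rfl, rfl⟩ | ⟨rfl, rfl⟩)
    · rfl
    · rw [← sub_eq_zero, ← H18.CharOrtho.inner_self_eq_zero]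
      simp only [H18.CharOrtho.inner_sub_left, H18.CharOrtho.inner_sub_right, inner_ind]
      by_cases hab : α = β
      · subst hab
        simp
      · have hab' : ¬ β = α := fun h => hab h.symm
        simp [hab, hab']

end GLpart

section SLpart

local notation "SL2" => Matrix.SpecialLinearGroup (Fin 2)

/-- diagonal characters of the Borel subgroup of `SL₂` -/
noncomputable def thS (α : MulChar F ℂ) : BSL F → ℂ :=
  fun b => α (((b : SL2 F) : Matrix (Fin 2) (Fin 2) F) 0 0)

omit [Fintype F] in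
theorem BSL_diag (b : BSL F) :
    ((b : SL2 F) : Matrix (Fin 2) (Fin 2) F) 0 0 * ((b : SL2 F) : Matrix (Fin 2) (Fin 2) F) 1 1 = 1 := by
  have hb := (mem_BSL (b : SL2 F)).1 b.2
  have h := (b : SL2 F).det_coe
  rw [det_fin_two, hb] at h
  linear_combination h

omit [Fintype F] in
theorem BSL_ne_zero (b : BSL F) : ((b : SL2 F) : Matrix (Fin 2) (Fin 2) F) 0 0 ≠ 0 := by
  intro h
  have := BSL_diag b
  rw [h] at this
  simp at this

omit [Fintype F] in
theorem BSL_mul (b c : BSL F) :
    (((b * c : BSL F) : SL2 F) : Matrix (Fin 2) (Fin 2) F) 0 0 =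
      ((b : SL2 F) : Matrix (Fin 2) (Fin 2) F) 0 0 * ((c : SL2 F) : Matrix (Fin 2) (Fin 2) F) 0 0 := by
  have hc := (mem_BSL (c : SL2 F)).1 c.2
  rw [Subgroup.coe_mul, Matrix.SpecialLinearGroup.coe_mul, Matrix.mul_apply, Fin.sum_univ_two, hc]
  ring

/-- `thS α` as a homomorphism to `ℂˣ` -/
noncomputable def thSHom (α : MulChar F ℂ) : BSL F →* ℂˣ where
  toFun b := α.toUnitHom (Units.mk0 _ (BSL_ne_zero b))
  map_one' := by
    have h1 : Units.mk0 _ (BSL_ne_zero (1 : BSL F)) = 1 := by ext; simp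
    rw [h1]; simp
  map_mul' b c := by
    have h1 : Units.mk0 _ (BSL_ne_zero (b * c)) = Units.mk0 _ (BSL_ne_zero b) * Units.mk0 _ (BSL_ne_zero c) := by
      ext; exact (BSL_mul b c)
    rw [h1, map_mul]

omit [Fintype F] in
theorem thSHom_coe (α : MulChar F ℂ) : (fun b => ((thSHom α b : ℂˣ) : ℂ)) = thS α := by
  funext b
  simp [thSHom, thS]

omit [Fintype F] in
theorem isIrr_thS (α : MulChar F ℂ) : IsIrrCharacter (BSL F) (thS α) := by
  rw [← thSHom_coe]
  exact H18.CharBasic.isIrrCharacter_of_hom _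

omit [Fintype F] in
theorem thS_classFun (α : MulChar F ℂ) (h k : BSL F) : thS α (h * k * h⁻¹) = thS α k :=
  H18.CharBasic.isClassFunction_of_isIrr (isIrr_thS α) k h

variable [Fintype (SL2 F)]

/-- value of the induced character on the Borel subgroup -/
theorem indS_apply_B (α : MulChar F ℂ) (g : SL2 F) (hg : (g : Matrix (Fin 2) (Fin 2) F) 1 0 = 0) :
    indFun (BSL F) (thS α) g =
      α ((g : Matrix (Fin 2) (Fin 2) F) 0 0) +
      N ((g : Matrix (Fin 2) (Fin 2) F) 0 0) ((g : Matrix (Fin 2) (Fin 2) F) 1 1) ((g : Matrix (Fin 2) (Fin 2) F) 0 1) *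
        α ((g : Matrix (Fin 2) (Fin 2) F) 1 1) := by
  classical
  rw [indFun_eq_sum _ _ (thS_classFun α) rSL rSL_bijective, Fintype.sum_option]
  congr 1
  · have h0 : (rSL none)⁻¹ * g * rSL none = g := by simp [rSL]
    rw [h0, extendByZero_apply_mem _ _ ((mem_BSL g).2 hg)]
    rfl
  · have h1 : ∀ a : F, extendByZero (BSL F) (thS α) ((rSL (some a))⁻¹ * g * rSL (some a)) =
        if (((g : Matrix (Fin 2) (Fin 2) F) 1 1 - (g : Matrix (Fin 2) (Fin 2) F) 0 0) * a =
          (g : Matrix (Fin 2) (Fin 2) F) 0 1) then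
          α ((g : Matrix (Fin 2) (Fin 2) F) 1 1) else 0 := by
      intro a
      have hQ : Q (g : Matrix (Fin 2) (Fin 2) F) a 1 = ((g : Matrix (Fin 2) (Fin 2) F) 1 1 -
          (g : Matrix (Fin 2) (Fin 2) F) 0 0) * a - (g : Matrix (Fin 2) (Fin 2) F) 0 1 := by
        simp [Q, hg]
      split_ifs with h
      · have h2 : (rSL (some a))⁻¹ * g * rSL (some a) ∈ BSL F := by
          rw [fixedSL]
          change Q _ a 1 = 0
          rw [hQ, h, sub_self]
        rw [extendByZero_apply_mem _ _ h2]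
        simp only [thS, rSL_conj_some, hg]
        simp
      · rw [extendByZero_apply_notMem]
        rw [fixedSL]
        change ¬ Q _ a 1 = 0
        rw [hQ, sub_eq_zero]
        exact h
    simp only [h1]
    rw [Finset.sum_ite, Finset.sum_const_zero, add_zero, Finset.sum_const, nsmul_eq_mul, N,
      Nat.card_eq_fintype_card, Fintype.card_subtype]

theorem indS_apply_not (α : MulChar F ℂ) (g : SL2 F) (hg : ¬ HasEig (g : Matrix (Fin 2) (Fin 2) F)) :
    indFun (BSL F) (thS α) g = 0 := by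
  classical
  rw [indFun_eq_sum _ _ (thS_classFun α) rSL rSL_bijective]
  apply Finset.sum_eq_zero
  intro o _
  rw [extendByZero_apply_notMem]
  rw [fixedSL]
  match o with
  | none => exact fun h2 => hg (hasEig_of_zero h2)
  | some a => exact fun h2 => hg (hasEig_of_Q h2)

/-- coordinates on the Borel subgroup of `SL₂` -/
noncomputable def BSEquiv (F : Type*) [Field F] : Fˣ × F ≃ BSL F where
  toFun p := ⟨⟨!![(p.1 : F), p.2; 0, ((p.1⁻¹ : Fˣ) : F)], by
      rw [det_fin_two]; simp⟩, (mem_BSL _).2 rfl⟩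
  invFun b := (Units.mk0 _ (BSL_ne_zero b), ((b : SL2 F) : Matrix (Fin 2) (Fin 2) F) 0 1)
  left_inv := by
    rintro ⟨a, x⟩
    ext <;> rfl
  right_inv := by
    rintro ⟨b, hb⟩
    apply Subtype.ext
    have h := (mem_BSL b).1 hb
    have h2 := BSL_diag ⟨b, hb⟩
    have h3 := BSL_ne_zero ⟨b, hb⟩
    ext i j
    fin_cases i <;> fin_cases j
    · rfl
    · rfl
    · exact h.symm
    · change ((Units.mk0 _ (BSL_ne_zero ⟨b, hb⟩))⁻¹ : Fˣ).val = (b : Matrix (Fin 2) (Fin 2) F) 1 1
      rw [Units.val_inv_eq_inv_val, Units.val_mk0]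
      exact (eq_inv_of_mul_eq_one_right h2).symm

open Classical in
/-- Mackey formula for the principal series of `SL₂`. -/
theorem inner_indS (α α' : MulChar F ℂ) :
    classInner (indFun (BSL F) (thS α)) (indFun (BSL F) (thS α')) =
      (if α = α' then 1 else 0) + (if α = α'⁻¹ then 1 else 0) := by
  have : Fintype (BSL F) := Fintype.ofFinite _
  rw [H18.CharInd.frobenius _ _ (H18.CharInd.isClassFunction_indFun _ _)]
  unfold classInner
  have hq0 : (Fintype.card F : ℂ) ≠ 0 := by exact_mod_cast Fintype.card_ne_zero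
  have hq1 : (Fintype.card F : ℂ) - 1 ≠ 0 := by
    rw [sub_ne_zero]; exact_mod_cast (Fintype.one_lt_card (α := F)).ne'
  have hcard : (Nat.card (BSL F) : ℂ) = ((Fintype.card F : ℂ) - 1) * Fintype.card F := by
    rw [← Nat.card_congr (BSEquiv F), Nat.card_prod, card_units, Nat.card_eq_fintype_card]
    push_cast [Nat.cast_sub (Fintype.one_lt_card (α := F)).le]
    ring
  rw [hcard, ← (BSEquiv F).sum_comp, Fintype.sum_prod_type]
  have hval : ∀ (a : Fˣ) (x : F), thS α (BSEquiv F (a, x)) *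
      conj (indFun (BSL F) (thS α') ((BSEquiv F (a, x) : SL2 F))) =
      (α a * conj (α' a)) + N (a : F) ((a⁻¹ : Fˣ) : F) x * (α a * conj (α'⁻¹ a)) := by
    intro a x
    rw [indS_apply_B _ _ ((mem_BSL _).1 (BSEquiv F (a, x)).2)]
    have e00 : ((BSEquiv F (a, x) : SL2 F) : Matrix (Fin 2) (Fin 2) F) 0 0 = a := rfl
    have e01 : ((BSEquiv F (a, x) : SL2 F) : Matrix (Fin 2) (Fin 2) F) 0 1 = x := rfl
    have e11 : ((BSEquiv F (a, x) : SL2 F) : Matrix (Fin 2) (Fin 2) F) 1 1 = ((a⁻¹ : Fˣ) : F) := rfl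
    have hinv : α' ((a⁻¹ : Fˣ) : F) = α'⁻¹ (a : F) := by
      rw [MulChar.inv_apply, Ring.inverse_unit]
    simp only [thS, e00, e01, e11, map_add, map_mul, Complex.conj_natCast, hinv]
    ring
  have hsum : ∀ a : Fˣ, ∑ x : F, thS α (BSEquiv F (a, x)) *
      conj (indFun (BSL F) (thS α') ((BSEquiv F (a, x) : SL2 F))) =
      Fintype.card F * ((α a * conj (α' a)) + (α a * conj (α'⁻¹ a))) := by
    intro a
    simp only [hval]
    have s1 := Finset.sum_mul Finset.univ (fun x => (N (a : F) ((a⁻¹ : Fˣ) : F) x : ℂ)) (α a * conj (α'⁻¹ a))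
    rw [Finset.sum_add_distrib, ← s1, sum_N, Finset.sum_const, Finset.card_univ, nsmul_eq_mul]
    ring
  simp only [hsum]
  rw [← Finset.mul_sum, Finset.sum_add_distrib, sum_units_conj, sum_units_conj]
  split_ifs <;> field_simp <;> ring

omit [Fintype F] in
theorem isCharacter_indS (α : MulChar F ℂ) :
    IsCharacter (SL2 F) (indFun (BSL F) (thS α)) :=
  H18.CharInd.isCharacter_ind _ (H18.CharBasic.isCharacter_of_isIrr (isIrr_thS α))

omit [Fintype F] [Fintype (SL2 F)] in
theorem eq_inv_iff (α : MulChar F ℂ) : α = α⁻¹ ↔ α ^ 2 = 1 := by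
  rw [eq_inv_iff_mul_eq_one, sq]

theorem isIrr_indS_iff (α : MulChar F ℂ) :
    IsIrrCharacter (SL2 F) (indFun (BSL F) (thS α)) ↔ α ^ 2 ≠ 1 := by
  classical
  rw [H18.CharOrtho.isIrr_iff, inner_indS, if_pos rfl, Ne, ← eq_inv_iff]
  constructor
  · rintro ⟨-, h⟩ h2
    rw [if_pos h2] at h
    norm_num at h
  · intro h
    exact ⟨isCharacter_indS α, by rw [if_neg h, add_zero]⟩

theorem indS_eq_iff (α α' : MulChar F ℂ) :
    indFun (BSL F) (thS α) = indFun (BSL F) (thS α') ↔ α = α' ∨ α = α'⁻¹ := by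
  classical
  constructor
  · intro h
    have h1 := inner_indS α α
    have h2 := inner_indS α α'
    rw [← h] at h2
    rw [h1] at h2
    by_contra hcon
    push Not at hcon
    rw [if_neg hcon.1, if_neg hcon.2, if_pos rfl] at h2
    split_ifs at h2 <;> norm_num at h2
  · rintro (rfl | rfl)
    · rfl
    · rw [← sub_eq_zero, ← H18.CharOrtho.inner_self_eq_zero]
      simp only [H18.CharOrtho.inner_sub_left, H18.CharOrtho.inner_sub_right, inner_indS, inv_inv]
      by_cases hab : α' = α'⁻¹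
      · rw [← hab]; simp
      · have hab' : ¬ α'⁻¹ = α' := fun h => hab h.symm
        simp [hab, hab']

/-- Restricting the principal series of `GL₂` to `SL₂`. -/
theorem ind_restrict [Fintype (GL (Fin 2) F)] (α β : MulChar F ℂ) (g : SL2 F) :
    indFun (upperTriangularGL 2 F) (th α β) (Matrix.SpecialLinearGroup.toGL g) =
      indFun (BSL F) (thS (α * β⁻¹)) g := by
  classical
  rw [indFun_eq_sum _ _ (th_classFun α β) rGL rGL_bijective,
    indFun_eq_sum _ _ (thS_classFun (α * β⁻¹)) rSL rSL_bijective]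
  refine Finset.sum_congr rfl (fun o _ => ?_)
  by_cases hm : (rSL o)⁻¹ * g * rSL o ∈ BSL F
  · have hm' : (rGL o)⁻¹ * Matrix.SpecialLinearGroup.toGL g * rGL o ∈ upperTriangularGL 2 F := by
      rw [fixedGL]
      rw [fixedSL] at hm
      exact hm
    rw [extendByZero_apply_mem _ _ hm, extendByZero_apply_mem _ _ hm']
    have hd := BSL_diag ⟨_, hm⟩
    have key : ∀ x y : F, x * y = 1 → α x * β y = (α * β⁻¹) x := by
      intro x y hxy
      have hy : y = x⁻¹ := eq_inv_of_mul_eq_one_right hxy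
      rw [MulChar.mul_apply, MulChar.inv_apply' β, hy]
    simp only [th, thS]
    match o with
    | none =>
      have h0 : (rGL none)⁻¹ * Matrix.SpecialLinearGroup.toGL g * rGL none = Matrix.SpecialLinearGroup.toGL g := by
        simp [rGL]
      have h1 : (rSL none)⁻¹ * g * rSL none = g := by simp [rSL]
      simp only [h1] at hd
      rw [h0, h1]
      exact key _ _ hd
    | some a =>
      simp only [rSL_conj_some] at hd
      rw [rGL_conj_some, rSL_conj_some]
      exact key _ _ hd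
  · have hm' : (rGL o)⁻¹ * Matrix.SpecialLinearGroup.toGL g * rGL o ∉ upperTriangularGL 2 F := by
      rw [fixedGL]
      rw [fixedSL] at hm
      exact hm
    rw [extendByZero_apply_notMem _ _ hm, extendByZero_apply_notMem _ _ hm']

end SLpart

end H43.Principal
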