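import Cfsg.Agent.Lib.H43.GL2Count

/-!
Conjugacy in `SL₂`: two non-scalar elements are conjugate iff they have the same trace and their forms
`v ↦ det [v | g v]` represent a common non-zero value.
-/
set_option autoImplicit false

namespace H43.SL2Conj

open Matrix H43.GL2Basic H43.GL2Card

section Field
variable {F : Type*} [Field F]

theorem conj_of_Q (g h : SpecialLinearGroup (Fin 2) F)
    (ht : (g : Matrix (Fin 2) (Fin 2) F).trace = (h : Matrix (Fin 2) (Fin 2) F).trace)
    {x y x' y' : F} (hne : Q (g : Matrix (Fin 2) (Fin 2) F) x y ≠ 0)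
    (heq : Q (g : Matrix (Fin 2) (Fin 2) F) x y = Q (h : Matrix (Fin 2) (Fin 2) F) x' y') : IsConj g h := by
  have hne' : Q (h : Matrix (Fin 2) (Fin 2) F) x' y' ≠ 0 := heq ▸ hne
  set A := (g : Matrix (Fin 2) (Fin 2) F) with hA
  set B := (h : Matrix (Fin 2) (Fin 2) F) with hB
  have hdA : (P A x y).det ≠ 0 := by rwa [det_P]
  have hdB : (P B x' y').det ≠ 0 := by rwa [det_P]
  have hA1 : A.det = 1 := g.det_coe
  have hB1 : B.det = 1 := h.det_coe
  have hmA : A * P A x y = P A x y * C B.trace 1 := by rw [← ht, ← hA1]; exact mul_P A x y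
  have hmB : B * P B x' y' = P B x' y' * C B.trace 1 := by
    have := mul_P B x' y'
    rwa [hB1] at this
  have huA : IsUnit (P A x y).det := isUnit_iff_ne_zero.2 hdA
  have huB : IsUnit (P B x' y').det := isUnit_iff_ne_zero.2 hdB
  -- c = P_B * P_A⁻¹
  let c : SpecialLinearGroup (Fin 2) F := ⟨P B x' y' * (P A x y)⁻¹, by
    rw [det_mul, det_nonsing_inv, Ring.inverse_eq_inv', det_P, det_P, heq]
    exact mul_inv_cancel₀ hne'⟩
  refine isConj_iff.2 ⟨c, ?_⟩
  rw [mul_inv_eq_iff_eq_mul]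
  apply Subtype.ext
  change (P B x' y' * (P A x y)⁻¹) * A = B * (P B x' y' * (P A x y)⁻¹)
  rw [← Matrix.mul_assoc, hmB, Matrix.mul_assoc, Matrix.mul_assoc]
  congr 1
  have h1 : (P A x y)⁻¹ * (A * P A x y) * (P A x y)⁻¹ = (P A x y)⁻¹ * (P A x y * C B.trace 1) * (P A x y)⁻¹ := by
    rw [hmA]
  rw [← Matrix.mul_assoc, Matrix.mul_assoc ((P A x y)⁻¹ * A), Matrix.mul_nonsing_inv _ huA, Matrix.mul_one,
    ← Matrix.mul_assoc (P A x y)⁻¹, Matrix.nonsing_inv_mul _ huA, Matrix.one_mul] at h1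
  exact h1

theorem Q_of_conj {g h : SpecialLinearGroup (Fin 2) F} (hgh : IsConj g h) (x y : F) :
    ∃ x' y' : F, Q (h : Matrix (Fin 2) (Fin 2) F) x' y' = Q (g : Matrix (Fin 2) (Fin 2) F) x y := by
  obtain ⟨c, hc⟩ := isConj_iff.1 hgh
  have hc' : c * g = h * c := by rw [← hc]; group
  have hm : (c : Matrix (Fin 2) (Fin 2) F) * (g : Matrix (Fin 2) (Fin 2) F) =
      (h : Matrix (Fin 2) (Fin 2) F) * (c : Matrix (Fin 2) (Fin 2) F) := congrArg Subtype.val hc'
  set A := (g : Matrix (Fin 2) (Fin 2) F)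
  set B := (h : Matrix (Fin 2) (Fin 2) F)
  set M := (c : Matrix (Fin 2) (Fin 2) F)
  refine ⟨M 0 0 * x + M 0 1 * y, M 1 0 * x + M 1 1 * y, ?_⟩
  have hP : P B (M 0 0 * x + M 0 1 * y) (M 1 0 * x + M 1 1 * y) = M * P A x y := by
    have e00 := congrFun (congrFun hm 0) 0
    have e01 := congrFun (congrFun hm 0) 1
    have e10 := congrFun (congrFun hm 1) 0
    have e11 := congrFun (congrFun hm 1) 1
    simp [Matrix.mul_apply, Fin.sum_univ_two] at e00 e01 e10 e11
    ext i j
    fin_cases i <;> fin_cases j <;> simp [P, Matrix.mul_apply, Fin.sum_univ_two]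
    · linear_combination -x * e00 - y * e01
    · linear_combination -x * e10 - y * e11
  rw [← det_P, ← det_P, hP, det_mul, c.det_coe, one_mul]

theorem trace_of_conj {g h : SpecialLinearGroup (Fin 2) F} (hgh : IsConj g h) :
    (g : Matrix (Fin 2) (Fin 2) F).trace = (h : Matrix (Fin 2) (Fin 2) F).trace := by
  obtain ⟨c, hc⟩ := isConj_iff.1 hgh
  have h1 : IsConj (SpecialLinearGroup.toGL g) (SpecialLinearGroup.toGL h) := by
    refine isConj_iff.2 ⟨SpecialLinearGroup.toGL c, ?_⟩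
    rw [← map_inv, ← map_mul, ← map_mul, hc]
  exact gl_trace_eq_of_conj h1

theorem isScal_of_conj {g h : SpecialLinearGroup (Fin 2) F} (hgh : IsConj g h) :
    IsScal (g : Matrix (Fin 2) (Fin 2) F) ↔ IsScal (h : Matrix (Fin 2) (Fin 2) F) := by
  obtain ⟨c, hc⟩ := isConj_iff.1 hgh
  have h1 : IsConj (SpecialLinearGroup.toGL g) (SpecialLinearGroup.toGL h) := by
    refine isConj_iff.2 ⟨SpecialLinearGroup.toGL c, ?_⟩
    rw [← map_inv, ← map_mul, ← map_mul, hc]
  exact gl_isScal_iff_of_conj h1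

theorem Q_smul (A : Matrix (Fin 2) (Fin 2) F) (r x y : F) : Q A (r * x) (r * y) = r ^ 2 * Q A x y := by
  simp [Q]; ring

/-- companion matrix in `SL₂` -/
def cSL (t : F) : SpecialLinearGroup (Fin 2) F := ⟨C t 1, det_C t 1⟩

theorem cSL_coe (t : F) : (cSL t : Matrix (Fin 2) (Fin 2) F) = C t 1 := rfl
theorem trace_cSL (t : F) : (cSL t : Matrix (Fin 2) (Fin 2) F).trace = t := by rw [cSL_coe, trace_C]
theorem Q_cSL (t : F) : Q (cSL t : Matrix (Fin 2) (Fin 2) F) 1 0 = 1 := by simp [cSL_coe, Q, C]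
theorem not_isScal_cSL (t : F) : ¬ IsScal (cSL t : Matrix (Fin 2) (Fin 2) F) := not_isScal_C t 1

/-- `s` times a unipotent element, `s² = 1`. -/
def uSL (s n : F) (hs : s * s = 1) : SpecialLinearGroup (Fin 2) F := ⟨!![s, -n; 0, s], by simp [det_fin_two, hs]⟩

theorem trace_uSL (s n : F) (hs : s * s = 1) : (uSL s n hs : Matrix (Fin 2) (Fin 2) F).trace = 2 * s := by
  simp [uSL, trace_fin_two]; ring
theorem Q_uSL (s n : F) (hs : s * s = 1) (x y : F) :
    Q (uSL s n hs : Matrix (Fin 2) (Fin 2) F) x y = n * y ^ 2 := by simp [uSL, Q]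
theorem not_isScal_uSL (s n : F) (hs : s * s = 1) (hn : n ≠ 0) :
    ¬ IsScal (uSL s n hs : Matrix (Fin 2) (Fin 2) F) := by simp [uSL, IsScal, hn]

theorem eq_one_or_neg_one_of_isScal (g : SpecialLinearGroup (Fin 2) F) (h : IsScal (g : Matrix (Fin 2) (Fin 2) F)) :
    g = 1 ∨ g = -1 := by
  obtain ⟨h1, h2, h3⟩ := h
  have hd := g.det_coe
  rw [det_fin_two, h1, h3] at hd
  have : ((g : Matrix (Fin 2) (Fin 2) F) 1 1 - 1) * ((g : Matrix (Fin 2) (Fin 2) F) 1 1 + 1) = 0 := by
    linear_combination hd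
  rcases mul_eq_zero.1 this with h4 | h4
  · left
    have h5 := sub_eq_zero.1 h4
    ext i j
    fin_cases i <;> fin_cases j <;> simp [h1, h2, h3, h5]
  · right
    have h5 := eq_neg_of_add_eq_zero_left h4
    ext i j
    fin_cases i <;> fin_cases j <;> simp [h1, h2, h3, h5]

end Field

section Fin
variable {F : Type*} [Field F] [Fintype F]

theorem conj_cSL_of_disc (g : SpecialLinearGroup (Fin 2) F)
    (hD : (g : Matrix (Fin 2) (Fin 2) F).trace ^ 2 - 4 ≠ 0) :
    IsConj g (cSL (g : Matrix (Fin 2) (Fin 2) F).trace) := by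
  set A := (g : Matrix (Fin 2) (Fin 2) F) with hA
  obtain ⟨x, y, hxy⟩ := form_universal (A 1 0) (A 1 1 - A 0 0) (-A 0 1) (by
    have hd : A.det = 1 := g.det_coe
    rw [det_fin_two] at hd
    rw [trace_fin_two] at hD
    convert hD using 1
    linear_combination (-4) * hd) 1
  have hQ : Q A x y = 1 := by
    simp only [Q]
    linear_combination hxy
  refine conj_of_Q g _ (trace_cSL _).symm (x := x) (y := y) (x' := 1) (y' := 0) ?_ ?_
  · rw [hQ]; exact one_ne_zero
  · rw [hQ, Q_cSL]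

omit [Fintype F] in
theorem ringChar_eq_two (h2 : (2 : F) = 0) : ringChar F = 2 := by
  have h3 : ringChar F ∣ 2 := (ringChar.spec F 2).1 (by exact_mod_cast h2)
  have h4 : ringChar F ≠ 1 := by
    intro h5
    have := (ringChar.spec F 1).2 (by rw [h5])
    simp at this
  exact ((Nat.dvd_prime Nat.prime_two).1 h3).resolve_left h4

/-- In characteristic 2 every non-scalar element of `SL₂` is determined up to conjugacy by its trace. -/
theorem conj_cSL_of_char_two (h2 : (2 : F) = 0) (g : SpecialLinearGroup (Fin 2) F)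
    (hg : ¬ IsScal (g : Matrix (Fin 2) (Fin 2) F)) :
    IsConj g (cSL (g : Matrix (Fin 2) (Fin 2) F).trace) := by
  obtain ⟨x, y, hxy⟩ := exists_Q_ne_zero hg
  obtain ⟨r, hr⟩ := FiniteField.isSquare_of_char_two (ringChar_eq_two h2) (Q (g : Matrix (Fin 2) (Fin 2) F) x y)
  have hr0 : r ≠ 0 := by
    rintro rfl
    rw [hr] at hxy
    simp at hxy
  have hQ : Q (g : Matrix (Fin 2) (Fin 2) F) (r⁻¹ * x) (r⁻¹ * y) = 1 := by
    rw [Q_smul, hr]
    field_simp
  refine conj_of_Q g _ (trace_cSL _).symm (x := r⁻¹ * x) (y := r⁻¹ * y) (x' := 1) (y' := 0) ?_ ?_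
  · rw [hQ]; exact one_ne_zero
  · rw [hQ, Q_cSL]

/-- In odd characteristic a non-scalar element of trace `2 s`, `s² = 1`, is conjugate to the companion matrix or to
`uSL s n`, for a fixed non-square `n`. -/
theorem conj_of_trace_two (h2 : (2 : F) ≠ 0) (g : SpecialLinearGroup (Fin 2) F)
    (hg : ¬ IsScal (g : Matrix (Fin 2) (Fin 2) F)) (s n : F) (hs : s * s = 1) (hn : ¬ IsSquare n)
    (ht : (g : Matrix (Fin 2) (Fin 2) F).trace = 2 * s) :
    IsConj g (cSL (2 * s)) ∨ IsConj g (uSL s n hs) := by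
  obtain ⟨x, y, hxy⟩ := exists_Q_ne_zero hg
  have hn0 : n ≠ 0 := by rintro rfl; exact hn (IsSquare.zero)
  by_cases hsq : IsSquare (Q (g : Matrix (Fin 2) (Fin 2) F) x y)
  · left
    obtain ⟨r, hr⟩ := hsq
    have hr0 : r ≠ 0 := by
      rintro rfl
      rw [hr] at hxy
      simp at hxy
    have hQ : Q (g : Matrix (Fin 2) (Fin 2) F) (r⁻¹ * x) (r⁻¹ * y) = 1 := by
      rw [Q_smul, hr]
      field_simp
    refine conj_of_Q g _ (by rw [trace_cSL, ht]) (x := r⁻¹ * x) (y := r⁻¹ * y) (x' := 1) (y' := 0) ?_ ?_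
    · rw [hQ]; exact one_ne_zero
    · rw [hQ, Q_cSL]
  · right
    have hprod : IsSquare (Q (g : Matrix (Fin 2) (Fin 2) F) x y * n) := by
      classical
      have h2' : ringChar F ≠ 2 := by
        intro h
        apply h2
        have := ringChar.spec F 2
        rw [h] at this
        exact_mod_cast this.2 dvd_rfl
      have h1 := quadraticChar_neg_one_iff_not_isSquare.2 hsq
      have h3 := quadraticChar_neg_one_iff_not_isSquare.2 hn
      have h4 : quadraticChar F (Q (g : Matrix (Fin 2) (Fin 2) F) x y * n) = 1 := by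
        rw [map_mul, h1, h3]; norm_num
      exact (quadraticChar_one_iff_isSquare (mul_ne_zero hxy hn0)).1 h4
    obtain ⟨r, hr⟩ := hprod
    have hr0 : r ≠ 0 := by
      rintro rfl
      simp at hr
      rcases hr with h | h
      · exact hxy h
      · exact hn0 h
    refine conj_of_Q g _ (by rw [trace_uSL, ht]) (x := x) (y := y) (x' := 0) (y' := r / n) hxy ?_
    rw [Q_uSL]
    field_simp
    rw [hr]; ring

end Fin

end H43.SL2Conj
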