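import Cfsg.Agent.Lib.H43.SLTorus

/-!
The cuspidal characters of `SL₂` over a finite field of odd order, as virtual characters
`St·Ind_B α - Ind_B α - Ind_C θ`.
-/
set_option autoImplicit false
set_option linter.unusedSectionVars false

namespace H43.SLCusp

open Matrix H43.GL2Basic H43.GL2Card H43.GL2Count H43.Lines H43.IndTrans H43.Principal H43.GLIrr H43.SL2Conj H43.SLIrr H43.SLCount
open H43.SLStruct H43.SLOdd H43.SLVals H43.SL2Order H43.SLTorus Cfsg
open H18.CharBasic H18.CharOrtho H18.CharInd H18.CharQuot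
open scoped ComplexConjugate

variable {F : Type*} [Field F] [Fintype F]

local notation "G2" => GL (Fin 2)
local notation "SL2" => Matrix.SpecialLinearGroup (Fin 2)

/-- upper unitriangular elements -/
def uS (x : F) : SL2 F := ⟨!![1, x; 0, 1], by simp [det_fin_two]⟩

theorem uS_coe (x : F) : (uS x : Matrix (Fin 2) (Fin 2) F) = !![1, x; 0, 1] := rfl

theorem uS_zero : uS (0 : F) = 1 := by
  ext i j
  rw [uS_coe]
  fin_cases i <;> fin_cases j <;> simp

theorem uS_hasEig (x : F) : HasEig (uS x : Matrix (Fin 2) (Fin 2) F) := by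
  rw [hasEig_iff, uS_coe]
  refine ⟨1, ?_⟩
  simp [trace_fin_two, det_fin_two]

theorem not_isScal_uS {x : F} (hx : x ≠ 0) : ¬ IsScal (uS x : Matrix (Fin 2) (Fin 2) F) := by
  rw [uS_coe]; simp [IsScal, hx]

variable [Fintype (SL2 F)]

theorem StS_uS {x : F} (hx : x ≠ 0) : StS F (uS x) = 0 := by
  rw [StS_apply_B _ (by rw [uS_coe]; rfl), uS_coe]
  simp [N_self_ne, hx]

theorem ind_uS (α : MulChar F ℂ) {x : F} (hx : x ≠ 0) : indFun (BSL F) (thS α) (uS x) = 1 := by
  rw [indS_apply_B _ _ (by rw [uS_coe]; rfl), uS_coe]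
  simp [N_self_ne, hx]

theorem sq_of_neg_one (α : MulChar F ℂ) : α (-1) ^ 2 = 1 := by
  rw [← map_pow]; simp

theorem mul_conj_of_sq {w : ℂ} (h : w ^ 2 = 1) : w * conj w = 1 := by
  have : (w - 1) * (w + 1) = 0 := by linear_combination h
  rcases mul_eq_zero.1 this with h | h
  · rw [sub_eq_zero.1 h]; simp
  · rw [eq_neg_of_add_eq_zero_left h]; simp

theorem conj_of_sq {w : ℂ} (h : w ^ 2 = 1) : conj w = w := by
  have : (w - 1) * (w + 1) = 0 := by linear_combination h
  rcases mul_eq_zero.1 this with h | h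
  · rw [sub_eq_zero.1 h]; simp
  · rw [eq_neg_of_add_eq_zero_left h]; simp

theorem indS_neg (α : MulChar F ℂ) (g : SL2 F) :
    indFun (BSL F) (thS α) (-1 * g) = α (-1) * indFun (BSL F) (thS α) g := by
  refine ind_central (BSL F) (thS α) ⟨-1, (mem_BSL _).2 (by simp)⟩ neg_comm _ (fun h => ?_) g
  simp only [thS]
  rw [BSL_mul, map_mul]
  simp

theorem StS_neg (g : SL2 F) : StS F (-1 * g) = StS F g := by
  have h := indS_neg (1 : MulChar F ℂ) g
  have h1 : (1 : MulChar F ℂ) (-1) = 1 := MulChar.one_apply (isUnit_iff_ne_zero.2 (by simp))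
  rw [h1, one_mul] at h
  unfold StS
  rw [Pi.sub_apply, Pi.sub_apply, h]

theorem conj_StS (g : SL2 F) (hg : (g : Matrix (Fin 2) (Fin 2) F) 1 0 = 0) : conj (StS F g) = StS F g := by
  rw [StS_apply_B g hg]; simp

/-- inner product over the Borel subgroup with `(St - 1) α` -/
theorem inner_B (hodd : Odd (Fintype.card F)) [Fintype (BSL F)] (α : MulChar F ℂ) (f : SL2 F → ℂ)
    (hneg : ∀ g, f (-1 * g) = α (-1) * f g) :
    classInner (fun b : BSL F => f b) (fun b : BSL F => thS α b * StS F b) -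
      classInner (fun b : BSL F => f b) (thS α) =
    2 / ((Fintype.card F : ℂ) * ((Fintype.card F : ℂ) - 1)) *
      ((Fintype.card F : ℂ) * f 1 - ∑ x : F, f (uS x)) := by
  classical
  have hq0 : (Fintype.card F : ℂ) ≠ 0 := by exact_mod_cast Fintype.card_ne_zero
  have hq1 : (Fintype.card F : ℂ) - 1 ≠ 0 := by
    rw [sub_ne_zero]; exact_mod_cast (Fintype.one_lt_card (α := F)).ne'
  have hcard : (Nat.card (BSL F) : ℂ) = (Fintype.card F : ℂ) * ((Fintype.card F : ℂ) - 1) := by
    rw [← Nat.card_congr (BSEquiv F), Nat.card_prod, card_units, Nat.card_eq_fintype_card]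
    push_cast [Nat.cast_sub (Fintype.one_lt_card (α := F)).le]
    ring
  rw [← H18.CharOrtho.inner_sub_right]
  unfold classInner
  rw [hcard, ← (BSEquiv F).sum_comp, Fintype.sum_prod_type]
  set S := (Fintype.card F : ℂ) * f 1 - ∑ x : F, f (uS x) with hS
  have hN : ∀ x : F, (N (1 : F) 1 x : ℂ) = if x = 0 then (Fintype.card F : ℂ) else 0 := by
    intro x
    split_ifs with h
    · rw [h, N_self_zero]
    · rw [N_self_ne _ h, Nat.cast_zero]
  have hsumS : ∑ x : F, f (uS x) * ((N (1 : F) 1 x : ℂ) - 1) = S := by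
    simp only [hN, mul_sub, mul_one]
    rw [Finset.sum_sub_distrib, hS]
    congr 1
    simp only [mul_ite, mul_zero]
    rw [Finset.sum_ite_eq' Finset.univ (0 : F), if_pos (Finset.mem_univ _), uS_zero, mul_comm]
  have hm1 : (1 : Fˣ) ≠ -1 := by
    intro h
    have h1 : (1 : F) = -1 := congrArg Units.val h
    apply two_ne_zero' hodd
    linear_combination h1
  have hval : ∀ a : Fˣ, ∑ x : F, f (BSEquiv F (a, x) : SL2 F) *
      conj (((fun b : BSL F => thS α b * StS F b) - thS α) (BSEquiv F (a, x))) =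
      (if a = 1 then S else 0) + (if a = -1 then S else 0) := by
    intro a
    have e00 : ∀ x, ((BSEquiv F (a, x) : SL2 F) : Matrix (Fin 2) (Fin 2) F) 0 0 = a := fun _ => rfl
    have e01 : ∀ x, ((BSEquiv F (a, x) : SL2 F) : Matrix (Fin 2) (Fin 2) F) 0 1 = x := fun _ => rfl
    have e11 : ∀ x, ((BSEquiv F (a, x) : SL2 F) : Matrix (Fin 2) (Fin 2) F) 1 1 = ((a⁻¹ : Fˣ) : F) := fun _ => rfl
    have hT : ∀ x, ((fun b : BSL F => thS α b * StS F b) - thS α) (BSEquiv F (a, x)) =
        α a * ((N (a : F) ((a⁻¹ : Fˣ) : F) x : ℂ) - 1) := by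
      intro x
      rw [Pi.sub_apply, StS_apply_B _ ((mem_BSL _).1 (BSEquiv F (a, x)).2)]
      simp only [thS, e00, e01, e11]
      ring
    simp only [hT]
    by_cases h1 : a = 1
    · subst h1
      rw [if_pos rfl, if_neg hm1, add_zero, ← hsumS]
      refine Finset.sum_congr rfl (fun x _ => ?_)
      have h2 : (BSEquiv F (1, x) : SL2 F) = uS x := by
        ext i j
        fin_cases i <;> fin_cases j <;> simp [BSEquiv, uS]
      rw [h2]
      simp
    · by_cases h3 : a = -1
      · subst h3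
        rw [if_neg h1, if_pos rfl, zero_add, ← hsumS]
        refine Fintype.sum_equiv (Equiv.neg F) _ _ (fun x => ?_)
        have h2 : (BSEquiv F (-1, x) : SL2 F) = -1 * uS (-x) := by
          have h21 : ((-1 * uS (-x) : SL2 F) : Matrix (Fin 2) (Fin 2) F) = -!![1, -x; 0, 1] := by
            rw [neg_one_mul, Matrix.SpecialLinearGroup.coe_neg, uS_coe]
          apply Subtype.ext
          rw [h21]
          change !![((-1 : Fˣ) : F), x; 0, (((-1 : Fˣ)⁻¹ : Fˣ) : F)] = _
          ext i j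
          fin_cases i <;> fin_cases j <;> simp
        have h4 : N (((-1 : Fˣ) : F)) (((-1 : Fˣ)⁻¹ : Fˣ) : F) x = N (1 : F) 1 (-x) := by
          by_cases hx : x = 0
          · subst hx
            simp [N_self_zero]
          · have : (((-1 : Fˣ)⁻¹ : Fˣ) : F) = ((-1 : Fˣ) : F) := by simp
            rw [this, N_self_ne _ hx, N_self_ne _ (neg_ne_zero.2 hx)]
        rw [h2, hneg, h4]
        have h5 : α (((-1 : Fˣ)) : F) = α (-1) := by simp
        rw [h5, map_mul]
        have h6 := mul_conj_of_sq (sq_of_neg_one α)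
        simp only [Equiv.neg_apply, map_sub, Complex.conj_natCast, map_one]
        linear_combination (f (uS (-x)) * ((N (1 : F) 1 (-x) : ℂ) - 1)) * h6
      · rw [if_neg h1, if_neg h3, add_zero]
        apply Finset.sum_eq_zero
        intro x _
        rw [N_of_ne]
        · simp
        · intro h
          have h5 : a = a⁻¹ := Units.ext h
          have h6 : a * a = 1 := by nth_rewrite 2 [h5]; exact mul_inv_cancel a
          have h7 : ((a : F) - 1) * ((a : F) + 1) = 0 := by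
            have : (a : F) * a = 1 := congrArg Units.val h6
            linear_combination this
          rcases mul_eq_zero.1 h7 with h8 | h8
          · exact h1 (Units.ext (sub_eq_zero.1 h8))
          · exact h3 (Units.ext (by rw [Units.val_neg, Units.val_one]; exact eq_neg_of_add_eq_zero_left h8))
  simp only [hval]
  rw [Finset.sum_add_distrib, Finset.sum_ite_eq' Finset.univ (1 : Fˣ), if_pos (Finset.mem_univ _),
    Finset.sum_ite_eq' Finset.univ (-1 : Fˣ), if_pos (Finset.mem_univ _)]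
  field_simp
  ring

variable {C : Subgroup (SL2 F)}

/-- the virtual cuspidal character -/
noncomputable def vc (C : Subgroup (SL2 F)) (α : MulChar F ℂ) (θ : C →* ℂˣ) : SL2 F → ℂ :=
  indFun (BSL F) (fun b => thS α b * StS F b) - indFun (BSL F) (thS α) - indFun C (fun c => ((θ c : ℂˣ) : ℂ))

theorem isGen_vc (α : MulChar F ℂ) (θ : C →* ℂˣ) : IsGeneralizedCharacter (SL2 F) (vc C α θ) := by
  have h1 : IsCharacter (SL2 F) (indFun (BSL F) (fun b => thS α b * StS F b)) := by
    rw [indFun_mul_restrict _ _ (isClassFunction_of_isIrr isIrr_StS)]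
    exact isCharacter_mul (isCharacter_indS α) (isCharacter_of_isIrr isIrr_StS)
  exact isGen_sub (isGen_sub (isGen_of_isCharacter h1) (isGen_of_isCharacter (isCharacter_indS α)))
    (isGen_of_isCharacter (isCharacter_ind C (isCharacter_of_isIrr (isIrrCharacter_of_hom θ))))

theorem vc_apply (α : MulChar F ℂ) (θ : C →* ℂˣ) (g : SL2 F) :
    vc C α θ g = indFun (BSL F) (thS α) g * StS F g - indFun (BSL F) (thS α) g -
      indFun C (fun c => ((θ c : ℂˣ) : ℂ)) g := by
  unfold vc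
  rw [indFun_mul_restrict _ _ (isClassFunction_of_isIrr isIrr_StS)]
  rfl

/-- Frobenius reciprocity for the virtual cuspidal character -/
theorem inner_vc (hC : Tor C) [Fintype C] (α : MulChar F ℂ) (θ : C →* ℂˣ) {f : SL2 F → ℂ} (hf : IsClassFunction (SL2 F) f)
    (hneg : ∀ g, f (-1 * g) = α (-1) * f g) :
    classInner f (vc C α θ) = 2 / ((Fintype.card F : ℂ) * ((Fintype.card F : ℂ) - 1)) *
      ((Fintype.card F : ℂ) * f 1 - ∑ x : F, f (uS x)) -
      classInner (fun c : C => f c) (fun c => ((θ c : ℂˣ) : ℂ)) := by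
  classical
  have : Fintype (BSL F) := Fintype.ofFinite _
  unfold vc
  rw [H18.CharOrtho.inner_sub_right, H18.CharOrtho.inner_sub_right, frobenius' _ _ hf, frobenius' _ _ hf,
    frobenius' _ _ hf, inner_B hC.odd α f hneg]

theorem tor_index (hC : Tor C) : (C.index : ℂ) = (Fintype.card F : ℂ) * ((Fintype.card F : ℂ) - 1) := by
  have h1 := C.card_mul_index
  rw [hC.card, card_SL] at h1
  have hq := Fintype.one_lt_card (α := F)
  have hq2 : 1 ≤ Fintype.card F ^ 2 := Nat.one_le_pow _ _ (by omega)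
  have h2 : ((Fintype.card F : ℂ) + 1) * (C.index : ℂ) = (Fintype.card F : ℂ) * ((Fintype.card F : ℂ) ^ 2 - 1) := by
    have h3 : (((Fintype.card F + 1) * C.index : ℕ) : ℂ) = ((Fintype.card F * (Fintype.card F ^ 2 - 1) : ℕ) : ℂ) := by
      rw [h1]
    push_cast [Nat.cast_sub hq2] at h3
    exact h3
  have h4 : (Fintype.card F : ℂ) + 1 ≠ 0 := by exact_mod_cast Nat.succ_ne_zero (Fintype.card F)
  apply mul_left_cancel₀ h4
  rw [h2]; ring

theorem vc_one (hC : Tor C) (α : MulChar F ℂ) (θ : C →* ℂˣ) : vc C α θ 1 = (Fintype.card F : ℂ) - 1 := by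
  rw [vc_apply, indS_one, StS_one, indFun_one, tor_index hC, map_one, Units.val_one]
  ring

theorem vc_neg (hC : Tor C) (α : MulChar F ℂ) (θ : C →* ℂˣ) (h : ((θ ⟨-1, hC.neg_one_mem⟩ : ℂˣ) : ℂ) = α (-1)) (g : SL2 F) :
    vc C α θ (-1 * g) = α (-1) * vc C α θ g := by
  have h1 := ind_central C (fun c => ((θ c : ℂˣ) : ℂ)) ⟨-1, hC.neg_one_mem⟩ neg_comm (α (-1)) (fun c => by
    rw [map_mul, Units.val_mul, h]) g
  rw [vc_apply, vc_apply, StS_neg, indS_neg]
  simp only at h1
  rw [h1]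
  ring

theorem vc_uS (hC : Tor C) (α : MulChar F ℂ) (θ : C →* ℂˣ) {x : F} (hx : x ≠ 0) : vc C α θ (uS x) = -1 := by
  rw [vc_apply, StS_uS hx, ind_uS α hx, hC.ind_apply_eig _ (not_isScal_uS hx) (uS_hasEig x)]
  ring

theorem vc_split (hC : Tor C) (α : MulChar F ℂ) (θ : C →* ℂˣ) {g : SL2 F} (h10 : (g : Matrix (Fin 2) (Fin 2) F) 1 0 = 0)
    (hne : (g : Matrix (Fin 2) (Fin 2) F) 0 0 ≠ (g : Matrix (Fin 2) (Fin 2) F) 1 1) : vc C α θ g = 0 := by
  have hs : ¬ IsScal (g : Matrix (Fin 2) (Fin 2) F) := fun h => hne h.2.2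
  have hE : HasEig (g : Matrix (Fin 2) (Fin 2) F) := by
    rw [hasEig_iff]
    refine ⟨(g : Matrix (Fin 2) (Fin 2) F) 0 0, ?_⟩
    rw [trace_fin_two, det_fin_two, h10]; ring
  rw [vc_apply, StS_apply_B g h10, N_of_ne hne, hC.ind_apply_eig _ hs hE]
  simp

theorem vc_tor (hC : Tor C) (α : MulChar F ℂ) (θ : C →* ℂˣ) (c : C) (hs : ¬ IsScal ((c : SL2 F) : Matrix (Fin 2) (Fin 2) F)) :
    vc C α θ c = -(((θ c : ℂˣ) : ℂ) + (((θ c)⁻¹ : ℂˣ) : ℂ)) := by
  have h1 := hC.no_eig c.2 hs
  rw [vc_apply, StS_apply_not _ h1, indS_apply_not _ _ h1, hC.ind_apply _ c hs, map_inv]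
  ring

theorem sum_uS (f : SL2 F → ℂ) (b : ℂ) (h : ∀ x : F, x ≠ 0 → f (uS x) = b) :
    ∑ x : F, f (uS x) = f 1 + ((Fintype.card F : ℂ) - 1) * b := by
  classical
  rw [← Finset.add_sum_erase _ _ (Finset.mem_univ (0 : F)), uS_zero]
  congr 1
  rw [Finset.sum_congr rfl (fun x hx => h x (Finset.ne_of_mem_erase hx)), Finset.sum_const,
    Finset.card_erase_of_mem (Finset.mem_univ _), Finset.card_univ, nsmul_eq_mul, Nat.cast_sub Fintype.card_pos]
  simp

theorem qq_ne : (Fintype.card F : ℂ) * ((Fintype.card F : ℂ) - 1) ≠ 0 := by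
  have hq0 : (Fintype.card F : ℂ) ≠ 0 := by exact_mod_cast Fintype.card_ne_zero
  have hq1 : (Fintype.card F : ℂ) - 1 ≠ 0 := by
    rw [sub_ne_zero]; exact_mod_cast (Fintype.one_lt_card (α := F)).ne'
  exact mul_ne_zero hq0 hq1

/-- functions with the values of a cuspidal character on the Borel subgroup -/
structure BLike (w : ℂ) (f : SL2 F → ℂ) : Prop where
  cl : IsClassFunction (SL2 F) f
  one : f 1 = (Fintype.card F : ℂ) - 1
  neg : ∀ g, f (-1 * g) = w * f g
  uni : ∀ x : F, x ≠ 0 → f (uS x) = -1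

theorem BLike.inner {α : MulChar F ℂ} {f : SL2 F → ℂ} (hf : BLike (α (-1)) f) (hC : Tor C) [Fintype C] (θ : C →* ℂˣ) :
    classInner f (vc C α θ) = 2 - classInner (fun c : C => f c) (fun c => ((θ c : ℂˣ) : ℂ)) := by
  rw [inner_vc hC α θ hf.cl hf.neg, sum_uS f (-1) hf.uni, hf.one]
  have h1 := qq_ne (F := F)
  have h2 : 2 / ((Fintype.card F : ℂ) * ((Fintype.card F : ℂ) - 1)) * ((Fintype.card F : ℂ) * ((Fintype.card F : ℂ) - 1) -
      ((Fintype.card F : ℂ) - 1 + ((Fintype.card F : ℂ) - 1) * -1)) = 2 := by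
    rw [div_mul_eq_mul_div, div_eq_iff h1]; ring
  rw [h2]

theorem bLike_vc (hC : Tor C) (α : MulChar F ℂ) (θ : C →* ℂˣ) (h : ((θ ⟨-1, hC.neg_one_mem⟩ : ℂˣ) : ℂ) = α (-1)) :
    BLike (α (-1)) (vc C α θ) where
  cl := isClassFunction_of_isGen (isGen_vc α θ)
  one := vc_one hC α θ
  neg := vc_neg hC α θ h
  uni := fun _ hx => vc_uS hC α θ hx

open Classical in
/-- class function supported on `±1` of `C` -/
noncomputable def R (C : Subgroup (SL2 F)) (w : ℂ) : C → ℂ := fun c =>
  ((Fintype.card F : ℂ) + 1) * ((if (c : SL2 F) = 1 then 1 else 0) + w * (if (c : SL2 F) = -1 then 1 else 0))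

theorem inner_R (hC : Tor C) [Fintype C] (w : ℂ) (ψ : C → ℂ) :
    classInner (R C w) ψ = conj (ψ 1) + w * conj (ψ ⟨-1, hC.neg_one_mem⟩) := by
  classical
  unfold classInner R
  have h4 : (Fintype.card F : ℂ) + 1 ≠ 0 := by exact_mod_cast Nat.succ_ne_zero (Fintype.card F)
  have e1 : ∀ c : C, ((c : SL2 F) = 1) = (c = 1) := fun c => by
    apply propext; exact ⟨fun h => Subtype.ext h, fun h => by rw [h]; rfl⟩
  have e2 : ∀ c : C, ((c : SL2 F) = -1) = (c = ⟨-1, hC.neg_one_mem⟩) := fun c => by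
    apply propext; exact ⟨fun h => Subtype.ext h, fun h => by rw [h]⟩
  simp only [e1, e2]
  have h5 : ∀ c : C, ((Fintype.card F : ℂ) + 1) * ((if c = 1 then 1 else 0) + w * (if c = ⟨-1, hC.neg_one_mem⟩ then 1 else 0)) *
      conj (ψ c) = (if c = 1 then ((Fintype.card F : ℂ) + 1) * conj (ψ c) else 0) +
      (if c = ⟨-1, hC.neg_one_mem⟩ then ((Fintype.card F : ℂ) + 1) * (w * conj (ψ c)) else 0) := by
    intro c
    split_ifs <;> ring
  simp only [h5]
  rw [Finset.sum_add_distrib, Finset.sum_ite_eq' Finset.univ (1 : C), if_pos (Finset.mem_univ _),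
    Finset.sum_ite_eq' Finset.univ (⟨-1, hC.neg_one_mem⟩ : C), if_pos (Finset.mem_univ _), hC.card]
  push_cast
  field_simp

/-- restriction of the virtual cuspidal character to the torus -/
theorem vc_res (hC : Tor C) (α : MulChar F ℂ) (θ : C →* ℂˣ) (h : ((θ ⟨-1, hC.neg_one_mem⟩ : ℂˣ) : ℂ) = α (-1)) :
    (fun c : C => vc C α θ c) = R C (α (-1)) - (fun c => ((θ c : ℂˣ) : ℂ)) - (fun c => ((θ⁻¹ c : ℂˣ) : ℂ)) := by
  funext c
  simp only [Pi.sub_apply, R]
  have hne := one_ne_neg_one hC.odd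
  by_cases hs : IsScal ((c : SL2 F) : Matrix (Fin 2) (Fin 2) F)
  · rw [isScal_iff'] at hs
    rcases hs with hs | hs
    · have hc : c = 1 := Subtype.ext hs
      rw [if_pos hs, if_neg (by rw [hs]; exact hne), hs, vc_one hC, hc, map_one, map_one, Units.val_one]
      ring
    · have hc : c = ⟨-1, hC.neg_one_mem⟩ := Subtype.ext hs
      have h2 := vc_neg hC α θ h 1
      rw [mul_one, vc_one hC] at h2
      rw [if_neg (by rw [hs]; exact hne.symm), if_pos hs, hs, h2, hc]
      rw [MonoidHom.inv_apply, Units.val_inv_eq_inv_val, h]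
      have h3 := sq_of_neg_one α
      have h4 : α (-1) ≠ 0 := by intro h; rw [h] at h3; norm_num at h3
      have h5 : (α (-1))⁻¹ = α (-1) := by
        field_simp; linear_combination -h3
      rw [h5]
      ring
  · have h1 : (c : SL2 F) ≠ 1 := fun h => hs (by rw [h]; exact isScal_one)
    have h2 : (c : SL2 F) ≠ -1 := fun h => hs (by rw [h]; exact isScal_neg_one)
    rw [if_neg h1, if_neg h2, vc_tor hC α θ c hs, MonoidHom.inv_apply]
    ring

open Classical in
theorem inner_hom {A : Type*} [Group A] [Fintype A] (θ θ' : A →* ℂˣ) :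
    classInner (fun a => ((θ a : ℂˣ) : ℂ)) (fun a => ((θ' a : ℂˣ) : ℂ)) = if θ = θ' then 1 else 0 := by
  split_ifs with h
  · rw [h]; exact inner_irr_self (isIrrCharacter_of_hom θ')
  · exact inner_irr_ne (isIrrCharacter_of_hom θ) (isIrrCharacter_of_hom θ') (fun e => h (coe_hom_injective e))

open Classical in
/-- the norm of the virtual cuspidal character -/
theorem norm_vc (hC : Tor C) (α : MulChar F ℂ) (θ : C →* ℂˣ) (h : ((θ ⟨-1, hC.neg_one_mem⟩ : ℂˣ) : ℂ) = α (-1)) :
    classInner (vc C α θ) (vc C α θ) = 1 + if θ⁻¹ = θ then 1 else 0 := by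
  have : Fintype C := Fintype.ofFinite _
  rw [(bLike_vc hC α θ h).inner hC θ, vc_res hC α θ h, H18.CharOrtho.inner_sub_left, H18.CharOrtho.inner_sub_left,
    inner_R hC, inner_hom, inner_hom, if_pos rfl, h, mul_conj_of_sq (sq_of_neg_one α), map_one, Units.val_one, map_one]
  ring

theorem isIrr_vc (hC : Tor C) (α : MulChar F ℂ) (θ : C →* ℂˣ) (h : ((θ ⟨-1, hC.neg_one_mem⟩ : ℂˣ) : ℂ) = α (-1))
    (hθ : θ⁻¹ ≠ θ) : IsIrrCharacter (SL2 F) (vc C α θ) := by
  classical
  apply isIrr_of_gen_norm_one (isGen_vc α θ)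
  · rw [norm_vc hC α θ h, if_neg hθ, add_zero]
  · rw [vc_one hC]
    have hq := Fintype.one_lt_card (α := F)
    simp
    exact hq

end H43.SLCusp
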