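import Cfsg.Agent.Lib.H43.GLIrr
import Cfsg.Agent.Lib.H43.SL2Conj
import Cfsg.Agent.Lib.H31.Clifford
import Cfsg.Agent.Lib.H31.CentralSec

/-!
Irreducible characters of `SL₂` over a finite field, by restriction from `GL₂`: common part.
-/
set_option autoImplicit false

namespace H43.SLIrr

open Matrix H43.GL2Basic H43.GL2Card H43.Lines H43.IndTrans H43.Principal H43.GLIrr H43.SL2Conj Cfsg
open H18.CharBasic H18.CharOrtho H18.CharInd H18.CharQuot
open scoped ComplexConjugate

variable {F : Type*} [Field F]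

local notation "G2" => GL (Fin 2)
local notation "SL2" => Matrix.SpecialLinearGroup (Fin 2)

/-- `SL₂` as a normal subgroup of `GL₂` -/
abbrev H (F : Type*) [Field F] : Subgroup (G2 F) := (GeneralLinearGroup.det (n := Fin 2) (R := F)).ker

theorem mem_H (g : G2 F) : g ∈ H F ↔ (g : Matrix (Fin 2) (Fin 2) F).det = 1 := by
  rw [MonoidHom.mem_ker]
  constructor
  · intro h
    have := congrArg Units.val h
    simpa using this
  · intro h
    ext
    simpa using h

/-- the isomorphism `SL₂ ≃ H` -/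
noncomputable def eH : SL2 F ≃* H F where
  toFun g := ⟨Matrix.SpecialLinearGroup.toGL g, (mem_H _).2 g.det_coe⟩
  invFun h := ⟨((h : G2 F) : Matrix (Fin 2) (Fin 2) F), (mem_H _).1 h.2⟩
  left_inv _ := rfl
  right_inv _ := Subtype.ext (Units.ext rfl)
  map_mul' a b := Subtype.ext (map_mul _ a b)

theorem eH_coe (g : SL2 F) : ((eH g : H F) : G2 F) = Matrix.SpecialLinearGroup.toGL g := rfl

/-- restriction of functions to `SL₂` -/
def res (χ : G2 F → ℂ) : SL2 F → ℂ := fun g => χ (Matrix.SpecialLinearGroup.toGL g)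

theorem res_one (χ : G2 F → ℂ) : res χ 1 = χ 1 := by
  unfold res
  rw [map_one]

theorem isCharacter_res {χ : G2 F → ℂ} (h : IsCharacter (G2 F) χ) : IsCharacter (SL2 F) (res χ) :=
  isCharacter_comp Matrix.SpecialLinearGroup.toGL h

/-- conjugation of `SL₂` by elements of `GL₂` -/
noncomputable def cjg (x : G2 F) (g : SL2 F) : SL2 F :=
  eH.symm ⟨x * eH g * x⁻¹, (inferInstance : (H F).Normal).conj_mem _ (eH g).2 x⟩

theorem toGL_cjg (x : G2 F) (g : SL2 F) :
    Matrix.SpecialLinearGroup.toGL (cjg x g) = x * Matrix.SpecialLinearGroup.toGL g * x⁻¹ := by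
  rw [← eH_coe, cjg, MulEquiv.apply_symm_apply]
  rfl

theorem trace_cjg (x : G2 F) (g : SL2 F) :
    ((cjg x g : SL2 F) : Matrix (Fin 2) (Fin 2) F).trace = (g : Matrix (Fin 2) (Fin 2) F).trace := by
  have h := gl_trace_eq_of_conj (isConj_iff.2 ⟨x, (toGL_cjg x g).symm⟩)
  exact h.symm

theorem isScal_cjg (x : G2 F) (g : SL2 F) :
    IsScal ((cjg x g : SL2 F) : Matrix (Fin 2) (Fin 2) F) ↔ IsScal (g : Matrix (Fin 2) (Fin 2) F) := by
  have h := gl_isScal_iff_of_conj (isConj_iff.2 ⟨x, (toGL_cjg x g).symm⟩)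
  exact h.symm

section Fin
variable [Fintype F] [Fintype (G2 F)] [Fintype (SL2 F)]

omit [Fintype F] [Fintype (G2 F)] in
theorem inner_res [Fintype (H F)] (χ : G2 F → ℂ) (θ : SL2 F → ℂ) :
    classInner (fun h : H F => χ h) (fun h => θ (eH.symm h)) = classInner (res χ) θ := by
  rw [← classInner_mulEquiv (eH (F := F))]
  rfl

/-- over every irreducible character of `SL₂` there is one of `GL₂` -/
theorem exists_over_SL {θ : SL2 F → ℂ} (h : IsIrrCharacter (SL2 F) θ) :
    ∃ χ : G2 F → ℂ, IsIrrCharacter (G2 F) χ ∧ classInner (res χ) θ ≠ 0 := by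
  classical
  have : Fintype (H F) := Fintype.ofFinite _
  have h1 : IsIrrCharacter (H F) (fun h => θ (eH.symm h)) := (isIrrCharacter_mulEquiv eH.symm).1 h
  obtain ⟨χ, hχ, hne⟩ := exists_over (H F) h1
  exact ⟨χ, hχ, by rwa [inner_res] at hne⟩

/-- Clifford: constituents of the restriction of an irreducible character of `GL₂` are conjugate -/
theorem clifford {χ : G2 F → ℂ} (hχ : IsIrrCharacter (G2 F) χ) {θ φ : SL2 F → ℂ}
    (hθ : IsIrrCharacter (SL2 F) θ) (hφ : IsIrrCharacter (SL2 F) φ)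
    (h1 : classInner (res χ) θ ≠ 0) (h2 : classInner (res χ) φ ≠ 0) :
    ∃ x : G2 F, ∀ g : SL2 F, φ g = θ (cjg x g) := by
  classical
  have : Fintype (H F) := Fintype.ofFinite _
  have hθ' : IsIrrCharacter (H F) (fun h => θ (eH.symm h)) := (isIrrCharacter_mulEquiv eH.symm).1 hθ
  have hφ' : IsIrrCharacter (H F) (fun h => φ (eH.symm h)) := (isIrrCharacter_mulEquiv eH.symm).1 hφ
  rw [← inner_res] at h1 h2
  obtain ⟨x, hx⟩ := H31.Clifford.constituents_conj (H F) hχ hθ' hφ' h1 h2
  refine ⟨x, fun g => ?_⟩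
  have := congrFun hx (eH g)
  simp only [MulEquiv.symm_apply_apply] at this
  exact this

/-- a character of norm 2 is the sum of two distinct irreducible characters -/
theorem norm_two {G : Type*} [Group G] [Fintype G] {f : G → ℂ} (hf : IsCharacter G f)
    (h2 : classInner f f = 2) : ∃ θ φ : G → ℂ, IsIrrCharacter G θ ∧ IsIrrCharacter G φ ∧ θ ≠ φ ∧ f = θ + φ := by
  have hf0 : f ≠ 0 := by
    rintro rfl
    have : classInner (0 : G → ℂ) 0 = 0 := by simp [classInner]
    rw [this] at h2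
    norm_num at h2
  obtain ⟨θ, hθ, hne⟩ := exists_constituent hf hf0
  have hd := isCharacter_sub_constituent hf hθ hne
  obtain ⟨k, hk⟩ := inner_char_natCast hf (isCharacter_of_isIrr hθ)
  have hk' : classInner θ f = k := by rw [classInner_comm (isCharacter_of_isIrr hθ) hf, hk]
  have hnorm : classInner (f - θ) (f - θ) = 3 - 2 * k := by
    rw [H18.CharOrtho.inner_sub_left, H18.CharOrtho.inner_sub_right, H18.CharOrtho.inner_sub_right, h2, hk, hk',
      inner_irr_self hθ]
    ring
  have hpos := H18.CharOrtho.inner_self_re_nonneg (f - θ)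
  rw [hnorm] at hpos
  have hk0 : k ≠ 0 := by
    rintro rfl
    exact hne (by simpa using hk)
  have hk1 : k = 1 := by
    have h3 : (0 : ℝ) ≤ 3 - 2 * k := by
      simpa using hpos
    have h4 : (2 * k : ℝ) ≤ 3 := by linarith
    have h5 : 2 * k ≤ 3 := by exact_mod_cast h4
    omega
  have hirr : IsIrrCharacter G (f - θ) := isIrr_of_norm_one hd (by rw [hnorm, hk1]; norm_num)
  refine ⟨θ, f - θ, hθ, hirr, ?_, by simp⟩
  intro heq
  have h6 : classInner (f - θ) θ = 1 := by rw [← heq]; exact inner_irr_self hθ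
  rw [H18.CharOrtho.inner_sub_left, hk, inner_irr_self hθ, hk1] at h6
  norm_num at h6

/-- The norm of the restriction to `SL₂` counts the twists fixing `χ`. -/
theorem norm_res (χ : G2 F → ℂ) [Fintype (MulChar F ℂ)] :
    classInner (res χ) (res χ) = ∑ α : MulChar F ℂ, classInner χ (fun g => dl α g * χ g) := by
  classical
  have horth0 : ∀ a : Fˣ, ∑ α : MulChar F ℂ, conj (α (a : F)) = if a = 1 then ((Fintype.card F : ℂ) - 1) else 0 := by
    intro a
    have hc : ∀ α : MulChar F ℂ, conj (α (a : F)) = α⁻¹ (a : F) := fun α => conj_mulChar α _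
    simp only [hc]
    split_ifs with ha
    · subst ha
      have h1 := card_mulChar (F := F)
      rw [Nat.card_eq_fintype_card] at h1
      simp only [Units.val_one, map_one, Finset.sum_const, Finset.card_univ, h1, nsmul_eq_mul, mul_one]
      rw [Nat.cast_sub Fintype.card_pos]
      simp
    · have ha' : (a : F) ≠ 1 := fun h => ha (Units.ext h)
      obtain ⟨β, hβ⟩ := MulChar.exists_apply_ne_one_of_hasEnoughRootsOfUnity F ℂ ha'
      have h5 : β (a : F) * ∑ α : MulChar F ℂ, α⁻¹ (a : F) = ∑ α : MulChar F ℂ, α⁻¹ (a : F) := by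
        rw [Finset.mul_sum]
        refine Fintype.sum_equiv (Equiv.mulRight β⁻¹) _ _ (fun α => ?_)
        rw [Equiv.coe_mulRight, mul_inv, inv_inv, MulChar.mul_apply, mul_comm]
      have h6 : (β (a : F) - 1) * ∑ α : MulChar F ℂ, α⁻¹ (a : F) = 0 := by
        rw [sub_mul, h5, one_mul, sub_self]
      exact (mul_eq_zero.1 h6).resolve_left (sub_ne_zero.2 hβ)
  have hdet : ∀ g : G2 F, ∑ α : MulChar F ℂ, conj (dl α g) =
      if g ∈ H F then ((Fintype.card F : ℂ) - 1) else 0 := by
    intro g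
    have h1 := horth0 (GeneralLinearGroup.det g)
    have h2 : ((GeneralLinearGroup.det g : Fˣ) : F) = (g : Matrix (Fin 2) (Fin 2) F).det := rfl
    rw [h2] at h1
    have h3 : g ∈ H F ↔ GeneralLinearGroup.det g = 1 := MonoidHom.mem_ker
    simp only [h3]
    exact h1
  unfold classInner
  rw [← Finset.mul_sum, Finset.sum_comm]
  have h1 : ∀ g : G2 F, ∑ α : MulChar F ℂ, χ g * conj (dl α g * χ g) =
      if g ∈ H F then ((Fintype.card F : ℂ) - 1) * (χ g * conj (χ g)) else 0 := by
    intro g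
    have h2 : ∑ α : MulChar F ℂ, χ g * conj (dl α g * χ g) = (∑ α : MulChar F ℂ, conj (dl α g)) * (χ g * conj (χ g)) := by
      rw [Finset.sum_mul]
      refine Finset.sum_congr rfl (fun α _ => ?_)
      rw [map_mul]; ring
    rw [h2, hdet]
    split_ifs <;> ring
  simp only [h1]
  rw [← Finset.sum_filter, ← Finset.mul_sum]
  have h3 : ∑ g ∈ Finset.univ.filter (fun g : G2 F => g ∈ H F), χ g * conj (χ g) =
      ∑ g : SL2 F, res χ g * conj (res χ g) := by
    symm
    refine Finset.sum_bij (fun g _ => Matrix.SpecialLinearGroup.toGL g) ?_ ?_ ?_ ?_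
    · intro g _
      simp only [Finset.mem_filter, Finset.mem_univ, true_and]
      exact (eH g).2
    · intro a _ b _ hab
      exact Matrix.SpecialLinearGroup.toGL_injective hab
    · intro b hb
      simp only [Finset.mem_filter, Finset.mem_univ, true_and] at hb
      exact ⟨eH.symm ⟨b, hb⟩, Finset.mem_univ _, by rw [← eH_coe, MulEquiv.apply_symm_apply]⟩
    · intro g _
      rfl
  rw [h3]
  have h4 := card_GL' (F := F)
  have hq1 : (Fintype.card F : ℂ) - 1 ≠ 0 := by
    rw [sub_ne_zero]; exact_mod_cast (Fintype.one_lt_card (α := F)).ne'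
  have h5 : (Nat.card (G2 F) : ℂ) = ((Fintype.card F : ℂ) - 1) * Nat.card (SL2 F) := by
    rw [h4]; push_cast [Nat.cast_sub (Fintype.one_lt_card (α := F)).le]; ring
  have h6 : (Nat.card (SL2 F) : ℂ) ≠ 0 := by exact_mod_cast Nat.card_pos.ne'
  rw [h5]
  field_simp

/-- central elements act by scalars -/
theorem exists_omega {G : Type*} [Group G] {χ : G → ℂ} (hχ : IsIrrCharacter G χ) (z : G) (hz : ∀ g, z * g = g * z) :
    ∃ w : ℂ, ∀ g, χ (z * g) = w * χ g := by
  obtain ⟨n, ρ, hρ, rfl⟩ := hχ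
  obtain ⟨w, hw⟩ := H31.CentralSec.schur_scalar ρ hρ (ρ z) (fun g => by
    rw [← Module.End.mul_eq_comp, ← Module.End.mul_eq_comp, ← map_mul, ← map_mul, hz g])
  refine ⟨w, fun g => ?_⟩
  unfold Representation.character
  rw [map_mul, hw, smul_mul_assoc, map_smul, smul_eq_mul]
  rfl

theorem centralCharNe {G : Type*} [Group G] [Finite G] {χ : G → ℂ} (hχ : IsIrrCharacter G χ) (z : G)
    (hz : ∀ g, z * g = g * z) : χ z ≠ 0 := by
  intro h0
  have h := H31.CentralSec.norm_eq_of_central hχ z (fun c => by rw [hz c]; simp)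
  rw [h0, norm_zero] at h
  obtain ⟨n, hn, hn1⟩ := exists_degree_pos hχ
  rw [hn1, Complex.natCast_re] at h
  have h2 : n = 0 := by exact_mod_cast h.symm
  omega

omit [Fintype (SL2 F)] in
/-- twists fixing a cuspidal irreducible character have order at most 2 -/
theorem sq_eq_one_of_twist (c : CuspIrr F) (α : MulChar F ℂ)
    (h : (fun g => dl α g * (c.1 : G2 F → ℂ) g) = c.1) : α ^ 2 = 1 := by
  apply MulChar.ext
  intro a
  have hc := H18.CharBasic.isCharacter_of_isIrr c.1.2
  -- evaluate at z * u 1, z scalar a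
  let z : G2 F := GeneralLinearGroup.mkOfDetNeZero !![(a : F), 0; 0, (a : F)] (by rw [det_fin_two]; simp)
  have hz : (z : Matrix (Fin 2) (Fin 2) F) = !![(a : F), 0; 0, (a : F)] := rfl
  have hzc : ∀ g : G2 F, z * g = g * z := by
    intro g
    ext i j
    rw [Units.val_mul, Units.val_mul, hz]
    fin_cases i <;> fin_cases j <;> simp [Matrix.mul_apply, Fin.sum_univ_two] <;> ring
  -- central character: χ(z u) ≠ 0
  have hne : (c.1 : G2 F → ℂ) (z * u 1) ≠ 0 := by
    intro h0
    -- all z * u x, x ≠ 0 are conjugate to z * u 1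
    have hcf := H18.CharBasic.isClassFunction_of_isIrr c.1.2
    have hconj : ∀ x : F, x ≠ 0 → (c.1 : G2 F → ℂ) (z * u x) = 0 := by
      intro x hx
      rw [← h0]
      apply classFunction_isConj hcf
      apply gl_conj_of_trace_det
      · rw [Units.val_mul, hz, u_coe]; simp [IsScal, hx]
      · rw [Units.val_mul, hz, u_coe]; simp [IsScal]
      · rw [Units.val_mul, Units.val_mul, hz, u_coe, u_coe]; simp [trace_fin_two]
      · rw [Units.val_mul, Units.val_mul, hz, u_coe, u_coe]; simp [det_fin_two]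
    have hsum := sum_coset_of_orth hcf (orth_of_notMem c.2) a a
    have hBE : ∀ x : F, ((BEquiv F ((a, a), x) : upperTriangularGL 2 F) : G2 F) = z * u (x / a) := by
      intro x
      ext i j
      rw [Units.val_mul, hz, u_coe]
      fin_cases i <;> fin_cases j <;> simp [BEquiv, GeneralLinearGroup.mkOfDetNeZero] <;> field_simp
    simp only [hBE] at hsum
    have hs2 : ∑ x : F, (c.1 : G2 F → ℂ) (z * u (x / a)) = (c.1 : G2 F → ℂ) z := by
      rw [Fintype.sum_eq_single 0]
      · rw [zero_div, u_zero, mul_one]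
      · intro x hx
        exact hconj _ (div_ne_zero hx a.ne_zero)
    rw [hs2] at hsum
    -- but |χ z| = χ 1 since z is central
    have hcen := centralCharNe c.1.2 z hzc
    exact hcen hsum
  have h1 := congrFun h (z * u 1)
  have h2 : dl α (z * u 1) = 1 := by
    have : (dl α (z * u 1) - 1) * (c.1 : G2 F → ℂ) (z * u 1) = 0 := by rw [sub_mul, h1, one_mul, sub_self]
    rcases mul_eq_zero.1 this with h3 | h3
    · linear_combination h3
    · exact absurd h3 hne
  have h3 : (z * u 1 : G2 F).val.det = (a : F) ^ 2 := by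
    rw [Units.val_mul, hz, u_coe]; simp [det_fin_two]; ring
  simp only [dl] at h2
  rw [h3, map_pow] at h2
  rw [MulChar.pow_apply_coe, h2, MulChar.one_apply_coe]

omit [Fintype (SL2 F)] in
omit [Fintype (G2 F)] in
theorem card_sq_one_le : Nat.card {α : MulChar F ℂ // α ^ 2 = 1} ≤ 2 := by
  classical
  have : Fintype (MulChar F ℂ) := Fintype.ofFinite _
  obtain ⟨e⟩ := MulChar.mulEquiv_units F ℂ
  have : IsCyclic (MulChar F ℂ) := isCyclic_of_injective e.toMonoidHom e.injective
  have h := IsCyclic.card_pow_eq_one_le (α := MulChar F ℂ) (n := 2) (by norm_num)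
  rw [Nat.card_eq_fintype_card, Fintype.card_subtype]
  exact h

/-- the restriction of a cuspidal irreducible character has norm 1 or 2 -/
theorem norm_res_cusp (c : CuspIrr F) :
    classInner (res (c.1 : G2 F → ℂ)) (res (c.1 : G2 F → ℂ)) = 1 ∨
    classInner (res (c.1 : G2 F → ℂ)) (res (c.1 : G2 F → ℂ)) = 2 := by
  classical
  have : Fintype (MulChar F ℂ) := Fintype.ofFinite _
  rw [norm_res]
  have h1 : ∀ α : MulChar F ℂ, classInner (c.1 : G2 F → ℂ) (fun g => dl α g * (c.1 : G2 F → ℂ) g) =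
      if (fun g => dl α g * (c.1 : G2 F → ℂ) g) = c.1 then 1 else 0 := by
    intro α
    have hirr : IsIrrCharacter (G2 F) (fun g => dl α g * (c.1 : G2 F → ℂ) g) := by
      have := isIrrCharacter_hom_mul (dlHom α) c.1.2
      have h2 : (fun g => dl α g * (c.1 : G2 F → ℂ) g) = fun g => ((dlHom α g : ℂˣ) : ℂ) * (c.1 : G2 F → ℂ) g := by
        funext g
        simp only [← dlHom_coe]
      rw [h2]
      exact this
    split_ifs with h
    · rw [h]; exact inner_irr_self c.1.2
    · exact inner_irr_ne c.1.2 hirr (fun h' => h h'.symm)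
  simp only [h1]
  rw [Finset.sum_boole]
  have h2 : (Finset.univ.filter (fun α : MulChar F ℂ => (fun g => dl α g * (c.1 : G2 F → ℂ) g) = c.1)).card ≤ 2 := by
    refine le_trans ?_ (card_sq_one_le (F := F))
    rw [Nat.card_eq_fintype_card, Fintype.card_subtype]
    apply Finset.card_le_card
    intro α hα
    simp only [Finset.mem_filter, Finset.mem_univ, true_and] at hα ⊢
    exact sq_eq_one_of_twist c α hα
  have h3 : 0 < (Finset.univ.filter (fun α : MulChar F ℂ => (fun g => dl α g * (c.1 : G2 F → ℂ) g) = c.1)).card := by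
    apply Finset.card_pos.2
    refine ⟨1, ?_⟩
    simp only [Finset.mem_filter, Finset.mem_univ, true_and]
    funext g
    have hd : dl (1 : MulChar F ℂ) g = 1 := by
      simp only [dl]
      apply MulChar.one_apply
      rw [← Matrix.isUnit_iff_isUnit_det]
      exact g.isUnit
    rw [hd, one_mul]
  have h4 : (Finset.univ.filter (fun α : MulChar F ℂ => (fun g => dl α g * (c.1 : G2 F → ℂ) g) = c.1)).card = 1 ∨
      (Finset.univ.filter (fun α : MulChar F ℂ => (fun g => dl α g * (c.1 : G2 F → ℂ) g) = c.1)).card = 2 := by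
    omega
  rcases h4 with h4 | h4
  · left; rw [h4]; norm_num
  · right; rw [h4]; norm_num

/-- the Steinberg character of `SL₂` -/
noncomputable def StS (F : Type*) [Field F] [Fintype (SL2 F)] : SL2 F → ℂ :=
  indFun (BSL F) (thS 1) - fun _ => 1

omit [Fintype F] [Fintype (G2 F)] [Fintype (SL2 F)] in
theorem thS_one : (thS (1 : MulChar F ℂ)) = fun _ => 1 := by
  funext b
  simp only [thS]
  exact MulChar.one_apply (isUnit_iff_ne_zero.2 (BSL_ne_zero b))

omit [Fintype (G2 F)] in
theorem indS_one (γ : MulChar F ℂ) : indFun (BSL F) (thS γ) 1 = (Fintype.card F : ℂ) + 1 := by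
  rw [indS_apply_B _ _ (by simp)]
  simp [N_self_zero]
  ring

omit [Fintype (G2 F)] in
theorem isIrr_StS : IsIrrCharacter (SL2 F) (StS F) := by
  classical
  have : Fintype (BSL F) := Fintype.ofFinite _
  have h1 : IsIrrCharacter (SL2 F) (fun _ => 1 : SL2 F → ℂ) := isIrrCharacter_one
  have hI := isCharacter_indS (1 : MulChar F ℂ)
  have h2 : classInner (indFun (BSL F) (thS 1)) (fun _ => 1 : SL2 F → ℂ) = 1 := by
    rw [H18.CharInd.frobenius _ _ (isClassFunction_const 1), thS_one]
    exact inner_irr_self isIrrCharacter_one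
  have hn := inner_indS (1 : MulChar F ℂ) 1
  have hone := indS_one (1 : MulChar F ℂ)
  unfold StS
  generalize indFun (BSL F) (thS (1 : MulChar F ℂ)) = I at hI h2 hn hone ⊢
  have h3 : classInner (fun _ => 1 : SL2 F → ℂ) I = 1 := by
    rw [← H18.CharOrtho.inner_conj_symm, h2]; simp
  apply isIrr_of_gen_norm_one
  · exact isGen_sub (isGen_of_isCharacter hI) (isGen_of_isIrr h1)
  · rw [H18.CharOrtho.inner_sub_left, H18.CharOrtho.inner_sub_right, H18.CharOrtho.inner_sub_right, h2, h3, hn,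
      inner_irr_self h1]
    simp
  · rw [Pi.sub_apply, hone]
    simp
    exact Fintype.card_pos

omit [Fintype (G2 F)] in
theorem StS_one : StS F 1 = Fintype.card F := by
  unfold StS
  rw [Pi.sub_apply, indS_one]; ring

omit [Fintype (G2 F)] in
theorem StS_apply_B (g : SL2 F) (hg : (g : Matrix (Fin 2) (Fin 2) F) 1 0 = 0) :
    StS F g = N ((g : Matrix (Fin 2) (Fin 2) F) 0 0) ((g : Matrix (Fin 2) (Fin 2) F) 1 1)
      ((g : Matrix (Fin 2) (Fin 2) F) 0 1) := by
  unfold StS
  rw [Pi.sub_apply, indS_apply_B _ _ hg]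
  have h1 := BSL_ne_zero ⟨g, (mem_BSL g).2 hg⟩
  have h3 := BSL_diag ⟨g, (mem_BSL g).2 hg⟩
  have h2 := right_ne_zero_of_mul_eq_one h3
  simp only at h1 h2
  rw [MulChar.one_apply (isUnit_iff_ne_zero.2 h1), MulChar.one_apply (isUnit_iff_ne_zero.2 h2)]
  ring

omit [Fintype (G2 F)] in
theorem StS_apply_not (g : SL2 F) (hg : ¬ HasEig (g : Matrix (Fin 2) (Fin 2) F)) : StS F g = -1 := by
  unfold StS
  rw [Pi.sub_apply, indS_apply_not _ _ hg]
  ring

omit [Fintype F] [Fintype (G2 F)] [Fintype (SL2 F)] in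
theorem res_dl (α : MulChar F ℂ) : res (dl α) = fun _ => 1 := by
  funext g
  simp only [res, dl]
  have : ((Matrix.SpecialLinearGroup.toGL g : G2 F) : Matrix (Fin 2) (Fin 2) F).det = 1 := g.det_coe
  rw [this, map_one]

theorem res_ind (α β : MulChar F ℂ) :
    res (indFun (upperTriangularGL 2 F) (th α β)) = indFun (BSL F) (thS (α * β⁻¹)) := by
  funext g
  exact ind_restrict α β g

theorem res_StT (α : MulChar F ℂ) : res (StT α) = StS F := by
  funext g
  have h1 : res (St F) g = StS F g := by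
    have h2 := congrFun (res_ind (1 : MulChar F ℂ) 1) g
    rw [mul_inv_cancel] at h2
    simp only [res] at h2
    simp only [res, St, StS, Pi.sub_apply, h2]
  have h3 := congrFun (res_dl α) g
  simp only [res] at h1 h3
  simp only [res, StT, h1, h3, one_mul]

/-- trichotomy for irreducible characters of `SL₂` -/
theorem cases {θ : SL2 F → ℂ} (hθ : IsIrrCharacter (SL2 F) θ) :
    (θ = fun _ => 1) ∨ θ = StS F ∨ (∃ γ : MulChar F ℂ, γ ^ 2 ≠ 1 ∧ θ = indFun (BSL F) (thS γ)) ∨
    (∃ γ : MulChar F ℂ, γ ^ 2 = 1 ∧ γ ≠ 1 ∧ classInner (indFun (BSL F) (thS γ)) θ ≠ 0) ∨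
    (∃ c : CuspIrr F, classInner (res (c.1 : G2 F → ℂ)) θ ≠ 0) := by
  obtain ⟨χ, hχ, hne⟩ := exists_over_SL hθ
  have key : ∀ f : SL2 F → ℂ, IsIrrCharacter (SL2 F) f → classInner f θ ≠ 0 → θ = f := by
    intro f hf h
    by_contra hcon
    exact h (inner_irr_ne hf hθ (fun h' => hcon h'.symm))
  rcases GLIrr.cases hχ with ⟨α, rfl⟩ | ⟨α, rfl⟩ | ⟨α, β, hab, rfl⟩ | ⟨c, rfl⟩
  · rw [res_dl] at hne
    exact Or.inl (key _ isIrrCharacter_one hne)
  · rw [res_StT] at hne
    exact Or.inr (Or.inl (key _ isIrr_StS hne))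
  · rw [res_ind] at hne
    by_cases h2 : (α * β⁻¹) ^ 2 = 1
    · refine Or.inr (Or.inr (Or.inr (Or.inl ⟨α * β⁻¹, h2, ?_, hne⟩)))
      intro h3
      exact hab (mul_inv_eq_one.1 h3)
    · exact Or.inr (Or.inr (Or.inl ⟨α * β⁻¹, h2, key _ ((isIrr_indS_iff _).2 h2) hne⟩))
  · exact Or.inr (Or.inr (Or.inr (Or.inr ⟨c, hne⟩)))

/-- the structure of a splitting restriction -/
theorem split_structure {χ : G2 F → ℂ} (hχ : IsIrrCharacter (G2 F) χ) (h2 : classInner (res χ) (res χ) = 2)
    {θ : SL2 F → ℂ} (hθ : IsIrrCharacter (SL2 F) θ) (hne : classInner (res χ) θ ≠ 0) :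
    ∃ φ : SL2 F → ℂ, IsIrrCharacter (SL2 F) φ ∧ θ ≠ φ ∧ res χ = θ + φ ∧
      ∃ x : G2 F, ∀ g : SL2 F, φ g = θ (cjg x g) := by
  obtain ⟨a, b, ha, hb, hab, hs⟩ := norm_two (isCharacter_res (isCharacter_of_isIrr hχ)) h2
  have key : ∀ a b : SL2 F → ℂ, IsIrrCharacter (SL2 F) a → IsIrrCharacter (SL2 F) b → a ≠ b → res χ = a + b →
      classInner (res χ) b ≠ 0 := by
    intro a b ha hb hab hs
    rw [hs, H18.CharOrtho.inner_add_left, inner_irr_ne ha hb hab, inner_irr_self hb]
    simp
  have hor : θ = a ∨ θ = b := by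
    by_contra hcon
    push Not at hcon
    apply hne
    rw [hs, H18.CharOrtho.inner_add_left, inner_irr_ne ha hθ (Ne.symm hcon.1), inner_irr_ne hb hθ (Ne.symm hcon.2),
      add_zero]
  rcases hor with rfl | rfl
  · exact ⟨b, hb, hab, hs, clifford hχ hθ hb hne (key _ _ ha hb hab hs)⟩
  · have hs' : res χ = θ + a := by rw [hs, add_comm]
    exact ⟨a, ha, hab.symm, hs', clifford hχ hθ ha hne (key _ _ hb ha hab.symm hs')⟩

end Fin

end H43.SLIrr
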