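import Cfsg.Agent.Lib.H43.SLStruct
import Cfsg.Agent.S2325

/-!
Irreducible characters of `SL₂` over a finite field of odd order: counting by degree.
-/
set_option autoImplicit false

namespace H43.SLOdd

open Matrix H43.GL2Basic H43.GL2Card H43.Lines H43.IndTrans H43.Principal H43.GLIrr H43.SL2Conj H43.SLIrr H43.SLCount
open H43.SLStruct Cfsg
open H18.CharBasic H18.CharOrtho H18.CharInd H18.CharQuot
open scoped ComplexConjugate

variable {F : Type*} [Field F]

local notation "G2" => GL (Fin 2)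
local notation "SL2" => Matrix.SpecialLinearGroup (Fin 2)

section Fin
variable [Fintype F]

theorem ringChar_ne (hodd : Odd (Fintype.card F)) : ringChar F ≠ 2 := by
  intro h
  have := FiniteField.even_card_of_char_two h
  rw [Nat.odd_iff] at hodd
  omega

theorem two_ne_zero' (hodd : Odd (Fintype.card F)) : (2 : F) ≠ 0 := by
  intro h
  exact ringChar_ne hodd (ringChar_eq_two h)

/-- the multiplicative character of order two -/
theorem exists_gamma (hodd : Odd (Fintype.card F)) : ∃ γ : MulChar F ℂ, γ ^ 2 = 1 ∧ γ ≠ 1 ∧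
    (∀ a : F, a ≠ 0 → IsSquare a → γ a = 1) ∧ ∀ a : F, ¬ IsSquare a → γ a = -1 := by
  classical
  have hF := ringChar_ne hodd
  have e1 : ∀ a : F, a ≠ 0 → IsSquare a → ((quadraticChar F).ringHomComp (Int.castRingHom ℂ)) a = 1 := by
    intro a ha hs
    rw [MulChar.ringHomComp_apply, (quadraticChar_one_iff_isSquare ha).2 hs]
    simp
  have e2 : ∀ a : F, ¬ IsSquare a → ((quadraticChar F).ringHomComp (Int.castRingHom ℂ)) a = -1 := by
    intro a hs
    rw [MulChar.ringHomComp_apply, quadraticChar_neg_one_iff_not_isSquare.2 hs]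
    simp
  refine ⟨(quadraticChar F).ringHomComp (Int.castRingHom ℂ), ?_, ?_, e1, e2⟩
  · apply MulChar.ext
    intro a
    rw [MulChar.pow_apply_coe, MulChar.one_apply_coe]
    by_cases hs : IsSquare (a : F)
    · rw [e1 _ a.ne_zero hs, one_pow]
    · rw [e2 _ hs]; norm_num
  · intro h
    obtain ⟨a, ha⟩ := quadraticChar_exists_neg_one hF
    have h1 := e2 a (quadraticChar_neg_one_iff_not_isSquare.1 ha)
    have ha0 : a ≠ 0 := by rintro rfl; simp at ha
    rw [h, MulChar.one_apply (isUnit_iff_ne_zero.2 ha0)] at h1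
    norm_num at h1

theorem gamma_unique {γ γ' : MulChar F ℂ} (h : γ ^ 2 = 1) (h1 : γ ≠ 1) (h' : γ' ^ 2 = 1) (h1' : γ' ≠ 1) : γ = γ' := by
  classical
  by_contra hne
  have hle := card_sq_one_le (F := F)
  have : Fintype {α : MulChar F ℂ // α ^ 2 = 1} := Fintype.ofFinite _
  rw [Nat.card_eq_fintype_card, ← Finset.card_univ] at hle
  have h3 : ({⟨1, one_pow 2⟩, ⟨γ, h⟩, ⟨γ', h'⟩} : Finset {α : MulChar F ℂ // α ^ 2 = 1}).card = 3 := by
    rw [Finset.card_eq_three]
    exact ⟨_, _, _, fun e => h1 (congrArg Subtype.val e).symm, fun e => h1' (congrArg Subtype.val e).symm,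
      fun e => hne (congrArg Subtype.val e), rfl⟩
  have h4 := Finset.card_le_univ ({⟨1, one_pow 2⟩, ⟨γ, h⟩, ⟨γ', h'⟩} : Finset {α : MulChar F ℂ // α ^ 2 = 1})
  rw [Finset.card_univ] at hle
  omega

theorem card_sq_one (hodd : Odd (Fintype.card F)) : Nat.card {α : MulChar F ℂ // α ^ 2 = 1} = 2 := by
  classical
  obtain ⟨γ, h, h1, -⟩ := exists_gamma hodd
  have hle := card_sq_one_le (F := F)
  have : Fintype {α : MulChar F ℂ // α ^ 2 = 1} := Fintype.ofFinite _
  rw [Nat.card_eq_fintype_card] at hle ⊢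
  have h3 : ({⟨1, one_pow 2⟩, ⟨γ, h⟩} : Finset {α : MulChar F ℂ // α ^ 2 = 1}).card = 2 := by
    rw [Finset.card_pair]
    exact fun e => h1 (congrArg Subtype.val e).symm
  have h4 := Finset.card_le_univ ({⟨1, one_pow 2⟩, ⟨γ, h⟩} : Finset {α : MulChar F ℂ // α ^ 2 = 1})
  omega

theorem card_PS (hodd : Odd (Fintype.card F)) [Fintype (SL2 F)] : 2 * Nat.card (PS F) + 3 = Fintype.card F := by
  have h3 := card_psS (F := F)
  have h4 := card_sq_ne_one (F := F)
  have h5 := card_sq_one hodd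
  have hq := Fintype.one_lt_card (α := F)
  rw [show Nat.card (Set.range (psS (F := F))) = Nat.card (PS F) from rfl] at h3
  omega

variable [Fintype (SL2 F)]

/-- a pair of halves of the reducible principal series character -/
structure IsHalves (γ : MulChar F ℂ) (R : Bool → IrrCharacter (SL2 F)) : Prop where
  sq : γ ^ 2 = 1
  ne_one : γ ≠ 1
  ne : R false ≠ R true
  sum : indFun (BSL F) (thS γ) = (R false : SL2 F → ℂ) + R true
  cj : ∃ x : G2 F, ∀ g : SL2 F, (R true : SL2 F → ℂ) g = (R false : SL2 F → ℂ) (cjg x g)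

theorem exists_halves (hodd : Odd (Fintype.card F)) : ∃ (γ : MulChar F ℂ) (R : Bool → IrrCharacter (SL2 F)),
    IsHalves γ R := by
  classical
  have : Fintype (G2 F) := Fintype.ofFinite _
  obtain ⟨γ, h, h1, -⟩ := exists_gamma hodd
  have hirr : IsIrrCharacter (G2 F) (indFun (upperTriangularGL 2 F) (th γ 1)) := isIrr_ind h1
  have hres : res (indFun (upperTriangularGL 2 F) (th γ 1)) = indFun (BSL F) (thS γ) := by
    rw [res_ind, inv_one, mul_one]
  have hn : classInner (indFun (BSL F) (thS γ)) (indFun (BSL F) (thS γ)) = 2 := by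
    rw [inner_indS, if_pos rfl, if_pos ((eq_inv_iff γ).2 h)]
    norm_num
  have hf0 : indFun (BSL F) (thS γ) ≠ 0 := by
    intro h0
    rw [h0] at hn
    have : classInner (0 : SL2 F → ℂ) 0 = 0 := by simp [classInner]
    rw [this] at hn
    norm_num at hn
  obtain ⟨θ, hθ, hne⟩ := exists_constituent (isCharacter_indS γ) hf0
  obtain ⟨φ, hφ, hne2, hs, x, hx⟩ := split_structure hirr (by rw [hres]; exact hn) hθ (by rw [hres]; exact hne)
  rw [hres] at hs
  exact ⟨γ, fun b => cond b ⟨φ, hφ⟩ ⟨θ, hθ⟩, h, h1, fun e => hne2 (congrArg Subtype.val e), hs, x, hx⟩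

theorem IsHalves.degree {γ : MulChar F ℂ} {R : Bool → IrrCharacter (SL2 F)} (h : IsHalves γ R) (b : Bool) :
    2 * (R b : SL2 F → ℂ) 1 = (Fintype.card F : ℂ) + 1 := by
  obtain ⟨x, hx⟩ := h.cj
  have h1 := half_degree h.sum hx
  rw [indS_one] at h1
  cases b
  · exact h1
  · rw [hx, cjg_one]; exact h1

/-- index type of the basic irreducible characters, odd case -/
abbrev BO (F : Type*) [Field F] [Fintype F] [Fintype (SL2 F)] := BI F ⊕ Bool

/-- basic irreducible characters, odd case -/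
noncomputable def basO (R : Bool → IrrCharacter (SL2 F)) : BO F → IrrCharacter (SL2 F) := Sum.elim bas R

theorem basO_inl (R : Bool → IrrCharacter (SL2 F)) (a : BI F) : basO R (Sum.inl a) = bas a := rfl
theorem basO_inr (R : Bool → IrrCharacter (SL2 F)) (b : Bool) : basO R (Sum.inr b) = R b := rfl

theorem basO_injective {γ : MulChar F ℂ} {R : Bool → IrrCharacter (SL2 F)} (h : IsHalves γ R) :
    Function.Injective (basO R) := by
  have hq : 1 < Fintype.card F := Fintype.one_lt_card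
  have key : ∀ (a : BI F) (b : Bool), bas a ≠ R b := by
    intro a b e
    have h1 := h.degree b
    rw [← e, bas_degree] at h1
    match a with
    | Sum.inl _ =>
      simp only at h1
      have h2 : (Fintype.card F : ℂ) = 1 := by linear_combination -h1
      have h3 : Fintype.card F = 1 := by exact_mod_cast h2
      omega
    | Sum.inr (Sum.inl _) =>
      simp only at h1
      have h2 : 2 * Fintype.card F = Fintype.card F + 1 := by exact_mod_cast h1
      omega
    | Sum.inr (Sum.inr s) =>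
      simp only at h1
      have h2 : 2 * (Fintype.card F + 1) = Fintype.card F + 1 := by exact_mod_cast h1
      omega
  refine Function.Injective.sumElim bas_injective ?_ key
  intro a b e
  cases a <;> cases b
  · rfl
  · exact absurd e h.ne
  · exact absurd e.symm h.ne
  · rfl

variable {γ : MulChar F ℂ} {R : Bool → IrrCharacter (SL2 F)}

omit [Fintype F] in
theorem IsHalves.mem_of_inner (h : IsHalves γ R) {θ φ : SL2 F → ℂ} (hθ : IsIrrCharacter (SL2 F) θ)
    (hφ : IsIrrCharacter (SL2 F) φ) (hne : θ ≠ φ)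
    (hs : indFun (BSL F) (thS γ) = θ + φ) : (⟨θ, hθ⟩ : IrrCharacter (SL2 F)) ∈ Set.range R := by
  have h1 : classInner (θ + φ) θ ≠ 0 := by
    rw [H18.CharOrtho.inner_add_left, inner_irr_self hθ, inner_irr_ne hφ hθ hne.symm]
    simp
  rw [← hs, h.sum, H18.CharOrtho.inner_add_left] at h1
  by_contra hcon
  apply h1
  have h2 : (R false : SL2 F → ℂ) ≠ θ := fun e => hcon ⟨false, Subtype.ext e⟩
  have h3 : (R true : SL2 F → ℂ) ≠ θ := fun e => hcon ⟨true, Subtype.ext e⟩
  rw [inner_irr_ne (R false).2 hθ h2, inner_irr_ne (R true).2 hθ h3, add_zero]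

variable [Fintype (G2 F)]

theorem rest_cases (h : IsHalves γ R) (r : Rest (basO R)) :
    (∃ c : CuspIrr F, (r.1 : SL2 F → ℂ) = res (c.1 : G2 F → ℂ)) ∨
    (∃ (c : CuspIrr F) (φ : SL2 F → ℂ), IsIrrCharacter (SL2 F) φ ∧ (r.1 : SL2 F → ℂ) ≠ φ ∧
      res (c.1 : G2 F → ℂ) = r.1 + φ ∧ ∃ x : G2 F, ∀ g : SL2 F, φ g = (r.1 : SL2 F → ℂ) (cjg x g)) := by
  rcases cases' r.1.2 with h1 | h1 | ⟨γ', hγ, h1⟩ | h1 | ⟨γ', φ, h1, h2, h3, h4, h5, h6⟩ | h1
  · exact absurd ⟨Sum.inl (Sum.inl ()), Subtype.ext h1.symm⟩ r.2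
  · exact absurd ⟨Sum.inl (Sum.inr (Sum.inl ())), Subtype.ext h1.symm⟩ r.2
  · exact absurd ⟨Sum.inl (Sum.inr (Sum.inr ⟨psS ⟨γ', hγ⟩, ⟨γ', hγ⟩, rfl⟩)), Subtype.ext h1.symm⟩ r.2
  · exact Or.inl h1
  · exfalso
    obtain rfl := gamma_unique h1 h2 h.sq h.ne_one
    obtain ⟨b, hb⟩ := h.mem_of_inner r.1.2 h3 h4 h5
    exact r.2 ⟨Sum.inr b, hb⟩
  · exact Or.inr h1

theorem rest_degree (h : IsHalves γ R) (r : Rest (basO R)) :
    (r.1 : SL2 F → ℂ) 1 = (Fintype.card F : ℂ) - 1 ∨ 2 * (r.1 : SL2 F → ℂ) 1 = (Fintype.card F : ℂ) - 1 := by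
  rcases rest_cases h r with ⟨c, hc⟩ | ⟨c, φ, -, -, hc, x, hx⟩
  · left; rw [hc, cusp_one]
  · right; rw [half_degree hc hx, cusp_one]

/-- rest characters of degree `q - 1` -/
abbrev RA (R : Bool → IrrCharacter (SL2 F)) := {r : Rest (basO R) // (r.1 : SL2 F → ℂ) 1 = (Fintype.card F : ℂ) - 1}
/-- rest characters of degree `(q - 1)/2` -/
abbrev RB (R : Bool → IrrCharacter (SL2 F)) := {r : Rest (basO R) // 2 * (r.1 : SL2 F → ℂ) 1 = (Fintype.card F : ℂ) - 1}

theorem card_RA_RB (hodd : Odd (Fintype.card F)) (h : IsHalves γ R) :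
    2 * Nat.card (RA R) + 1 = Fintype.card F ∧ Nat.card (RB R) = 2 := by
  classical
  have hq : 1 < Fintype.card F := Fintype.one_lt_card
  have hexcl : ∀ r : Rest (basO R), 2 * (r.1 : SL2 F → ℂ) 1 = (Fintype.card F : ℂ) - 1 ↔
      ¬ ((r.1 : SL2 F → ℂ) 1 = (Fintype.card F : ℂ) - 1) := by
    intro r
    constructor
    · intro h1 h2
      rw [h2] at h1
      have h3 : (Fintype.card F : ℂ) = 1 := by linear_combination h1
      have h4 : Fintype.card F = 1 := by exact_mod_cast h3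
      omega
    · intro h1
      exact (rest_degree h r).resolve_left h1
  obtain ⟨e, he1, he2⟩ : ∃ e : RA R ⊕ RB R ≃ Rest (basO R), (∀ r, e (Sum.inl r) = r.1) ∧ ∀ r, e (Sum.inr r) = r.1 :=
    ⟨(Equiv.sumCongr (Equiv.refl _) (Equiv.subtypeEquivRight hexcl)).trans (Equiv.sumCompl _),
      fun _ => rfl, fun _ => rfl⟩
  have h1 := Nat.card_congr (split (basO R) (basO_injective h))
  rw [card_irr_eq_card_conjClasses, Cfsg.Agent.S2325.result hodd, Nat.card_sum, Nat.card_sum, Nat.card_sum,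
    Nat.card_sum, ← Nat.card_congr e, Nat.card_sum] at h1
  simp only [Nat.card_unique] at h1
  have hb : Nat.card Bool = 2 := by simp
  rw [hb] at h1
  have h2 := card_PS hodd
  -- sum of squares
  have : Fintype (IrrCharacter (SL2 F)) := Fintype.ofFinite _
  have : Fintype (PS F) := Fintype.ofFinite _
  have : Fintype (Rest (basO R)) := Fintype.ofFinite _
  have hsum := sum_degree_sq (G := SL2 F)
  rw [← (split (basO R) (basO_injective h)).sum_comp, Fintype.sum_sum_type, Fintype.sum_sum_type,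
    Fintype.sum_sum_type, Fintype.sum_sum_type] at hsum
  simp only [split_inl, split_inr, basO_inl, basO_inr, bas_degree] at hsum
  have e1 : ∑ b : Bool, (R b : SL2 F → ℂ) 1 ^ 2 = ((Fintype.card F : ℂ) + 1) ^ 2 / 2 := by
    rw [Fintype.sum_bool]
    have a1 := h.degree true
    have a2 := h.degree false
    have b1 : (R true : SL2 F → ℂ) 1 = ((Fintype.card F : ℂ) + 1) / 2 := by linear_combination a1 / 2
    have b2 : (R false : SL2 F → ℂ) 1 = ((Fintype.card F : ℂ) + 1) / 2 := by linear_combination a2 / 2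
    rw [b1, b2]; ring
  have e2 : ∑ r : Rest (basO R), (r.1 : SL2 F → ℂ) 1 ^ 2 =
      Nat.card (RA R) * ((Fintype.card F : ℂ) - 1) ^ 2 + Nat.card (RB R) * (((Fintype.card F : ℂ) - 1) ^ 2 / 4) := by
    rw [← e.sum_comp, Fintype.sum_sum_type]
    congr 1
    · rw [Finset.sum_congr rfl (g := fun _ => ((Fintype.card F : ℂ) - 1) ^ 2), Finset.sum_const, Finset.card_univ,
        nsmul_eq_mul, ← Nat.card_eq_fintype_card]
      intro r _
      rw [he1, r.2]
    · rw [Finset.sum_congr rfl (g := fun _ => ((Fintype.card F : ℂ) - 1) ^ 2 / 4), Finset.sum_const, Finset.card_univ,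
        nsmul_eq_mul, ← Nat.card_eq_fintype_card]
      intro r _
      rw [he2]
      have : (r.1.1 : SL2 F → ℂ) 1 = ((Fintype.card F : ℂ) - 1) / 2 := by linear_combination r.2 / 2
      rw [this]; ring
  rw [e1, e2, card_SL] at hsum
  simp only [Finset.sum_const, Finset.card_univ, nsmul_eq_mul] at hsum
  rw [← Nat.card_eq_fintype_card (α := PS F)] at hsum
  simp only [Fintype.card_unique, Nat.cast_one, one_pow, one_mul] at hsum
  obtain ⟨m, hm⟩ := hodd
  have hq2 : 1 ≤ Fintype.card F ^ 2 := Nat.one_le_pow _ _ (by omega)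
  push_cast [Nat.cast_sub hq2] at hsum
  generalize Nat.card (RA R) = a at *
  generalize Nat.card (RB R) = b at *
  generalize Nat.card (PS F) = p at *
  have hp : (p : ℂ) = m - 1 := by
    have : 2 * p + 3 = 2 * m + 1 := by omega
    have h3 : (2 : ℂ) * p + 3 = 2 * m + 1 := by exact_mod_cast this
    linear_combination h3 / 2
  have hab : a + b = m + 2 := by omega
  have habC : (a : ℂ) + b = m + 2 := by exact_mod_cast hab
  have hqC : (Fintype.card F : ℂ) = 2 * m + 1 := by exact_mod_cast hm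
  rw [hp, hqC] at hsum
  have hm0 : (m : ℂ) ≠ 0 := by
    have : m ≠ 0 := by omega
    exact_mod_cast this
  have hkey : (m : ℂ) ^ 2 * (4 * a + b) = (m : ℂ) ^ 2 * (4 * m + 2) := by
    linear_combination hsum
  have hkey2 := mul_left_cancel₀ (pow_ne_zero 2 hm0) hkey
  have hkey3 : 4 * a + b = 4 * m + 2 := by exact_mod_cast hkey2
  constructor <;> omega

theorem card_subtype_sum {A B : Type*} [Finite A] [Finite B] (p : A ⊕ B → Prop) :
    Nat.card {y : A ⊕ B // p y} = Nat.card {a : A // p (Sum.inl a)} + Nat.card {b : B // p (Sum.inr b)} := by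
  rw [Nat.card_congr (Equiv.subtypeSum (p := p)), Nat.card_sum]

omit [Fintype (G2 F)] in
theorem nat_degree_A (r : RA R) : (r.1.1 : SL2 F → ℂ) 1 = ((Fintype.card F - 1 : ℕ) : ℂ) := by
  rw [r.2, Nat.cast_sub Fintype.card_pos]; simp

omit [Fintype (G2 F)] in
theorem nat_degree_B (hodd : Odd (Fintype.card F)) (r : RB R) :
    (r.1.1 : SL2 F → ℂ) 1 = (((Fintype.card F - 1) / 2 : ℕ) : ℂ) := by
  have h := r.2
  obtain ⟨m, hm⟩ := hodd
  have : (Fintype.card F - 1) / 2 = m := by omega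
  rw [this]
  have hm' : (Fintype.card F : ℂ) = 2 * m + 1 := by exact_mod_cast hm
  linear_combination h / 2 + hm' / 2

omit [Fintype (G2 F)] in
theorem nat_degree_R (hodd : Odd (Fintype.card F)) (h : IsHalves γ R) (b : Bool) :
    (R b : SL2 F → ℂ) 1 = (((Fintype.card F + 1) / 2 : ℕ) : ℂ) := by
  have h := h.degree b
  obtain ⟨m, hm⟩ := hodd
  have : (Fintype.card F + 1) / 2 = m + 1 := by omega
  rw [this]
  rw [hm] at h
  push_cast at h ⊢
  linear_combination h / 2

theorem card_deg_odd (hodd : Odd (Fintype.card F)) (d : ℕ) :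
    Nat.card {χ : IrrCharacter (SL2 F) // (χ : SL2 F → ℂ) 1 = (d : ℂ)} =
    (if 1 = d then 1 else 0) + ((if Fintype.card F = d then 1 else 0) +
      (if Fintype.card F + 1 = d then (Fintype.card F - 3) / 2 else 0)) +
    (if (Fintype.card F + 1) / 2 = d then 2 else 0) +
    ((if Fintype.card F - 1 = d then (Fintype.card F - 1) / 2 else 0) +
    (if (Fintype.card F - 1) / 2 = d then 2 else 0)) := by
  classical
  obtain ⟨γ, R, h⟩ := exists_halves hodd
  have hq : 1 < Fintype.card F := Fintype.one_lt_card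
  have hexcl : ∀ r : Rest (basO R), 2 * (r.1 : SL2 F → ℂ) 1 = (Fintype.card F : ℂ) - 1 ↔
      ¬ ((r.1 : SL2 F → ℂ) 1 = (Fintype.card F : ℂ) - 1) := by
    intro r
    constructor
    · intro h1 h2
      rw [h2] at h1
      have h3 : (Fintype.card F : ℂ) = 1 := by linear_combination h1
      have h4 : Fintype.card F = 1 := by exact_mod_cast h3
      omega
    · intro h1
      exact (rest_degree h r).resolve_left h1
  obtain ⟨e, he1, he2⟩ : ∃ e : RA R ⊕ RB R ≃ Rest (basO R), (∀ r, e (Sum.inl r) = r.1) ∧ ∀ r, e (Sum.inr r) = r.1 :=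
    ⟨(Equiv.sumCongr (Equiv.refl _) (Equiv.subtypeEquivRight hexcl)).trans (Equiv.sumCompl _),
      fun _ => rfl, fun _ => rfl⟩
  let E : BO F ⊕ (RA R ⊕ RB R) ≃ IrrCharacter (SL2 F) :=
    (Equiv.sumCongr (Equiv.refl _) e).trans (split (basO R) (basO_injective h))
  have E1 : ∀ a, E (Sum.inl a) = basO R a := fun _ => rfl
  have E2 : ∀ a, E (Sum.inr (Sum.inl a)) = a.1.1 := fun a => congrArg Subtype.val (he1 a)
  have E3 : ∀ a, E (Sum.inr (Sum.inr a)) = a.1.1 := fun a => congrArg Subtype.val (he2 a)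
  have hS : Nat.card {χ : IrrCharacter (SL2 F) // (χ : SL2 F → ℂ) 1 = (d : ℂ)} =
      Nat.card {y : BO F ⊕ (RA R ⊕ RB R) // (E y : SL2 F → ℂ) 1 = (d : ℂ)} :=
    Nat.card_congr (Equiv.subtypeEquiv E (fun y => Iff.rfl)).symm
  have : Finite (Rest (basO R)) := Subtype.finite
  have : Finite (RA R) := Subtype.finite
  have : Finite (RB R) := Subtype.finite
  rw [hS, card_subtype_sum, card_subtype_sum, card_subtype_sum, card_subtype_sum, card_subtype_sum]
  simp only [E1, E2, E3, basO_inl, basO_inr, bas_degree, nat_degree_A, nat_degree_B hodd, nat_degree_R hodd h]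
  obtain ⟨hA, hB⟩ := card_RA_RB hodd h
  have hP := card_PS hodd
  have e1 : ((1 : ℂ) = (d : ℂ)) ↔ 1 = d := by norm_cast
  have e2 : ((Fintype.card F : ℂ) = (d : ℂ)) ↔ Fintype.card F = d := by norm_cast
  have e3 : ((Fintype.card F : ℂ) + 1 = (d : ℂ)) ↔ Fintype.card F + 1 = d := by norm_cast
  have e4 : (((Fintype.card F - 1 : ℕ) : ℂ) = (d : ℂ)) ↔ Fintype.card F - 1 = d := by norm_cast
  have e5 : ((((Fintype.card F - 1) / 2 : ℕ) : ℂ) = (d : ℂ)) ↔ (Fintype.card F - 1) / 2 = d := by norm_cast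
  have e6 : ((((Fintype.card F + 1) / 2 : ℕ) : ℂ) = (d : ℂ)) ↔ (Fintype.card F + 1) / 2 = d := by norm_cast
  simp only [card_const]
  rw [hB]
  have hA' : Nat.card (RA R) = (Fintype.card F - 1) / 2 := by omega
  have hP' : Nat.card (PS F) = (Fintype.card F - 3) / 2 := by omega
  rw [hA', hP']
  simp only [e1, e2, e3, e4, e5, e6, Nat.card_unique, Nat.card_eq_fintype_card, Fintype.card_bool]

end Fin

end H43.SLOdd
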