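import Cfsg.Agent.Lib.H43.SLCount

/-!
Irreducible characters of `SL₂` over a finite field: the six types, for all `q`.
-/
set_option autoImplicit false

namespace H43.SLStruct

open Matrix H43.GL2Basic H43.GL2Card H43.Lines H43.IndTrans H43.Principal H43.GLIrr H43.SL2Conj H43.SLIrr H43.SLCount Cfsg
open H18.CharBasic H18.CharOrtho H18.CharInd H18.CharQuot
open scoped ComplexConjugate

variable {F : Type*} [Field F]

local notation "G2" => GL (Fin 2)
local notation "SL2" => Matrix.SpecialLinearGroup (Fin 2)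

theorem cjg_one (x : G2 F) : cjg x 1 = 1 := by
  apply Matrix.SpecialLinearGroup.toGL_injective
  rw [toGL_cjg, map_one]
  group

theorem cjg_cjg (x y : G2 F) (g : SL2 F) : cjg x (cjg y g) = cjg (x * y) g := by
  apply Matrix.SpecialLinearGroup.toGL_injective
  rw [toGL_cjg, toGL_cjg, toGL_cjg]
  group

theorem cjg_mul (x : G2 F) (g h : SL2 F) : cjg x (g * h) = cjg x g * cjg x h := by
  apply Matrix.SpecialLinearGroup.toGL_injective
  rw [toGL_cjg, map_mul, map_mul, toGL_cjg, toGL_cjg]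
  group

theorem cjg_inv_cjg (x : G2 F) (g : SL2 F) : cjg x⁻¹ (cjg x g) = g := by
  apply Matrix.SpecialLinearGroup.toGL_injective
  rw [toGL_cjg, toGL_cjg]
  group

theorem cjg_toGL (x g : SL2 F) : cjg (Matrix.SpecialLinearGroup.toGL x) g = x * g * x⁻¹ := by
  apply Matrix.SpecialLinearGroup.toGL_injective
  rw [toGL_cjg, map_mul, map_mul, map_inv]

section Fin
variable [Fintype F] [Fintype (G2 F)] [Fintype (SL2 F)]

/-- the six types of irreducible characters of `SL₂` -/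
theorem cases' {θ : SL2 F → ℂ} (hθ : IsIrrCharacter (SL2 F) θ) :
    (θ = fun _ => 1) ∨ θ = StS F ∨ (∃ γ : MulChar F ℂ, γ ^ 2 ≠ 1 ∧ θ = indFun (BSL F) (thS γ)) ∨
    (∃ c : CuspIrr F, θ = res (c.1 : G2 F → ℂ)) ∨
    (∃ (γ : MulChar F ℂ) (φ : SL2 F → ℂ), γ ^ 2 = 1 ∧ γ ≠ 1 ∧ IsIrrCharacter (SL2 F) φ ∧ θ ≠ φ ∧
      indFun (BSL F) (thS γ) = θ + φ ∧ ∃ x : G2 F, ∀ g : SL2 F, φ g = θ (cjg x g)) ∨
    (∃ (c : CuspIrr F) (φ : SL2 F → ℂ), IsIrrCharacter (SL2 F) φ ∧ θ ≠ φ ∧
      res (c.1 : G2 F → ℂ) = θ + φ ∧ ∃ x : G2 F, ∀ g : SL2 F, φ g = θ (cjg x g)) := by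
  rcases cases hθ with h | h | h | ⟨γ, h1, h3, hne⟩ | ⟨c, hne⟩
  · exact Or.inl h
  · exact Or.inr (Or.inl h)
  · exact Or.inr (Or.inr (Or.inl h))
  · refine Or.inr (Or.inr (Or.inr (Or.inr (Or.inl ?_))))
    have hirr : IsIrrCharacter (G2 F) (indFun (upperTriangularGL 2 F) (th γ 1)) := isIrr_ind h3
    have hres : res (indFun (upperTriangularGL 2 F) (th γ 1)) = indFun (BSL F) (thS γ) := by
      rw [res_ind, inv_one, mul_one]
    have hn : classInner (indFun (BSL F) (thS γ)) (indFun (BSL F) (thS γ)) = 2 := by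
      rw [inner_indS, if_pos rfl, if_pos ((eq_inv_iff γ).2 h1)]
      norm_num
    obtain ⟨φ, hφ, hne2, hs, x, hx⟩ := split_structure hirr (by rw [hres]; exact hn) hθ (by rw [hres]; exact hne)
    rw [hres] at hs
    exact ⟨γ, φ, h1, h3, hφ, hne2, hs, x, hx⟩
  · rcases norm_res_cusp c with h | h
    · refine Or.inr (Or.inr (Or.inr (Or.inl ⟨c, ?_⟩)))
      by_contra hcon
      exact hne (inner_irr_ne (isIrr_of_norm_one (isCharacter_res (isCharacter_of_isIrr c.1.2)) h) hθ
        (fun h' => hcon h'.symm))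
    · refine Or.inr (Or.inr (Or.inr (Or.inr (Or.inr ?_))))
      obtain ⟨φ, hφ, hne2, hs, x, hx⟩ := split_structure c.1.2 h hθ hne
      exact ⟨c, φ, hφ, hne2, hs, x, hx⟩

omit [Fintype F] [Fintype (G2 F)] [Fintype (SL2 F)] in
theorem half_degree {f θ φ : SL2 F → ℂ} (h : f = θ + φ) {x : G2 F} (hx : ∀ g : SL2 F, φ g = θ (cjg x g)) :
    2 * θ 1 = f 1 := by
  rw [h, Pi.add_apply, hx, cjg_one]; ring

omit [Fintype (G2 F)] in
theorem indS_one' (γ : MulChar F ℂ) : indFun (BSL F) (thS γ) 1 = (Fintype.card F : ℂ) + 1 := indS_one γ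

omit [Fintype (SL2 F)] in
theorem cusp_one (c : CuspIrr F) : res (c.1 : G2 F → ℂ) 1 = (Fintype.card F : ℂ) - 1 := by
  rw [res_one, (cusp_degree c).1]

/-- degree `q`: Steinberg -/
theorem eq_StS {θ : SL2 F → ℂ} (hθ : IsIrrCharacter (SL2 F) θ) (hd : θ 1 = (Fintype.card F : ℂ)) : θ = StS F := by
  have hq : 1 < Fintype.card F := Fintype.one_lt_card
  rcases cases' hθ with h | h | ⟨γ, hγ, h⟩ | ⟨c, h⟩ | ⟨γ, φ, -, -, -, -, h, x, hx⟩ | ⟨c, φ, -, -, h, x, hx⟩
  · rw [h] at hd
    simp only at hd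
    have : (1 : ℕ) = Fintype.card F := by exact_mod_cast hd
    omega
  · exact h
  · rw [h, indS_one] at hd
    have : Fintype.card F + 1 = Fintype.card F := by exact_mod_cast hd
    omega
  · rw [h, cusp_one] at hd
    have h2 : (1 : ℂ) = 0 := by linear_combination (-1 : ℂ) * hd
    norm_num at h2
  · have h2 := half_degree h hx
    rw [indS_one, hd] at h2
    have : 2 * Fintype.card F = Fintype.card F + 1 := by exact_mod_cast h2
    omega
  · have h2 := half_degree h hx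
    rw [cusp_one, hd] at h2
    have h3 : (2 : ℂ) * Fintype.card F + 1 = Fintype.card F := by linear_combination h2
    have : 2 * Fintype.card F + 1 = Fintype.card F := by exact_mod_cast h3
    omega

/-- degree `q + 1` -/
theorem eq_ps {θ : SL2 F → ℂ} (hθ : IsIrrCharacter (SL2 F) θ) (hd : θ 1 = (Fintype.card F : ℂ) + 1) :
    ∃ γ : MulChar F ℂ, γ ^ 2 ≠ 1 ∧ θ = indFun (BSL F) (thS γ) := by
  have hq : 1 < Fintype.card F := Fintype.one_lt_card
  rcases cases' hθ with h | h | ⟨γ, hγ, h⟩ | ⟨c, h⟩ | ⟨γ, φ, -, -, -, -, h, x, hx⟩ | ⟨c, φ, -, -, h, x, hx⟩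
  · rw [h] at hd
    simp only at hd
    have : (1 : ℕ) = Fintype.card F + 1 := by exact_mod_cast hd
    omega
  · rw [h, StS_one] at hd
    have : Fintype.card F = Fintype.card F + 1 := by exact_mod_cast hd
    omega
  · exact ⟨γ, hγ, h⟩
  · rw [h, cusp_one] at hd
    have h2 : (2 : ℂ) = 0 := by linear_combination (-1 : ℂ) * hd
    norm_num at h2
  · have h2 := half_degree h hx
    rw [indS_one, hd] at h2
    have : 2 * (Fintype.card F + 1) = Fintype.card F + 1 := by exact_mod_cast h2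
    omega
  · have h2 := half_degree h hx
    rw [cusp_one, hd] at h2
    have h3 : (2 : ℂ) * (Fintype.card F + 1) + 1 = Fintype.card F := by linear_combination h2
    have : 2 * (Fintype.card F + 1) + 1 = Fintype.card F := by exact_mod_cast h3
    omega

/-- degree `q - 1`, `q ≥ 4` -/
theorem eq_cusp (hq : 4 ≤ Fintype.card F) {θ : SL2 F → ℂ} (hθ : IsIrrCharacter (SL2 F) θ)
    (hd : θ 1 = (Fintype.card F : ℂ) - 1) : ∃ c : CuspIrr F, θ = res (c.1 : G2 F → ℂ) := by
  rcases cases' hθ with h | h | ⟨γ, hγ, h⟩ | ⟨c, h⟩ | ⟨γ, φ, -, -, -, -, h, x, hx⟩ | ⟨c, φ, -, -, h, x, hx⟩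
  · rw [h] at hd
    simp only at hd
    have h2 : ((1 : ℂ) + 1) = Fintype.card F := by linear_combination hd
    have : (1 : ℕ) + 1 = Fintype.card F := by exact_mod_cast h2
    omega
  · rw [h, StS_one] at hd
    have h2 : (1 : ℂ) = 0 := by linear_combination hd
    norm_num at h2
  · rw [h, indS_one] at hd
    have h2 : (2 : ℂ) = 0 := by linear_combination hd
    norm_num at h2
  · exact ⟨c, h⟩
  · have h2 := half_degree h hx
    rw [indS_one, hd] at h2
    have h3 : (Fintype.card F : ℂ) = 3 := by linear_combination h2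
    have : Fintype.card F = 3 := by exact_mod_cast h3
    omega
  · have h2 := half_degree h hx
    rw [cusp_one, hd] at h2
    have h3 : (Fintype.card F : ℂ) = 1 := by linear_combination h2
    have : Fintype.card F = 1 := by exact_mod_cast h3
    omega

end Fin

end H43.SLStruct
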