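import Cfsg.Agent.Lib.H43.SLOdd

/-!
Values of the two halves of a splitting restriction from `GL₂` to `SL₂`.
-/
set_option autoImplicit false
set_option linter.unusedSectionVars false

namespace H43.SLVals

open Matrix H43.GL2Basic H43.GL2Card H43.GL2Count H43.Lines H43.IndTrans H43.Principal H43.GLIrr H43.SL2Conj H43.SLIrr H43.SLCount
open H43.SLStruct H43.SLOdd Cfsg
open H18.CharBasic H18.CharOrtho H18.CharInd H18.CharQuot
open scoped ComplexConjugate

variable {F : Type*} [Field F]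

local notation "G2" => GL (Fin 2)
local notation "SL2" => Matrix.SpecialLinearGroup (Fin 2)

theorem toGL_surj (y : G2 F) (h : (y : Matrix (Fin 2) (Fin 2) F).det = 1) :
    ∃ g : SL2 F, Matrix.SpecialLinearGroup.toGL g = y :=
  ⟨⟨y, h⟩, Units.ext rfl⟩

/-- conjugation by an element of square determinant is inner -/
theorem cjg_conj_of_sq {x : G2 F} (h : IsSquare (x : Matrix (Fin 2) (Fin 2) F).det) (g : SL2 F) :
    IsConj g (cjg x g) := by
  obtain ⟨s, hs⟩ := h
  have hx0 : (x : Matrix (Fin 2) (Fin 2) F).det ≠ 0 := by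
    have := x.isUnit
    rw [Matrix.isUnit_iff_isUnit_det] at this
    exact this.ne_zero
  have hs0 : s ≠ 0 := by
    rintro rfl
    rw [hs] at hx0
    simp at hx0
  let z : G2 F := GeneralLinearGroup.mkOfDetNeZero !![s, 0; 0, s] (by rw [det_fin_two]; simp [hs0])
  have hz : (z : Matrix (Fin 2) (Fin 2) F) = !![s, 0; 0, s] := rfl
  have hzc : ∀ g : G2 F, z * g = g * z := by
    intro g
    ext i j
    rw [Units.val_mul, Units.val_mul, hz]
    fin_cases i <;> fin_cases j <;> simp [Matrix.mul_apply, Fin.sum_univ_two] <;> ring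
  obtain ⟨y, hy⟩ := toGL_surj (x * z⁻¹) (by
    have h1 : ((x * z⁻¹ : G2 F) : Matrix (Fin 2) (Fin 2) F).det * (z : Matrix (Fin 2) (Fin 2) F).det =
        (x : Matrix (Fin 2) (Fin 2) F).det := by
      rw [← det_mul, ← Units.val_mul, inv_mul_cancel_right]
    have h2 : (z : Matrix (Fin 2) (Fin 2) F).det = s * s := by rw [hz]; simp [det_fin_two]
    rw [h2, hs] at h1
    have h3 : s * s ≠ 0 := mul_ne_zero hs0 hs0
    exact mul_right_cancel₀ h3 (h1.trans (one_mul _).symm))
  refine isConj_iff.2 ⟨y, ?_⟩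
  apply Matrix.SpecialLinearGroup.toGL_injective
  rw [toGL_cjg, map_mul, map_mul, map_inv, hy]
  have h5 : z⁻¹ * Matrix.SpecialLinearGroup.toGL g * z = Matrix.SpecialLinearGroup.toGL g := by
    rw [mul_assoc, ← hzc]; group
  calc x * z⁻¹ * Matrix.SpecialLinearGroup.toGL g * (x * z⁻¹)⁻¹
      = x * (z⁻¹ * Matrix.SpecialLinearGroup.toGL g * z) * x⁻¹ := by group
    _ = _ := by rw [h5]

theorem cjg_scal (x : G2 F) {g : SL2 F} (hg : IsScal (g : Matrix (Fin 2) (Fin 2) F)) : cjg x g = g := by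
  have h1 : IsConj (Matrix.SpecialLinearGroup.toGL g) (Matrix.SpecialLinearGroup.toGL (cjg x g)) :=
    isConj_iff.2 ⟨x, (toGL_cjg x g).symm⟩
  exact (Matrix.SpecialLinearGroup.toGL_injective (gl_eq_of_conj_scal h1 hg)).symm

section Fin
variable [Fintype F]

theorem cjg_conj_of_disc (x : G2 F) (g : SL2 F) (hD : (g : Matrix (Fin 2) (Fin 2) F).trace ^ 2 - 4 ≠ 0) :
    IsConj g (cjg x g) := by
  have h1 := conj_cSL_of_disc g hD
  have h2 := conj_cSL_of_disc (cjg x g) (by rw [trace_cjg]; exact hD)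
  rw [trace_cjg] at h2
  exact h1.trans h2.symm

theorem sq_mul_of_not {a b : F} (ha : ¬ IsSquare a) (hb : ¬ IsSquare b) : IsSquare (a * b) := by
  classical
  have ha0 : a ≠ 0 := by rintro rfl; exact ha IsSquare.zero
  have hb0 : b ≠ 0 := by rintro rfl; exact hb IsSquare.zero
  rw [← quadraticChar_one_iff_isSquare (mul_ne_zero ha0 hb0), map_mul,
    quadraticChar_neg_one_iff_not_isSquare.2 ha, quadraticChar_neg_one_iff_not_isSquare.2 hb]
  norm_num

/-- two irreducible characters of `SL₂` conjugate by `GL₂` -/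
structure Pair [Fintype (SL2 F)] (θ φ : SL2 F → ℂ) : Prop where
  h1 : IsIrrCharacter (SL2 F) θ
  h2 : IsIrrCharacter (SL2 F) φ
  ne : θ ≠ φ
  cj : ∃ x : G2 F, ∀ g : SL2 F, φ g = θ (cjg x g)

variable [Fintype (SL2 F)] {θ φ : SL2 F → ℂ}

theorem Pair.conj_eq (hp : Pair θ φ) {y : G2 F} (hy : ¬ IsSquare (y : Matrix (Fin 2) (Fin 2) F).det) (g : SL2 F) :
    θ (cjg y g) = φ g ∧ φ (cjg y g) = θ g := by
  obtain ⟨x, hx⟩ := hp.cj
  have hxn : ¬ IsSquare (x : Matrix (Fin 2) (Fin 2) F).det := by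
    intro h
    apply hp.ne
    funext g
    rw [hx g]
    exact classFunction_isConj (isClassFunction_of_isIrr hp.h1) (cjg_conj_of_sq h g)
  constructor
  · rw [hx g]
    -- y = w * x
    have h1 : cjg y g = cjg (y * x⁻¹) (cjg x g) := by rw [cjg_cjg, inv_mul_cancel_right]
    rw [h1]
    apply (classFunction_isConj (isClassFunction_of_isIrr hp.h1) (cjg_conj_of_sq _ _)).symm
    have hdx : (x : Matrix (Fin 2) (Fin 2) F).det ≠ 0 := by
      intro h0; rw [h0] at hxn; exact hxn IsSquare.zero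
    have hdy : ((y * x⁻¹ : G2 F) : Matrix (Fin 2) (Fin 2) F).det = (y : Matrix (Fin 2) (Fin 2) F).det *
        ((x : Matrix (Fin 2) (Fin 2) F).det)⁻¹ := by
      rw [eq_mul_inv_iff_mul_eq₀ hdx, ← det_mul, ← Units.val_mul, inv_mul_cancel_right]
    rw [hdy]
    apply sq_mul_of_not hy
    intro h
    apply hxn
    obtain ⟨s, hs⟩ := h
    exact ⟨s⁻¹, by rw [← mul_inv, ← hs, inv_inv]⟩
  · rw [hx, cjg_cjg]
    apply (classFunction_isConj (isClassFunction_of_isIrr hp.h1) (cjg_conj_of_sq _ _)).symm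
    rw [Units.val_mul, det_mul]
    exact sq_mul_of_not hxn hy

theorem Pair.eq_of_conj (hp : Pair θ φ) {g : SL2 F} (h : ∀ x : G2 F, IsConj g (cjg x g)) : θ g = φ g := by
  obtain ⟨x, hx⟩ := hp.cj
  rw [hx g]
  exact classFunction_isConj (isClassFunction_of_isIrr hp.h1) (h x)

theorem Pair.eq_of_disc (hp : Pair θ φ) {g : SL2 F} (hD : (g : Matrix (Fin 2) (Fin 2) F).trace ^ 2 - 4 ≠ 0) :
    θ g = φ g := hp.eq_of_conj (fun x => cjg_conj_of_disc x g hD)

theorem Pair.eq_of_scal (hp : Pair θ φ) {g : SL2 F} (h : IsScal (g : Matrix (Fin 2) (Fin 2) F)) :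
    θ g = φ g := hp.eq_of_conj (fun x => by rw [cjg_scal x h])

theorem neg_comm (g : SL2 F) : (-1 : SL2 F) * g = g * (-1) := by simp

/-- central character -/
theorem Pair.omega (hp : Pair θ φ) : ∃ w : ℂ, w ^ 2 = 1 ∧ (∀ g, θ (-1 * g) = w * θ g) ∧ ∀ g, φ (-1 * g) = w * φ g := by
  obtain ⟨w, hw⟩ := exists_omega hp.h1 (-1 : SL2 F) neg_comm
  refine ⟨w, ?_, hw, ?_⟩
  · have h1 : θ 1 = w ^ 2 * θ 1 := by
      have h2 := hw (-1)
      have h3 := hw 1
      rw [mul_one] at h3
      rw [h3] at h2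
      have h4 : (-1 : SL2 F) * -1 = 1 := by simp
      rw [h4] at h2
      linear_combination h2
    have h2 : θ 1 ≠ 0 := by
      obtain ⟨n, hn, hn1⟩ := exists_degree_pos hp.h1
      rw [hn1]
      exact_mod_cast hn.ne'
    exact (mul_right_cancel₀ h2 ((one_mul _).trans h1)).symm
  · intro g
    obtain ⟨x, hx⟩ := hp.cj
    rw [hx, hx, cjg_mul, ← hw]
    congr 2
    apply cjg_scal
    simp [IsScal]

/-- the set of non-scalar elements of trace 2 -/
abbrev V (F : Type*) [Field F] := {g : SL2 F // ¬ IsScal (g : Matrix (Fin 2) (Fin 2) F) ∧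
  (g : Matrix (Fin 2) (Fin 2) F).trace = 2}

omit [Fintype F] [Fintype (SL2 F)] in
theorem conj_of_V {g h : SL2 F} (hg : ¬ IsScal (g : Matrix (Fin 2) (Fin 2) F))
    (hh : ¬ IsScal (h : Matrix (Fin 2) (Fin 2) F))
    (ht : (g : Matrix (Fin 2) (Fin 2) F).trace = (h : Matrix (Fin 2) (Fin 2) F).trace) :
    ∃ y : G2 F, h = cjg y g := by
  have h1 := gl_conj_of_trace_det (Matrix.SpecialLinearGroup.toGL g) (Matrix.SpecialLinearGroup.toGL h) hg hh ht
    (g.det_coe.trans h.det_coe.symm)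
  obtain ⟨y, hy⟩ := isConj_iff.1 h1
  refine ⟨y, ?_⟩
  apply Matrix.SpecialLinearGroup.toGL_injective
  rw [toGL_cjg, hy]

theorem card_V : Nat.card (V F) = Fintype.card F ^ 2 - 1 := by
  classical
  have : Fintype (G2 F) := Fintype.ofFinite _
  have hq := Fintype.one_lt_card (α := F)
  have e : V F ≃ (ConjClasses.mk (u (1 : F))).carrier := by
    refine Equiv.ofBijective (fun g => ⟨Matrix.SpecialLinearGroup.toGL g.1, ?_⟩) ⟨?_, ?_⟩
    · rw [ConjClasses.mem_carrier_iff_mk_eq, ConjClasses.mk_eq_mk_iff_isConj]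
      apply gl_conj_of_trace_det
      · exact g.2.1
      · rw [u_coe]; simp [IsScal]
      · rw [u_coe]
        have := g.2.2
        simp only [trace_fin_two] at this ⊢
        simp
        rw [this]; norm_num
      · rw [u_coe]
        have := g.1.det_coe
        simp only [det_fin_two] at this ⊢
        simp
        exact this
    · intro g h hgh
      exact Subtype.ext (Matrix.SpecialLinearGroup.toGL_injective (congrArg Subtype.val hgh))
    · rintro ⟨h, hh⟩
      rw [ConjClasses.mem_carrier_iff_mk_eq, ConjClasses.mk_eq_mk_iff_isConj] at hh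
      obtain ⟨g, hg⟩ := toGL_surj h (by
        rw [gl_det_eq_of_conj hh, u_coe]; simp [det_fin_two])
      refine ⟨⟨g, ?_, ?_⟩, Subtype.ext hg⟩
      · intro hs
        have h1 : IsScal (h : Matrix (Fin 2) (Fin 2) F) := by rw [← hg]; exact hs
        rw [gl_isScal_iff_of_conj hh, u_coe] at h1
        simp [IsScal] at h1
      · have h1 : (h : Matrix (Fin 2) (Fin 2) F).trace = 2 := by
          rw [gl_trace_eq_of_conj hh, u_coe]; simp [trace_fin_two]; norm_num
        rw [← hg] at h1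
        exact h1
  have h1 := class_card_mul (u (1 : F))
  rw [gl_card_centralizer_unip (u 1) 1 (by rw [u_coe]; simp [IsScal]) (by rw [u_coe]; simp [trace_fin_two])
    (by rw [u_coe]; simp [det_fin_two]), card_GL] at h1
  rw [Nat.card_congr e]
  have h2 : Fintype.card F ^ 2 - Fintype.card F = (Fintype.card F - 1) * Fintype.card F := by
    rw [Nat.sub_mul, one_mul, sq]
  rw [h2] at h1
  exact Nat.eq_of_mul_eq_mul_right (Nat.mul_pos (by omega) (by omega)) h1

theorem Pair.D_sq_val (hp : Pair θ φ) {y : G2 F} (g : SL2 F) :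
    (θ (cjg y g) - φ (cjg y g)) * conj (θ (cjg y g) - φ (cjg y g)) = (θ g - φ g) * conj (θ g - φ g) := by
  by_cases hy : IsSquare (y : Matrix (Fin 2) (Fin 2) F).det
  · have h1 := classFunction_isConj (isClassFunction_of_isIrr hp.h1) (cjg_conj_of_sq hy g)
    have h2 := classFunction_isConj (isClassFunction_of_isIrr hp.h2) (cjg_conj_of_sq hy g)
    rw [h1, h2]
  · obtain ⟨h1, h2⟩ := hp.conj_eq hy g
    rw [h1, h2]
    simp only [map_sub]
    ring

/-- `|D(u)|² = q` for `D = θ - φ` at a nonscalar element of trace 2 -/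
theorem Pair.norm_D (hp : Pair θ φ) (h2 : (2 : F) ≠ 0) (v : SL2 F) (hv : ¬ IsScal (v : Matrix (Fin 2) (Fin 2) F))
    (ht : (v : Matrix (Fin 2) (Fin 2) F).trace = 2) :
    (θ v - φ v) * conj (θ v - φ v) = Fintype.card F := by
  classical
  obtain ⟨w, hw, hw1, hw2⟩ := hp.omega
  have hww : w * conj w = 1 := by
    have : (w - 1) * (w + 1) = 0 := by linear_combination hw
    rcases mul_eq_zero.1 this with h | h
    · rw [sub_eq_zero.1 h]; simp
    · rw [eq_neg_of_add_eq_zero_left h]; simp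
  have hinner : classInner (θ - φ) (θ - φ) = 2 := by
    rw [H18.CharOrtho.inner_sub_left, H18.CharOrtho.inner_sub_right, H18.CharOrtho.inner_sub_right,
      inner_irr_self hp.h1, inner_irr_self hp.h2, inner_irr_ne hp.h1 hp.h2 hp.ne, inner_irr_ne hp.h2 hp.h1 hp.ne.symm]
    norm_num
  unfold classInner at hinner
  have hsplit : ∑ g : SL2 F, (θ - φ) g * conj ((θ - φ) g) =
      2 * (Nat.card (V F) * ((θ v - φ v) * conj (θ v - φ v))) := by
    have hval : ∀ g : SL2 F, (θ - φ) g * conj ((θ - φ) g) =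
        (if ¬ IsScal (g : Matrix (Fin 2) (Fin 2) F) ∧ (g : Matrix (Fin 2) (Fin 2) F).trace = 2 then
          (θ v - φ v) * conj (θ v - φ v) else 0) +
        (if ¬ IsScal ((-1 * g : SL2 F) : Matrix (Fin 2) (Fin 2) F) ∧
          ((-1 * g : SL2 F) : Matrix (Fin 2) (Fin 2) F).trace = 2 then
          (θ v - φ v) * conj (θ v - φ v) else 0) := by
      intro g
      have hA : ∀ g : SL2 F, ¬ IsScal (g : Matrix (Fin 2) (Fin 2) F) → (g : Matrix (Fin 2) (Fin 2) F).trace = 2 →
          (θ g - φ g) * conj (θ g - φ g) = (θ v - φ v) * conj (θ v - φ v) := by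
        intro g h3 h4
        obtain ⟨y, rfl⟩ := conj_of_V hv h3 (ht.trans h4.symm)
        exact hp.D_sq_val v
      have hD1 : (θ - φ) (-1 * g) * conj ((θ - φ) (-1 * g)) = (θ - φ) g * conj ((θ - φ) g) := by
        simp only [Pi.sub_apply, hw1, hw2]
        rw [← mul_sub, map_mul]
        linear_combination ((θ g - φ g) * conj (θ g - φ g)) * hww
      have htn : ((-1 * g : SL2 F) : Matrix (Fin 2) (Fin 2) F).trace = - (g : Matrix (Fin 2) (Fin 2) F).trace := by
        simp [trace_fin_two]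
      by_cases hs : IsScal (g : Matrix (Fin 2) (Fin 2) F)
      · have hs' : IsScal ((-1 * g : SL2 F) : Matrix (Fin 2) (Fin 2) F) := by
          obtain ⟨a, b, c⟩ := hs
          simp [IsScal, a, b, c]
        rw [if_neg (fun h => h.1 hs), if_neg (fun h => h.1 hs'), Pi.sub_apply, hp.eq_of_scal hs]
        simp
      · have hs' : ¬ IsScal ((-1 * g : SL2 F) : Matrix (Fin 2) (Fin 2) F) := by
          intro h
          apply hs
          obtain ⟨a, b, c⟩ := h
          simp at a b c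
          exact ⟨a, b, c⟩
        by_cases h3 : (g : Matrix (Fin 2) (Fin 2) F).trace = 2
        · rw [if_pos ⟨hs, h3⟩, if_neg, add_zero]
          · exact hA g hs h3
          · rintro ⟨-, h4⟩
            rw [htn, h3] at h4
            have h5 : (2 : F) * 2 = 0 := by linear_combination -h4
            exact h2 (by simpa using mul_self_eq_zero.1 h5)
        · rw [if_neg (fun h => h3 h.2), zero_add]
          by_cases h4 : ((-1 * g : SL2 F) : Matrix (Fin 2) (Fin 2) F).trace = 2
          · rw [if_pos ⟨hs', h4⟩, ← hD1]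
            exact hA _ hs' h4
          · rw [if_neg (fun h => h4 h.2), Pi.sub_apply, hp.eq_of_disc]
            · rw [sub_self, zero_mul]
            · intro h5
              have h6 : ((g : Matrix (Fin 2) (Fin 2) F).trace - 2) * ((g : Matrix (Fin 2) (Fin 2) F).trace + 2) = 0 := by
                linear_combination h5
              rcases mul_eq_zero.1 h6 with h7 | h7
              · exact h3 (sub_eq_zero.1 h7)
              · apply h4
                rw [htn]
                linear_combination -h7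
    rw [Finset.sum_congr rfl (fun g _ => hval g), Finset.sum_add_distrib]
    have e1 : ∑ g : SL2 F, (if ¬ IsScal (g : Matrix (Fin 2) (Fin 2) F) ∧ (g : Matrix (Fin 2) (Fin 2) F).trace = 2 then
          (θ v - φ v) * conj (θ v - φ v) else 0) = Nat.card (V F) * ((θ v - φ v) * conj (θ v - φ v)) := by
      rw [← Finset.sum_filter, Finset.sum_const, nsmul_eq_mul, Nat.card_eq_fintype_card, Fintype.card_subtype]
    have e2 : ∑ g : SL2 F, (if ¬ IsScal ((-1 * g : SL2 F) : Matrix (Fin 2) (Fin 2) F) ∧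
          ((-1 * g : SL2 F) : Matrix (Fin 2) (Fin 2) F).trace = 2 then
          (θ v - φ v) * conj (θ v - φ v) else 0) = Nat.card (V F) * ((θ v - φ v) * conj (θ v - φ v)) := by
      rw [← e1]
      exact Fintype.sum_equiv (Equiv.mulLeft (-1 : SL2 F)) _ _ (fun g => rfl)
    rw [e1, e2]; ring
  rw [hsplit, card_V, card_SL] at hinner
  have hq := Fintype.one_lt_card (α := F)
  have hq2 : 1 < Fintype.card F ^ 2 := Nat.one_lt_pow two_ne_zero hq
  have h3 : ((Fintype.card F ^ 2 - 1 : ℕ) : ℂ) ≠ 0 := by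
    have : Fintype.card F ^ 2 - 1 ≠ 0 := by omega
    exact_mod_cast this
  have h4 : (Fintype.card F : ℂ) ≠ 0 := by exact_mod_cast (by omega : Fintype.card F ≠ 0)
  rw [Nat.cast_mul] at hinner
  field_simp at hinner
  linear_combination hinner

theorem isSquare_neg_one : IsSquare (-1 : F) ∨ ¬ IsSquare (-1 : F) := em _

/-- `D(u)² = δ q` -/
theorem Pair.D_sq (hp : Pair θ φ) (hodd : Odd (Fintype.card F)) (v : SL2 F)
    (hv : (v : Matrix (Fin 2) (Fin 2) F) = !![1, 1; 0, 1]) :
    (θ v - φ v) ^ 2 = (-1 : ℂ) ^ ((Fintype.card F - 1) / 2) * (Fintype.card F : ℂ) := by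
  have hn := hp.norm_D (two_ne_zero' hodd) v (by rw [hv]; simp [IsScal]) (by rw [hv]; simp [trace_fin_two]; norm_num)
  let y : G2 F := GeneralLinearGroup.mkOfDetNeZero !![-1, 0; 0, 1] (by rw [det_fin_two]; simp)
  have hy : (y : Matrix (Fin 2) (Fin 2) F) = !![-1, 0; 0, 1] := rfl
  have hyd : (y : Matrix (Fin 2) (Fin 2) F).det = -1 := by rw [hy]; simp [det_fin_two]
  have hinv : cjg y v = v⁻¹ := by
    apply Matrix.SpecialLinearGroup.toGL_injective
    rw [toGL_cjg, map_inv, mul_inv_eq_iff_eq_mul, eq_inv_mul_iff_mul_eq]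
    apply Units.ext
    rw [Units.val_mul, Units.val_mul, hy]
    change (v : Matrix (Fin 2) (Fin 2) F) * (!![-1, 0; 0, 1] * (v : Matrix (Fin 2) (Fin 2) F)) = !![-1, 0; 0, 1]
    rw [hv]
    ext i j
    fin_cases i <;> fin_cases j <;> simp [Matrix.mul_apply, Fin.sum_univ_two]
  have hc1 : conj (θ v) = θ (cjg y v) := by rw [hinv, char_inv (isCharacter_of_isIrr hp.h1)]
  have hc2 : conj (φ v) = φ (cjg y v) := by rw [hinv, char_inv (isCharacter_of_isIrr hp.h2)]
  rw [map_sub, hc1, hc2] at hn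
  obtain ⟨m, hm⟩ := hodd
  have hm2 : (Fintype.card F - 1) / 2 = m := by omega
  rw [hm2]
  by_cases hs : IsSquare (-1 : F)
  · have h1 := classFunction_isConj (isClassFunction_of_isIrr hp.h1)
      (cjg_conj_of_sq (x := y) (by rw [hyd]; exact hs) v)
    have h2 := classFunction_isConj (isClassFunction_of_isIrr hp.h2)
      (cjg_conj_of_sq (x := y) (by rw [hyd]; exact hs) v)
    rw [h1, h2] at hn
    rw [FiniteField.isSquare_neg_one_iff] at hs
    have hev : Even m := by
      rcases Nat.even_or_odd m with h | h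
      · exact h
      · obtain ⟨k, hk⟩ := h; omega
    rw [hev.neg_one_pow, one_mul, ← hn, h1, h2]; ring
  · obtain ⟨h1, h2⟩ := hp.conj_eq (y := y) (by rw [hyd]; exact hs) v
    rw [h1, h2] at hn
    rw [FiniteField.isSquare_neg_one_iff] at hs
    have hod : Odd m := by
      rcases Nat.even_or_odd m with h | h
      · obtain ⟨k, hk⟩ := h; omega
      · exact h
    rw [hod.neg_one_pow, ← hn]; ring

section deg
variable [Fintype (G2 F)]

/-- degree `(q + 1)/2`, `q ≥ 5` -/
theorem eq_half_ps (hodd : Odd (Fintype.card F)) (hq : 5 ≤ Fintype.card F) (hθ : IsIrrCharacter (SL2 F) θ)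
    (hd : θ 1 = (((Fintype.card F + 1) / 2 : ℕ) : ℂ)) :
    ∃ (γ : MulChar F ℂ) (φ : SL2 F → ℂ), γ ^ 2 = 1 ∧ γ ≠ 1 ∧ Pair θ φ ∧ indFun (BSL F) (thS γ) = θ + φ := by
  obtain ⟨m, hm⟩ := hodd
  have hm2 : (Fintype.card F + 1) / 2 = m + 1 := by omega
  rw [hm2] at hd
  have hmC : (Fintype.card F : ℂ) = 2 * m + 1 := by exact_mod_cast hm
  rcases cases' hθ with h | h | ⟨γ, hγ, h⟩ | ⟨c, h⟩ | ⟨γ, φ, h1, h2, h3, h4, h, x, hx⟩ | ⟨c, φ, -, -, h, x, hx⟩
  · rw [h] at hd
    simp only at hd
    have : 1 = m + 1 := by exact_mod_cast hd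
    omega
  · rw [h, StS_one] at hd
    have : Fintype.card F = m + 1 := by exact_mod_cast hd
    omega
  · rw [h, indS_one] at hd
    have : Fintype.card F + 1 = m + 1 := by exact_mod_cast hd
    omega
  · rw [h, cusp_one, hmC] at hd
    have h2 : (2 : ℂ) * m = m + 1 := by push_cast at hd; linear_combination hd
    have : 2 * m = m + 1 := by exact_mod_cast h2
    omega
  · exact ⟨γ, φ, h1, h2, ⟨hθ, h3, h4, x, hx⟩, h⟩
  · have h2 := half_degree h hx
    rw [cusp_one, hd, hmC] at h2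
    push_cast at h2
    have h3 : (2 : ℂ) = 0 := by linear_combination h2
    norm_num at h3

/-- degree `(q - 1)/2`, `q ≥ 5` -/
theorem eq_half_cusp (hodd : Odd (Fintype.card F)) (hq : 5 ≤ Fintype.card F) (hθ : IsIrrCharacter (SL2 F) θ)
    (hd : θ 1 = (((Fintype.card F - 1) / 2 : ℕ) : ℂ)) :
    ∃ (c : CuspIrr F) (φ : SL2 F → ℂ), Pair θ φ ∧ res (c.1 : G2 F → ℂ) = θ + φ := by
  obtain ⟨m, hm⟩ := hodd
  have hm2 : (Fintype.card F - 1) / 2 = m := by omega
  rw [hm2] at hd
  have hmC : (Fintype.card F : ℂ) = 2 * m + 1 := by exact_mod_cast hm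
  rcases cases' hθ with h | h | ⟨γ, hγ, h⟩ | ⟨c, h⟩ | ⟨γ, φ, -, -, -, -, h, x, hx⟩ | ⟨c, φ, h3, h4, h, x, hx⟩
  · rw [h] at hd
    simp only at hd
    have : 1 = m := by exact_mod_cast hd
    omega
  · rw [h, StS_one] at hd
    have : Fintype.card F = m := by exact_mod_cast hd
    omega
  · rw [h, indS_one] at hd
    have : Fintype.card F + 1 = m := by exact_mod_cast hd
    omega
  · rw [h, cusp_one, hmC] at hd
    have h2 : (2 : ℂ) * m = m := by linear_combination hd
    have : 2 * m = m := by exact_mod_cast h2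
    omega
  · have h2 := half_degree h hx
    rw [indS_one, hd, hmC] at h2
    have h3 : (2 : ℂ) = 0 := by linear_combination -h2
    norm_num at h3
  · exact ⟨c, φ, ⟨hθ, h3, h4, x, hx⟩, h⟩

/-- uniqueness of the other one among two -/
theorem third_eq {G : Type*} [Group G] [Finite G] {P : IrrCharacter G → Prop}
    (h : Nat.card {χ : IrrCharacter G // P χ} = 2) {a b c : IrrCharacter G} (ha : P a) (hb : P b) (hc : P c)
    (hab : a ≠ b) (hac : a ≠ c) : b = c := by
  classical
  by_contra hbc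
  have : Fintype {χ : IrrCharacter G // P χ} := Fintype.ofFinite _
  rw [Nat.card_eq_fintype_card] at h
  have h3 : ({⟨a, ha⟩, ⟨b, hb⟩, ⟨c, hc⟩} : Finset {χ : IrrCharacter G // P χ}).card = 3 := by
    rw [Finset.card_eq_three]
    exact ⟨_, _, _, fun e => hab (congrArg Subtype.val e), fun e => hac (congrArg Subtype.val e),
      fun e => hbc (congrArg Subtype.val e), rfl⟩
  have h4 := Finset.card_le_univ ({⟨a, ha⟩, ⟨b, hb⟩, ⟨c, hc⟩} : Finset {χ : IrrCharacter G // P χ})
  omega

omit [Fintype (G2 F)] [Fintype F] in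
theorem Pair.degree (hp : Pair θ φ) : φ 1 = θ 1 := by
  obtain ⟨x, hx⟩ := hp.cj
  rw [hx, cjg_one]

omit [Fintype (G2 F)] in
theorem eq_other {θ φ θ' : SL2 F → ℂ} {d : ℂ} (h : Nat.card {χ : IrrCharacter (SL2 F) // (χ : SL2 F → ℂ) 1 = d} = 2)
    (hp : Pair θ φ) (hθ : θ 1 = d) (h' : IsIrrCharacter (SL2 F) θ') (hd' : θ' 1 = d) (hne : θ ≠ θ') : θ' = φ := by
  have h1 := third_eq h (a := ⟨θ, hp.h1⟩) (b := ⟨θ', h'⟩) (c := ⟨φ, hp.h2⟩) hθ hd' (hp.degree.trans hθ)
    (fun e => hne (congrArg Subtype.val e)) (fun e => hp.ne (congrArg Subtype.val e))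
  exact congrArg Subtype.val h1

end deg

end Fin

end H43.SLVals
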