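import Mathlib
import Cfsg.Agent.Lib.H57.Polar
import Cfsg.Agent.Lib.H6.SUGenB

/-!
Two-generation of unitary groups: a decomposition `A ⊥ B` and a subgroup containing the transvections of `A` and an
element `z · s · t`.
-/
set_option autoImplicit false

namespace H43.SUTwoA

open Module H95.UBasic H57.Polar

variable {F A B V : Type*} [Field F] [AddCommGroup A] [Module F A] [AddCommGroup B] [Module F B]
  [AddCommGroup V] [Module F V] {σ : F →+* F}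
variable {h3 : A →ₗ[F] A →ₛₗ[σ] F} {h' : B →ₗ[F] B →ₛₗ[σ] F} {h : V →ₗ[F] V →ₛₗ[σ] F}

/-- the action of `GL(A)` on `V` -/
def L1 (Φ : (A × B) ≃ₗ[F] V) : (A ≃ₗ[F] A) →* (V ≃ₗ[F] V) where
  toFun g := Φ.symm.trans ((g.prodCongr (LinearEquiv.refl F B)).trans Φ)
  map_one' := by
    ext x
    simp [show (1 : A ≃ₗ[F] A) = LinearEquiv.refl F A from rfl]
  map_mul' g g' := by
    ext x
    simp [LinearEquiv.mul_apply]

/-- the action of `GL(B)` on `V` -/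
def L2 (Φ : (A × B) ≃ₗ[F] V) : (B ≃ₗ[F] B) →* (V ≃ₗ[F] V) where
  toFun g := Φ.symm.trans (((LinearEquiv.refl F A).prodCongr g).trans Φ)
  map_one' := by
    ext x
    simp [show (1 : B ≃ₗ[F] B) = LinearEquiv.refl F B from rfl]
  map_mul' g g' := by
    ext x
    simp [LinearEquiv.mul_apply]

variable (Φ : (A × B) ≃ₗ[F] V)

theorem L1_apply (g : A ≃ₗ[F] A) (a : A) (b : B) : L1 Φ g (Φ (a, b)) = Φ (g a, b) := by
  simp [L1]

theorem L2_apply (g : B ≃ₗ[F] B) (a : A) (b : B) : L2 Φ g (Φ (a, b)) = Φ (a, g b) := by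
  simp [L2]

theorem ext_Φ {g g' : V ≃ₗ[F] V} (hgg : ∀ a b, g (Φ (a, b)) = g' (Φ (a, b))) : g = g' := by
  apply LinearEquiv.ext
  intro x
  obtain ⟨⟨a, b⟩, rfl⟩ := Φ.surjective x
  exact hgg a b

theorem L12_comm (g : A ≃ₗ[F] A) (g' : B ≃ₗ[F] B) : L1 Φ g * L2 Φ g' = L2 Φ g' * L1 Φ g := by
  apply ext_Φ Φ
  intro a b
  rw [LinearEquiv.mul_apply, LinearEquiv.mul_apply, L1_apply, L2_apply, L2_apply, L1_apply]

/-- orthogonality of the decomposition -/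
def Dec (Φ : (A × B) ≃ₗ[F] V) (h3 : A →ₗ[F] A →ₛₗ[σ] F) (h' : B →ₗ[F] B →ₛₗ[σ] F) (h : V →ₗ[F] V →ₛₗ[σ] F) : Prop :=
  ∀ a b a' b', h (Φ (a, b)) (Φ (a', b')) = h3 a a' + h' b b'

variable {Φ}

theorem Dec.L1_mem (hD : Dec Φ h3 h' h) {g : A ≃ₗ[F] A} (hg : g ∈ isom h3) : L1 Φ g ∈ isom h := by
  intro x y
  obtain ⟨⟨a, b⟩, rfl⟩ := Φ.surjective x
  obtain ⟨⟨a', b'⟩, rfl⟩ := Φ.surjective y
  rw [L1_apply, L1_apply, hD, hD, hg]

theorem Dec.L2_mem (hD : Dec Φ h3 h' h) {g : B ≃ₗ[F] B} (hg : g ∈ isom h') : L2 Φ g ∈ isom h := by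
  intro x y
  obtain ⟨⟨a, b⟩, rfl⟩ := Φ.surjective x
  obtain ⟨⟨a', b'⟩, rfl⟩ := Φ.surjective y
  rw [L2_apply, L2_apply, hD, hD, hg]

theorem Dec.rf_eq (hD : Dec Φ h3 h' h) {v : A} {c : F} (hv : h3 v v = 0) (hc : σ c = c) :
    L1 Φ (rf h3 v c) = rf h (Φ (v, 0)) c := by
  apply ext_Φ Φ
  intro a b
  have hv' : h (Φ (v, 0)) (Φ (v, 0)) = 0 := by rw [hD, hv]; simp
  rw [L1_apply, rf_apply (tr_good hv hc), rf_apply (tr_good hv' hc), hD]
  have h1 : ((a + (c * h3 a v) • v, b) : A × B) = (a, b) + (c * h3 a v) • (v, 0) := by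
    ext <;> simp
  rw [h1, map_add, map_smul]
  simp

theorem sieg_zero_eq {v : V} {c : F} (hv : h v v = 0) (hc : σ c = c) : sieg h v 0 c = rf h v c := by
  apply LinearEquiv.ext
  intro x
  rw [sieg_apply (good_tr hv hc), rf_apply (tr_good hv hc)]
  simp

theorem sieg_one (v : V) : sieg h v 0 0 = 1 := by
  by_cases hv : h v v = 0
  · rw [sieg_zero_eq hv (map_zero _), rf_zero]
  · rw [sieg_of_not]
    intro hg
    exact hv hg.1

theorem good_inv (H : Sk h) {v w : V} {a : F} (hg : Good h v w a) : Good h v (-w) (-σ a) := by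
  obtain ⟨h1, h2, h3, h4⟩ := hg
  refine ⟨h1, by rw [map_neg, h2, neg_zero], by rw [map_neg, LinearMap.neg_apply, h3, neg_zero], ?_⟩
  rw [map_neg, map_neg, map_neg, LinearMap.neg_apply, neg_neg, H.inv, ← h4]
  ring

theorem sieg_inv (H : Sk h) {v w : V} {a : F} (hg : Good h v w a) : (sieg h v w a)⁻¹ = sieg h v (-w) (-σ a) := by
  have h1 := sieg_mul H hg (good_inv H hg)
  have h2 : a + -σ a + h (-w) w = 0 := by
    rw [map_neg, LinearMap.neg_apply, ← hg.2.2.2]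
    ring
  rw [add_neg_cancel, h2, sieg_one] at h1
  exact inv_eq_of_mul_eq_one_right h1

theorem Dec.good (hD : Dec Φ h3 h' h) {e : A} (hee : h3 e e = 0) {w : B} {α : F} (hα : α - σ α = h' w w) :
    Good h (Φ (e, 0)) (Φ (0, w)) α := by
  refine ⟨?_, ?_, ?_, ?_⟩
  · rw [hD, hee]; simp
  · rw [hD]; simp
  · rw [hD]; simp
  · rw [hD, hα]; simp

theorem Dec.sieg_apply (hD : Dec Φ h3 h' h) {e : A} (hee : h3 e e = 0) {w : B} {α : F} (hα : α - σ α = h' w w)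
    (a : A) (b : B) : sieg h (Φ (e, 0)) (Φ (0, w)) α (Φ (a, b)) =
      Φ (a + (h' b w + α * h3 a e) • e, b + h3 a e • w) := by
  rw [H57.Polar.sieg_apply (hD.good hee hα), hD, hD]
  have h1 : ((a + (h' b w + α * h3 a e) • e, b + h3 a e • w) : A × B) =
      (a, b) + h3 a e • ((0, w) : A × B) + h' b w • ((e, 0) : A × B) + (α * h3 a e) • ((e, 0) : A × B) := by
    ext
    · simp [add_smul, add_assoc]
    · simp
  rw [h1, map_add, map_add, map_add, map_smul, map_smul, map_smul]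
  simp

theorem smul_smul_form (k : B →ₗ[F] B →ₛₗ[σ] F) (c : F) (y : B) : k (c • y) (c • y) = c * σ c * k y y := by
  simp only [map_smul, LinearMap.smul_apply, map_smulₛₗ, smul_eq_mul]
  ring

theorem gen [FiniteDimensional F A] (H : Sk h) (H3 : IsSkew h3) (H' : IsSkew h') (hD : Dec Φ h3 h' h)
    (hd3 : 3 ≤ finrank F A)
    (span3 : ∀ a : A, a ≠ 0 → ∃ e, h3 e e = 0 ∧ h3 a e ≠ 0)
    (M : Subgroup (V ≃ₗ[F] V)) (hT : ∀ v c, h3 v v = 0 → σ c = c → L1 Φ (rf h3 v c) ∈ M)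
    (s : A ≃ₗ[F] A) (hs : s ∈ isom h3) (t : B ≃ₗ[F] B) (ht : t ∈ isom h') (e : A) (he0 : e ≠ 0) (hee : h3 e e = 0)
    (w : B) (α : F) (hα : α - σ α = h' w w)
    (hb : sieg h (Φ (e, 0)) (Φ (0, w)) α * (L1 Φ s * L2 Φ t) ∈ M)
    (hcyc : ∀ W : Submodule F B, w ∈ W → (∀ y ∈ W, t y ∈ W) → W = ⊤) :
    ∀ v c, h v v = 0 → σ c = c → rf h v c ∈ M := by
  have hTU : ∀ g ∈ TU h3 ⊤, L1 Φ g ∈ M := by
    intro g hg
    have : TU h3 ⊤ ≤ M.comap (L1 Φ) := TU_le fun v _ hv c hc => hT v c hv hc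
    exact this hg
  have htr : ∀ e1 e2 : A, e1 ≠ 0 → h3 e1 e1 = 0 → e2 ≠ 0 → h3 e2 e2 = 0 → ∃ g ∈ TU h3 ⊤, g e1 = e2 :=
    fun e1 e2 a1 a2 a3 a4 => H6.SUGenB.trans_iso H3 hd3 a1 a2 a3 a4
  have hsm : ∀ (c : F) (e1 : A) (y : B) (β : F), h3 e1 e1 = 0 → β - σ β = h' y y →
      sieg h (Φ (c • e1, 0)) (Φ (0, y)) β = sieg h (Φ (e1, 0)) (Φ (0, σ c • y)) (β * (c * σ c)) := by
    intro c e1 y β he1 hβ
    have g1 := hD.good he1 hβ
    have h2 := sieg_smul H c g1.1 g1.2.1 g1.2.2.1 g1.2.2.2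
    have e1' : Φ (c • e1, 0) = c • Φ (e1, 0) := by rw [← map_smul]; congr 1; ext <;> simp
    have e2' : Φ (0, σ c • y) = σ c • Φ (0, y) := by rw [← map_smul]; congr 1; ext <;> simp
    rw [e1', e2', h2]
  let WW : Submodule F B :=
    { carrier := {y | ∀ e1, e1 ≠ 0 → h3 e1 e1 = 0 → ∃ β, β - σ β = h' y y ∧ sieg h (Φ (e1, 0)) (Φ (0, y)) β ∈ M}
      zero_mem' := by
        intro e1 _ _
        refine ⟨0, by simp, ?_⟩
        have : Φ ((0, 0) : A × B) = 0 := by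
          rw [← Prod.zero_eq_mk, map_zero]
        rw [this, sieg_one]
        exact M.one_mem
      add_mem' := by
        intro y y' hy hy' e1 h1 h2
        obtain ⟨β, hβ, hβM⟩ := hy e1 h1 h2
        obtain ⟨β', hβ', hβM'⟩ := hy' e1 h1 h2
        have h5 := sieg_mul H (hD.good h2 hβ) (hD.good h2 hβ')
        have h6 := (Good.add H (hD.good h2 hβ) (hD.good h2 hβ')).2.2.2
        have e1' : Φ (0, y) + Φ (0, y') = Φ (0, y + y') := by
          rw [← map_add]; congr 1; ext <;> simp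
        rw [e1'] at h5 h6
        refine ⟨β + β' + h (Φ (0, y')) (Φ (0, y)), ?_, ?_⟩
        · rw [h6, hD]; simp
        · rw [← h5]; exact M.mul_mem hβM hβM'
      smul_mem' := by
        intro c y hy e1 h1 h2
        by_cases hc : c = 0
        · subst hc
          refine ⟨0, by simp, ?_⟩
          have : Φ ((0, (0 : F) • y) : A × B) = 0 := by
            rw [zero_smul, ← Prod.zero_eq_mk, map_zero]
          rw [this, sieg_one]
          exact M.one_mem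
        · have hσc : σ c ≠ 0 := fun h0 => hc (H3.inj h0)
          obtain ⟨β, hβ, hβM⟩ := hy (σ c • e1) (smul_ne_zero hσc h1) (H6.SUGenB.iso_smul _ h2)
          rw [hsm _ _ _ _ h2 hβ, H.inv] at hβM
          refine ⟨_, ?_, hβM⟩
          rw [smul_smul_form, ← hβ, map_mul, map_mul, H.inv]
          ring }
  have hWW : ∀ y, y ∈ WW ↔ ∀ e1, e1 ≠ 0 → h3 e1 e1 = 0 → ∃ β, β - σ β = h' y y ∧
    sieg h (Φ (e1, 0)) (Φ (0, y)) β ∈ M := fun y => Iff.rfl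
  have hgz := hD.good hee hα
  set z := sieg h (Φ (e, 0)) (Φ (0, w)) α with hz
  -- `w ∈ WW`
  have hwW : w ∈ WW := by
    obtain ⟨l, hl⟩ := H3.ne
    have hl0 : l ≠ 0 := by rintro rfl; exact hl (map_zero _)
    have hl1 : 1 - σ l ≠ 0 := by
      intro h0
      have h1 : σ l = 1 := (sub_eq_zero.1 h0).symm
      have h2 : l = 1 := by rw [← H3.inv l, h1, map_one]
      exact hl (by rw [h1, h2])
    obtain ⟨g, hg, hge⟩ := htr e (l • e) he0 hee (smul_ne_zero hl0 he0) (H6.SUGenB.iso_smul _ hee)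
    have hg' : s⁻¹ * g * s ∈ TU h3 ⊤ := by
      have := TU_conj (h := h3) (U := ⊤) ((isom h3).inv_mem hs) (fun _ _ => trivial) hg
      rwa [inv_inv] at this
    have h1 := M.mul_mem (M.mul_mem hb (hTU _ hg')) (M.inv_mem hb)
    have h2 : z * (L1 Φ s * L2 Φ t) * L1 Φ (s⁻¹ * g * s) * (z * (L1 Φ s * L2 Φ t))⁻¹ = z * L1 Φ g * z⁻¹ := by
      have h3 : L1 Φ s * L2 Φ t * L1 Φ (s⁻¹ * g * s) * (L1 Φ s * L2 Φ t)⁻¹ = L1 Φ g := by
        rw [mul_inv_rev, L12_comm Φ s t]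
        have h4 : L1 Φ (s⁻¹ * g * s) = (L1 Φ s)⁻¹ * L1 Φ g * L1 Φ s := by
          rw [map_mul, map_mul, map_inv]
        rw [h4]
        have h5 := L12_comm Φ g t
        calc L2 Φ t * L1 Φ s * ((L1 Φ s)⁻¹ * L1 Φ g * L1 Φ s) * ((L2 Φ t)⁻¹ * (L1 Φ s)⁻¹)
            = L2 Φ t * L1 Φ g * (L1 Φ s * (L2 Φ t)⁻¹ * (L1 Φ s)⁻¹) := by group
          _ = L1 Φ g * L2 Φ t * (L1 Φ s * (L2 Φ t)⁻¹ * (L1 Φ s)⁻¹) := by rw [h5]
          _ = L1 Φ g * (L2 Φ t * L1 Φ s) * (L2 Φ t)⁻¹ * (L1 Φ s)⁻¹ := by group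
          _ = L1 Φ g * (L1 Φ s * L2 Φ t) * (L2 Φ t)⁻¹ * (L1 Φ s)⁻¹ := by rw [L12_comm]
          _ = L1 Φ g := by group
      calc _ = z * (L1 Φ s * L2 Φ t * L1 Φ (s⁻¹ * g * s) * (L1 Φ s * L2 Φ t)⁻¹) * z⁻¹ := by group
        _ = _ := by rw [h3]
    rw [h2] at h1
    have h3' := M.mul_mem h1 (M.inv_mem (hTU g hg))
    have hgi : L1 Φ g ∈ isom h := hD.L1_mem (SU_le _ (TU_le_SU H3 ⊤ hg))
    have h4 : z * L1 Φ g * z⁻¹ * (L1 Φ g)⁻¹ = z * (L1 Φ g * z * (L1 Φ g)⁻¹)⁻¹ := by group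
    rw [h4, hz, sieg_conj hgi, L1_apply, L1_apply, map_zero, hge, hsm _ _ _ _ hee hα] at h3'
    have hα' : α * (l * σ l) - σ (α * (l * σ l)) = h' (σ l • w) (σ l • w) := by
      rw [smul_smul_form, ← hα, map_mul, map_mul, H.inv]
      ring
    rw [sieg_inv H (hD.good hee hα')] at h3'
    have hg2 := good_inv H (hD.good hee hα')
    have h5 := sieg_mul H hgz hg2
    have h6 := (Good.add H hgz hg2).2.2.2
    rw [h5] at h3'
    have e1' : Φ (0, w) + -Φ (0, σ l • w) = Φ (0, (1 - σ l) • w) := by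
      rw [← map_neg, ← map_add]; congr 1
      ext
      · simp
      · show w + -(σ l • w) = (1 - σ l) • w
        module
    rw [e1'] at h3' h6
    generalize α + -σ (α * (l * σ l)) + h (-Φ (0, σ l • w)) (Φ (0, w)) = γ at h3' h6
    have h6' : γ - σ γ = h' ((1 - σ l) • w) ((1 - σ l) • w) := by rw [h6, hD]; simp
    rw [hWW]
    intro e1 he1 he1'
    set ν := σ ((1 - σ l)⁻¹) with hν
    have hν0 : ν ≠ 0 := fun h0 => (inv_ne_zero hl1) (H3.inj h0)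
    obtain ⟨g2, hg2', hg2e⟩ := htr e (ν • e1) he0 hee (smul_ne_zero hν0 he1) (H6.SUGenB.iso_smul _ he1')
    have h7 := M.mul_mem (M.mul_mem (hTU g2 hg2') h3') (M.inv_mem (hTU g2 hg2'))
    rw [sieg_conj (hD.L1_mem (SU_le _ (TU_le_SU H3 ⊤ hg2'))), L1_apply, L1_apply, map_zero, hg2e,
      hsm _ _ _ _ he1' h6', hν, H3.inv, smul_smul, inv_mul_cancel₀ hl1, one_smul] at h7
    refine ⟨_, ?_, h7⟩
    have e3 : h' ((1 - σ l) • w) ((1 - σ l) • w) = (1 - σ l) * (σ (1 - σ l) * h' w w) := by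
      rw [smul_smul_form, mul_assoc]
    rw [e3] at h6'
    have hx : σ (1 - σ l) ≠ 0 := fun h0 => hl1 (H3.inj h0)
    simp only [map_mul, H3.inv]
    have e4 : σ ((1 - σ l)⁻¹) * (1 - σ l)⁻¹ * ((1 - σ l) * (σ (1 - σ l) * h' w w)) = h' w w := by
      rw [map_inv₀]
      field_simp
    rw [← e4, ← h6']
    ring
  -- `z ∈ M`
  have hzM : z ∈ M := by
    obtain ⟨β, hβ, hβM⟩ := (hWW w).1 hwW e he0 hee
    have hc : σ (α - β) = α - β := by
      rw [map_sub]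
      linear_combination hβ - hα
    have g1 : Good h (Φ (e, 0)) 0 (α - β) := good_tr hgz.1 hc
    have h1 := sieg_mul H g1 (hD.good hee hβ)
    rw [zero_add, map_zero, add_zero, sub_add_cancel] at h1
    rw [hz, ← h1, sieg_zero_eq hgz.1 hc, ← hD.rf_eq hee hc]
    exact M.mul_mem (hT _ _ hee hc) hβM
  have hst : L1 Φ s * L2 Φ t ∈ M := by
    have := M.mul_mem (M.inv_mem hzM) hb
    rwa [inv_mul_cancel_left] at this
  have hst_i : L1 Φ s * L2 Φ t ∈ isom h := (isom h).mul_mem (hD.L1_mem hs) (hD.L2_mem ht)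
  have htop : WW = ⊤ := by
    apply hcyc WW hwW
    intro y hy
    rw [hWW]
    intro e1 he1 he1'
    have h0 : s⁻¹ e1 ≠ 0 := by
      intro h0
      apply he1
      have h1 : s (s⁻¹ e1) = e1 := s.apply_symm_apply e1
      rw [← h1, h0, map_zero]
    have h2 : h3 (s⁻¹ e1) (s⁻¹ e1) = 0 := by
      rw [(isom h3).inv_mem hs]; exact he1'
    obtain ⟨β, hβ, hβM⟩ := (hWW y).1 hy _ h0 h2
    have h3' := M.mul_mem (M.mul_mem hst hβM) (M.inv_mem hst)
    rw [sieg_conj hst_i, LinearEquiv.mul_apply, LinearEquiv.mul_apply, L2_apply, L2_apply, L1_apply, L1_apply,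
      map_zero, map_zero] at h3'
    have h1 : s (s⁻¹ e1) = e1 := s.apply_symm_apply e1
    rw [h1] at h3'
    exact ⟨β, by rw [ht]; exact hβ, h3'⟩
  -- the conclusion
  have hmem : ∀ y e1, e1 ≠ 0 → h3 e1 e1 = 0 → ∃ β, β - σ β = h' y y ∧ sieg h (Φ (e1, 0)) (Φ (0, y)) β ∈ M := by
    intro y
    have : y ∈ WW := by rw [htop]; trivial
    exact (hWW y).1 this
  have hback : ∀ (X : V ≃ₗ[F] V), X ∈ M → X ∈ isom h → ∀ v c, rf h (X v) c ∈ M → rf h v c ∈ M := by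
    intro X hX hXi v c hr
    rw [← rf_conj v c X hXi] at hr
    have := M.mul_mem (M.mul_mem (M.inv_mem hX) hr) hX
    have e : X⁻¹ * (X * rf h v c * X⁻¹) * X = rf h v c := by group
    rwa [e] at this
  have case1 : ∀ (a : A) (b : B) c, a ≠ 0 → h (Φ (a, b)) (Φ (a, b)) = 0 → σ c = c → rf h (Φ (a, b)) c ∈ M := by
    intro a b c ha hab hc
    obtain ⟨e1, he1, hae⟩ := span3 a ha
    have he10 : e1 ≠ 0 := by rintro rfl; exact hae (map_zero _)
    obtain ⟨β, hβ, hβM⟩ := hmem (-(h3 a e1)⁻¹ • b) e1 he10 he1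
    apply hback _ hβM (sieg_isom H _ _ _)
    have hX : h (sieg h (Φ (e1, 0)) (Φ (0, -(h3 a e1)⁻¹ • b)) β (Φ (a, b)))
      (sieg h (Φ (e1, 0)) (Φ (0, -(h3 a e1)⁻¹ • b)) β (Φ (a, b))) = 0 := by
      rw [sieg_isom H]; exact hab
    rw [hD.sieg_apply he1 hβ] at hX ⊢
    have h0 : b + h3 a e1 • -(h3 a e1)⁻¹ • b = 0 := by
      rw [smul_smul, mul_neg, mul_inv_cancel₀ hae, neg_smul, one_smul, add_neg_cancel]
    rw [h0] at hX ⊢
    rw [hD, map_zero, add_zero] at hX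
    rw [← hD.rf_eq hX hc]
    exact hT _ _ hX hc
  intro v c hv hc
  obtain ⟨⟨a, b⟩, rfl⟩ := Φ.surjective v
  by_cases ha : a = 0
  · by_cases hb0 : b = 0
    · subst ha hb0
      rw [← hD.rf_eq (by simp) hc]
      exact hT _ _ (by simp) hc
    · subst ha
      obtain ⟨b', hb'⟩ : ∃ b', h' b b' ≠ 0 := by
        by_contra hcon
        push Not at hcon
        exact hb0 (H'.nd b hcon)
      obtain ⟨β, hβ, hβM⟩ := hmem b' e he0 hee
      apply hback _ hβM (sieg_isom H _ _ _)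
      have hX : h (sieg h (Φ (e, 0)) (Φ (0, b')) β (Φ (0, b)))
        (sieg h (Φ (e, 0)) (Φ (0, b')) β (Φ (0, b))) = 0 := by
        rw [sieg_isom H]; exact hv
      rw [hD.sieg_apply hee hβ] at hX ⊢
      apply case1 _ _ c _ hX hc
      simp [hb', he0]
  · exact case1 a b c ha hv hc

end H43.SUTwoA
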