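import Mathlib
import Cfsg.Agent.Lib.H43.SUTwoA
import Cfsg.Agent.Lib.H43.SU3Fin
import Cfsg.Agent.Lib.H6.SUGenC
import Cfsg.Agent.Lib.H57.PolarSU

/-!
Two-generation of unitary groups: the concrete decomposition `F^(3+k) = F^3 ⊥ F^k`.
-/
set_option autoImplicit false

namespace H43.SUTwoB

open Module H95.UBasic H57.Polar H43.SUTwoA

variable {F : Type*} [Field F] {σ : F →+* F} {ζ : F}

/-- the standard form `ζ * ∑ x i * σ (y i)` -/
noncomputable def sf (σ : F →+* F) (ζ : F) (ι : Type*) [Fintype ι] : (ι → F) →ₗ[F] (ι → F) →ₛₗ[σ] F :=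
  LinearMap.mk₂'ₛₗ (RingHom.id F) σ (fun x y => ζ * ∑ i, x i * σ (y i))
    (by intro x x' y; simp [add_mul, Finset.sum_add_distrib, mul_add])
    (by intro c x y; simp only [Pi.smul_apply, smul_eq_mul, RingHom.id_apply, mul_assoc, ← Finset.mul_sum]; ring)
    (by intro x y y'; simp [mul_add, Finset.sum_add_distrib])
    (by intro c x y; simp only [Pi.smul_apply, smul_eq_mul, map_mul, Finset.mul_sum]; exact Finset.sum_congr rfl fun i _ => by ring)

theorem sf_apply {ι : Type*} [Fintype ι] (x y : ι → F) : sf σ ζ ι x y = ζ * ∑ i, x i * σ (y i) := rfl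

structure Par (σ : F →+* F) (ζ : F) : Prop where
  inv : ∀ a, σ (σ a) = a
  ne : ∃ a, σ a ≠ a
  norm : ∀ b, σ b = b → ∃ μ, μ * σ μ = b
  z0 : ζ ≠ 0
  σz : σ ζ = -ζ

theorem Par.skew (P : Par σ ζ) (ι : Type*) [Fintype ι] [DecidableEq ι] : IsSkew (sf σ ζ ι) where
  inv := P.inv
  ne := P.ne
  norm := P.norm
  skew := by
    intro x y
    rw [sf_apply, sf_apply, map_mul, P.σz, map_sum, neg_mul, neg_neg]
    congr 1
    apply Finset.sum_congr rfl
    intro i _
    rw [map_mul, P.inv, mul_comm]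
  nd := by
    intro v hv
    funext i
    have h1 := hv (Pi.single i 1)
    rw [sf_apply, Finset.sum_eq_single i] at h1
    · rw [Pi.single_eq_same, map_one, mul_one] at h1
      exact (mul_eq_zero.1 h1).resolve_left P.z0
    · intro j _ hj
      rw [Pi.single_eq_of_ne hj, map_zero, mul_zero]
    · intro h; exact absurd (Finset.mem_univ _) h

/-- the decomposition -/
def Φ (F : Type*) [Field F] (k : ℕ) : ((Fin 3 → F) × (Fin k → F)) ≃ₗ[F] (Fin (3 + k) → F) :=
  (LinearEquiv.sumArrowLequivProdArrow (Fin 3) (Fin k) F F).symm.trans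
    (LinearEquiv.funCongrLeft F F finSumFinEquiv.symm)

theorem Φ_inl (k : ℕ) (a : Fin 3 → F) (b : Fin k → F) (i : Fin 3) : Φ F k (a, b) (finSumFinEquiv (Sum.inl i)) = a i := by
  simp [Φ, LinearEquiv.funCongrLeft, LinearMap.funLeft]

theorem Φ_inr (k : ℕ) (a : Fin 3 → F) (b : Fin k → F) (i : Fin k) : Φ F k (a, b) (finSumFinEquiv (Sum.inr i)) = b i := by
  simp [Φ, LinearEquiv.funCongrLeft, LinearMap.funLeft]

theorem dec (k : ℕ) : Dec (Φ F k) (sf σ ζ (Fin 3)) (sf σ ζ (Fin k)) (sf σ ζ (Fin (3 + k))) := by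
  intro a b a' b'
  rw [sf_apply, sf_apply, sf_apply, ← mul_add]
  congr 1
  rw [← Equiv.sum_comp finSumFinEquiv, Fintype.sum_sum_type]
  simp only [Φ_inl, Φ_inr]

theorem det_L1 {A B V : Type*} [AddCommGroup A] [Module F A] [AddCommGroup B] [Module F B]
    [AddCommGroup V] [Module F V] [FiniteDimensional F A] [FiniteDimensional F B] [FiniteDimensional F V]
    (Φ : (A × B) ≃ₗ[F] V) (g : A ≃ₗ[F] A) : LinearEquiv.det (L1 Φ g) = LinearEquiv.det g := by
  have h1 : L1 Φ g = (Φ.symm.trans (g.prodCongr (LinearEquiv.refl F B))).trans Φ := rfl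
  rw [h1, LinearEquiv.det_conj, ← Units.val_inj, LinearEquiv.coe_det, LinearEquiv.coe_det]
  have h2 : ((g.prodCongr (LinearEquiv.refl F B) : (A × B) ≃ₗ[F] (A × B)) : (A × B) →ₗ[F] (A × B)) =
      LinearMap.prodMap (g : A →ₗ[F] A) LinearMap.id := rfl
  rw [h2, LinearMap.det_prodMap, LinearMap.det_id, mul_one]

theorem det_L2 {A B V : Type*} [AddCommGroup A] [Module F A] [AddCommGroup B] [Module F B]
    [AddCommGroup V] [Module F V] [FiniteDimensional F A] [FiniteDimensional F B] [FiniteDimensional F V]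
    (Φ : (A × B) ≃ₗ[F] V) (g : B ≃ₗ[F] B) : LinearEquiv.det (L2 Φ g) = LinearEquiv.det g := by
  have h1 : L2 Φ g = (Φ.symm.trans ((LinearEquiv.refl F A).prodCongr g)).trans Φ := rfl
  rw [h1, LinearEquiv.det_conj, ← Units.val_inj, LinearEquiv.coe_det, LinearEquiv.coe_det]
  have h2 : (((LinearEquiv.refl F A).prodCongr g : (A × B) ≃ₗ[F] (A × B)) : (A × B) →ₗ[F] (A × B)) =
      LinearMap.prodMap LinearMap.id (g : B →ₗ[F] B) := rfl
  rw [h2, LinearMap.det_prodMap, LinearMap.det_id, one_mul]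

/-- a cyclic isometry of determinant one -/
theorem exists_t (P : Par σ ζ) {k : ℕ} (hk : 1 ≤ k) : ∃ t ∈ SU (sf σ ζ (Fin k)),
    ∀ W : Submodule F (Fin k → F), Pi.single (⟨0, hk⟩ : Fin k) 1 ∈ W → (∀ y ∈ W, t y ∈ W) → W = ⊤ := by
  obtain ⟨k, rfl⟩ : ∃ j, k = j + 1 := ⟨k - 1, by omega⟩
  set e : Equiv.Perm (Fin (k + 1)) := (finRotate (k + 1)).symm with he
  set δ : F := (((Equiv.Perm.sign e : ℤˣ) : ℤ) : F) with hδ
  have hδ2 : δ = 1 ∨ δ = -1 := by
    rcases Int.units_eq_one_or (Equiv.Perm.sign e) with h | h <;> rw [hδ, h] <;> simp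
  have hδδ : δ * δ = 1 := by rcases hδ2 with h | h <;> rw [h] <;> simp
  have hσδ : σ δ = δ := by rcases hδ2 with h | h <;> rw [h] <;> simp
  set d : Fin (k + 1) → F := fun i => if i = 0 then δ else 1 with hd
  have hdd : ∀ i, d i * σ (d i) = 1 := by
    intro i
    by_cases hi : i = 0
    · simp [hd, hi, hσδ, hδδ]
    · simp [hd, hi]
  have hd0 : ∀ i, d i ≠ 0 := fun i h => by
    have := hdd i
    rw [h, zero_mul] at this
    exact zero_ne_one this
  have hprod : ∏ i, d i = δ := by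
    simp [hd, Finset.prod_ite_eq']
  set M : Matrix (Fin (k + 1)) (Fin (k + 1)) F := e.permMatrix F * Matrix.diagonal d with hM
  have hdet : M.det = 1 := by
    rw [hM, Matrix.det_mul, Matrix.det_permutation, Matrix.det_diagonal, hprod]
    exact hδδ
  set T : Matrix.SpecialLinearGroup (Fin (k + 1)) F := ⟨M, hdet⟩ with hT
  have hact : ∀ y i, Matrix.SpecialLinearGroup.toLin' T y i = d (e i) * y (e i) := by
    intro y i
    rw [Matrix.SpecialLinearGroup.toLin'_apply, Matrix.toLin'_apply]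
    show (M.mulVec y) i = _
    rw [hM, ← Matrix.mulVec_mulVec, Matrix.permMatrix_mulVec, Function.comp_apply, Matrix.mulVec_diagonal]
  refine ⟨Matrix.SpecialLinearGroup.toLin' T, ?_, ?_⟩
  · rw [mem_SU]
    constructor
    · intro x y
      rw [sf_apply, sf_apply]
      congr 1
      rw [← Equiv.sum_comp e (fun i => x i * σ (y i))]
      apply Finset.sum_congr rfl
      intro i _
      rw [hact, hact, map_mul]
      linear_combination (x (e i) * σ (y (e i))) * hdd (e i)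
    · rw [← Units.val_inj, LinearEquiv.coe_det, Matrix.SpecialLinearGroup.toLin'_to_linearMap, LinearMap.det_toLin']
      exact hdet
  · intro W h0 hW
    have key : ∀ j (hj : j < k + 1), Pi.single (⟨j, hj⟩ : Fin (k + 1)) (1 : F) ∈ W := by
      intro j
      induction j with
      | zero => intro hj; exact h0
      | succ j ih =>
        intro hj
        have h1 := hW _ (ih (by omega))
        have h2 : Matrix.SpecialLinearGroup.toLin' T (Pi.single (⟨j, by omega⟩ : Fin (k + 1)) (1 : F)) =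
            d ⟨j, by omega⟩ • Pi.single (⟨j + 1, hj⟩ : Fin (k + 1)) (1 : F) := by
          funext i
          rw [hact, Pi.smul_apply, smul_eq_mul]
          have h3 : finRotate (k + 1) (⟨j, by omega⟩ : Fin (k + 1)) = ⟨j + 1, hj⟩ := by
            apply Fin.ext
            exact coe_finRotate_of_ne_last (by intro h; have := congrArg Fin.val h; simp at this; omega)
          by_cases hi : i = ⟨j + 1, hj⟩
          · have h4 : e i = ⟨j, by omega⟩ := by rw [he, hi, Equiv.symm_apply_eq, h3]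
            rw [h4, hi, Pi.single_eq_same, Pi.single_eq_same]
          · have h4 : e i ≠ ⟨j, by omega⟩ := by
              rw [he, Ne, Equiv.symm_apply_eq, h3]; exact hi
            rw [Pi.single_eq_of_ne h4, Pi.single_eq_of_ne hi, mul_zero, mul_zero]
        rw [h2] at h1
        have h3 := W.smul_mem (d ⟨j, by omega⟩)⁻¹ h1
        rwa [smul_smul, inv_mul_cancel₀ (hd0 _), one_smul] at h3
    rw [eq_top_iff]
    intro y _
    rw [pi_eq_sum_univ' y]
    apply W.sum_mem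
    intro i _
    apply W.smul_mem
    have := key i.1 i.2
    convert this using 1

/-- isotropic vectors span -/
theorem span3 (P : Par σ ζ) (a : Fin 3 → F) (ha : a ≠ 0) : ∃ e, sf σ ζ (Fin 3) e e = 0 ∧ sf σ ζ (Fin 3) a e ≠ 0 := by
  obtain ⟨θ, hθ⟩ := P.norm (-1) (by simp)
  obtain ⟨x, hx⟩ := P.ne
  have hx0 : x ≠ 0 := by rintro rfl; exact hx (map_zero _)
  have hσx0 : σ x ≠ 0 := fun h => hx0 (by rw [← P.inv x, h, map_zero])
  have hθ' : (θ * (x / σ x)) * σ (θ * (x / σ x)) = -1 := by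
    rw [map_mul, map_div₀, P.inv]
    field_simp
    exact hθ
  have hσθ : σ θ ≠ 0 := by
    intro h
    rw [h, mul_zero] at hθ
    have : (1 : F) = 0 := by linear_combination hθ
    exact one_ne_zero this
  have hne : σ θ ≠ σ (θ * (x / σ x)) := by
    intro h
    rw [map_mul] at h
    have h1 : σ (x / σ x) = 1 := by
      apply mul_left_cancel₀ hσθ
      rw [← h, mul_one]
    rw [map_div₀, P.inv, div_eq_one_iff_eq hx0] at h1
    exact hx h1
  by_contra hcon
  push Not at hcon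
  have key1 : ∀ θ : F, θ * σ θ = -1 → a 0 + a 1 * σ θ = 0 := by
    intro θ hθ
    have h1 := hcon ![1, θ, 0] (by
      rw [sf_apply, Fin.sum_univ_three]
      simp [hθ])
    rw [sf_apply, Fin.sum_univ_three] at h1
    have := (mul_eq_zero.1 h1).resolve_left P.z0
    simpa using this
  have key2 : ∀ θ : F, θ * σ θ = -1 → a 2 + a 1 * σ θ = 0 := by
    intro θ hθ
    have h1 := hcon ![0, θ, 1] (by
      rw [sf_apply, Fin.sum_univ_three]
      simp [hθ])
    rw [sf_apply, Fin.sum_univ_three] at h1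
    have := (mul_eq_zero.1 h1).resolve_left P.z0
    simp at this
    linear_combination this
  have h1 : a 1 = 0 := by
    have e1 := key1 _ hθ
    have e2 := key1 _ hθ'
    have e3 : a 1 * (σ θ - σ (θ * (x / σ x))) = 0 := by linear_combination e1 - e2
    exact (mul_eq_zero.1 e3).resolve_right (sub_ne_zero.2 hne)
  have h0 := key1 _ hθ
  have h2 := key2 _ hθ
  rw [h1, zero_mul, add_zero] at h0 h2
  apply ha
  funext i
  fin_cases i
  · exact h0
  · exact h1
  · exact h2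

theorem sieg_mem_SU {V : Type*} [AddCommGroup V] [Module F V] [FiniteDimensional F V]
    {h : V →ₗ[F] V →ₛₗ[σ] F} (H : IsSkew h) {v w : V} {a : F} (hg : Good h v w a) : sieg h v w a ∈ SU h := by
  have : sieg h v w a = Eg h v w a := by
    apply LinearEquiv.ext
    intro x
    rw [sieg_apply hg, Eg_apply H hg.1 hg.2.1 hg.2.2.2]
    abel
  rw [this]
  exact Eg_mem H v w a

/-- the generation theorem -/
theorem main (P : Par σ ζ) [Fintype F] {k : ℕ} (hk : 1 ≤ k) (u s : (Fin 3 → F) ≃ₗ[F] (Fin 3 → F))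
    (hu : u ∈ SU (sf σ ζ (Fin 3))) (hs : s ∈ SU (sf σ ζ (Fin 3))) (e : Fin 3 → F) (he0 : e ≠ 0)
    (hee : sf σ ζ (Fin 3) e e = 0) (hfix : (s * u * s⁻¹) e = e)
    (hgen : ∀ M3 : Subgroup ((Fin 3 → F) ≃ₗ[F] (Fin 3 → F)), u ∈ M3 → s * u * s⁻¹ ∈ M3 →
      ∀ v c, sf σ ζ (Fin 3) v v = 0 → σ c = c → rf (sf σ ζ (Fin 3)) v c ∈ M3) :
    ∃ a ∈ SU (sf σ ζ (Fin (3 + k))), ∃ b ∈ SU (sf σ ζ (Fin (3 + k))),
      ∀ M : Subgroup ((Fin (3 + k) → F) ≃ₗ[F] (Fin (3 + k) → F)), a ∈ M → b ∈ M → SU (sf σ ζ (Fin (3 + k))) ≤ M := by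
  have H3 := P.skew (Fin 3)
  have H' := P.skew (Fin k)
  have H := P.skew (Fin (3 + k))
  have hS := H57.PolarSU.toSk H
  have hD := dec (F := F) (σ := σ) (ζ := ζ) k
  obtain ⟨t, ht, hcyc⟩ := exists_t P hk
  set w : Fin k → F := Pi.single (⟨0, hk⟩ : Fin k) 1 with hw
  obtain ⟨α, hα⟩ := exists_sub_conj H' (H'.self w)
  have hgz := hD.good hee hα
  set z := sieg (sf σ ζ (Fin (3 + k))) (Φ F k (e, 0)) (Φ F k (0, w)) α with hz
  have hL1 : ∀ g ∈ SU (sf σ ζ (Fin 3)), L1 (Φ F k) g ∈ SU (sf σ ζ (Fin (3 + k))) := by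
    intro g hg
    rw [mem_SU] at hg ⊢
    exact ⟨hD.L1_mem hg.1, by rw [det_L1]; exact hg.2⟩
  have hL2 : L2 (Φ F k) t ∈ SU (sf σ ζ (Fin (3 + k))) := by
    rw [mem_SU] at ht ⊢
    exact ⟨hD.L2_mem ht.1, by rw [det_L2]; exact ht.2⟩
  refine ⟨L1 (Φ F k) u, hL1 u hu, z * (L1 (Φ F k) s * L2 (Φ F k) t),
    (SU _).mul_mem (sieg_mem_SU H hgz) ((SU _).mul_mem (hL1 s hs) hL2), ?_⟩
  intro M ha hb
  -- the second generator of the small group
  have hv : L1 (Φ F k) (s * u * s⁻¹) ∈ M := by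
    have h1 := M.mul_mem (M.mul_mem hb ha) (M.inv_mem hb)
    have hcomm : L1 (Φ F k) (s * u * s⁻¹) * z * (L1 (Φ F k) (s * u * s⁻¹))⁻¹ = z := by
      rw [hz, sieg_conj (hD.L1_mem ((isom _).mul_mem ((isom _).mul_mem hs.1 hu.1) ((isom _).inv_mem hs.1))), L1_apply,
        L1_apply, hfix, map_zero]
    have h2 : z * (L1 (Φ F k) s * L2 (Φ F k) t) * L1 (Φ F k) u * (z * (L1 (Φ F k) s * L2 (Φ F k) t))⁻¹ =
        L1 (Φ F k) (s * u * s⁻¹) := by
      have h3 : L1 (Φ F k) s * L2 (Φ F k) t * L1 (Φ F k) u * (L1 (Φ F k) s * L2 (Φ F k) t)⁻¹ =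
          L1 (Φ F k) (s * u * s⁻¹) := by
        rw [map_mul, map_mul, map_inv]
        calc _ = L1 (Φ F k) s * (L2 (Φ F k) t * L1 (Φ F k) u) * (L1 (Φ F k) s * L2 (Φ F k) t)⁻¹ := by group
          _ = L1 (Φ F k) s * (L1 (Φ F k) u * L2 (Φ F k) t) * (L1 (Φ F k) s * L2 (Φ F k) t)⁻¹ := by
            rw [L12_comm (Φ F k) u t]
          _ = _ := by group
      calc _ = z * (L1 (Φ F k) s * L2 (Φ F k) t * L1 (Φ F k) u * (L1 (Φ F k) s * L2 (Φ F k) t)⁻¹) * z⁻¹ := by group
        _ = z * L1 (Φ F k) (s * u * s⁻¹) * z⁻¹ := by rw [h3]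
        _ = _ := by
          have h5 := hcomm
          rw [mul_inv_eq_iff_eq_mul] at h5
          rw [← h5, mul_assoc, mul_inv_cancel, mul_one]
    rwa [h2] at h1
  have hT := hgen (M.comap (L1 (Φ F k))) ha hv
  apply H6.SUGenB.SU_le_of_tr H (by rw [Module.finrank_fin_fun]; omega) (Or.inl (by rw [Module.finrank_fin_fun]; omega))
  intro v hv0 c hc
  exact SUTwoA.gen hS H3 H' hD (by rw [Module.finrank_fin_fun]) (span3 P) M hT s hs.1 t ht.1 e he0 hee w α hα hb hcyc
    v c hv0 hc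

end H43.SUTwoB
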