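import Mathlib
import Cfsg.Agent.Lib.H43.SUTwoB

/-!
Two-generation of unitary groups: `q = 2`, and the final statement.
-/
set_option autoImplicit false

namespace H43.SUTwoC

open Module H95.UBasic H57.Polar H43.SUTwoA H43.SUTwoB

variable {F : Type*} [Field F]

section q2

variable [Fintype F] {σ : F →+* F} {ζ : F}

/-- the data for `q = 2` -/
theorem data_two (P : Par σ ζ) (hF : Fintype.card F = 4) (hσ : ∀ a, σ a = a ^ 2) :
    ∃ u ∈ SU (sf σ ζ (Fin 3)), ∃ s ∈ SU (sf σ ζ (Fin 3)), ∃ e : Fin 3 → F, e ≠ 0 ∧ sf σ ζ (Fin 3) e e = 0 ∧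
      (s * u * s⁻¹) e = e ∧ ∀ M3 : Subgroup ((Fin 3 → F) ≃ₗ[F] (Fin 3 → F)), u ∈ M3 → s * u * s⁻¹ ∈ M3 →
      ∀ v c, sf σ ζ (Fin 3) v v = 0 → σ c = c → rf (sf σ ζ (Fin 3)) v c ∈ M3 := by
  have H3 := P.skew (Fin 3)
  have hS := H57.PolarSU.toSk H3
  have h2 : (2 : F) = 0 := by
    have h4 : ((4 : ℕ) : F) = 0 := by
      rw [← hF]; exact Nat.cast_card_eq_zero F
    have h5 : (2 : F) * 2 = 0 := by
      have : ((4 : ℕ) : F) = (2 : F) * 2 := by norm_num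
      rw [← this]; exact h4
    rcases mul_eq_zero.1 h5 with h | h <;> exact h
  have hz : ζ = 1 := by
    have h3 := P.σz
    rw [hσ] at h3
    have h4 : ζ * (ζ - 1) = 0 := by linear_combination h3 - ζ * h2
    exact sub_eq_zero.1 ((mul_eq_zero.1 h4).resolve_left P.z0)
  subst hz
  have hcube : ∀ a : F, a ≠ 0 → a ^ 3 = 1 := by
    intro a ha
    have := FiniteField.pow_card_sub_one_eq_one a ha
    rwa [hF] at this
  obtain ⟨ω, hω⟩ := P.ne
  have hω0 : ω ≠ 0 := by rintro rfl; exact hω (map_zero _)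
  have hω1 : ω - 1 ≠ 0 := by
    intro h
    have : ω = 1 := sub_eq_zero.1 h
    rw [this] at hω; exact hω (map_one _)
  have hω2 : ω ^ 2 + ω + 1 = 0 := by
    have h3 := hcube ω hω0
    have h4 : (ω - 1) * (ω ^ 2 + ω + 1) = 0 := by linear_combination h3
    exact (mul_eq_zero.1 h4).resolve_left hω1
  set h := sf σ (1 : F) (Fin 3) with hh
  have hap : ∀ x y : Fin 3 → F, h x y = x 0 * (y 0) ^ 2 + x 1 * (y 1) ^ 2 + x 2 * (y 2) ^ 2 := by
    intro x y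
    rw [hh, sf_apply, Fin.sum_univ_three, hσ, hσ, hσ, one_mul]
  have g1 : Good h ![0, 1, 1] ![1, 0, 0] ω := by
    refine ⟨?_, ?_, ?_, ?_⟩
    · rw [hap]; simp; linear_combination h2
    · rw [hap]; simp
    · rw [hap]; simp
    · rw [hap, hσ]; simp; linear_combination ω * h2 - hω2
  have g0 : Good h ![1, 1, 0] ![0, 0, 1] ω := by
    refine ⟨?_, ?_, ?_, ?_⟩
    · rw [hap]; simp; linear_combination h2
    · rw [hap]; simp
    · rw [hap]; simp
    · rw [hap, hσ]; simp; linear_combination ω * h2 - hω2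
  set T : Matrix.SpecialLinearGroup (Fin 3) F := ⟨!![0, 1, 0; 0, 0, 1; 1, 0, 0], by
    rw [Matrix.det_fin_three]; simp⟩ with hT
  set s : (Fin 3 → F) ≃ₗ[F] (Fin 3 → F) := Matrix.SpecialLinearGroup.toLin' T with hs
  have hsa : ∀ x, s x = ![x 1, x 2, x 0] := by
    intro x
    rw [hs, Matrix.SpecialLinearGroup.toLin'_apply, Matrix.toLin'_apply]
    show !![0, 1, 0; 0, 0, 1; 1, 0, 0].mulVec x = _
    funext i
    fin_cases i <;> simp [Matrix.mulVec, dotProduct, Fin.sum_univ_three]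
  have hsI : s ∈ isom h := by
    intro x y
    rw [hsa, hsa, hap, hap]
    simp
    ring
  have hsS : s ∈ SU h := by
    rw [mem_SU]
    refine ⟨hsI, ?_⟩
    rw [← Units.val_inj, LinearEquiv.coe_det, Matrix.SpecialLinearGroup.toLin'_to_linearMap, LinearMap.det_toLin']
    exact T.2
  have hconj : s * sieg h ![0, 1, 1] ![1, 0, 0] ω * s⁻¹ = sieg h ![1, 1, 0] ![0, 0, 1] ω := by
    rw [sieg_conj hsI, hsa, hsa]
    congr 1
  refine ⟨sieg h ![0, 1, 1] ![1, 0, 0] ω, sieg_mem_SU H3 g1, s, hsS, ![1, 1, 0], ?_, g0.1, ?_, ?_⟩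
  · intro h0
    have := congrFun h0 0
    simp at this
  · rw [hconj, sieg_apply g0, hap, hap]
    have h11 : (1 : F) + 1 = 0 := by linear_combination h2
    simp [h11]
  rw [hconj]
  intro M3 hu hv
  have hconj' : ∀ g ∈ M3, g ∈ isom h → ∀ x, rf h x 1 ∈ M3 → rf h (g x) 1 ∈ M3 := by
    intro g hg hgi x hx
    rw [← rf_conj x 1 g hgi]
    exact M3.mul_mem (M3.mul_mem hg hx) (M3.inv_mem hg)
  have hscale : ∀ (l : F) (x : Fin 3 → F), l ≠ 0 → rf h x 1 ∈ M3 → rf h (l • x) 1 ∈ M3 := by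
    intro l x hl hx
    have : l * l ^ 2 = 1 := by rw [← hcube l hl]; ring
    rw [rf_smul H3, hσ, this, mul_one]
    exact hx
  have sq : ∀ e w : Fin 3 → F, Good h e w ω → h w w = 1 → sieg h e w ω ∈ M3 → rf h e 1 ∈ M3 := by
    intro e w hg hw hm
    have h3 := M3.mul_mem hm hm
    rw [sieg_mul hS hg hg] at h3
    have e1 : w + w = 0 := by
      rw [← two_smul F w, h2, zero_smul]
    have e2 : ω + ω + h w w = 1 := by rw [hw]; linear_combination ω * h2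
    rw [e1, e2, sieg_zero_eq hg.1 (map_one _)] at h3
    exact h3
  have R1 : rf h ![0, 1, 1] 1 ∈ M3 := sq _ _ g1 (by rw [hap]; simp) hu
  have R0 : rf h ![1, 1, 0] 1 ∈ M3 := sq _ _ g0 (by rw [hap]; simp) hv
  have s0 : ∀ x : Fin 3 → F, rf h ![1, 1, 0] 1 x = ![x 1, x 0, x 2] := by
    intro x
    rw [rf_apply (tr_good g0.1 (map_one _)), hap]
    funext i
    fin_cases i
    · simp; linear_combination x 0 * h2
    · simp; linear_combination x 1 * h2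
    · simp
  have s1 : ∀ x : Fin 3 → F, rf h ![0, 1, 1] 1 x = ![x 0, x 2, x 1] := by
    intro x
    rw [rf_apply (tr_good g1.1 (map_one _)), hap]
    funext i
    fin_cases i
    · simp
    · simp; linear_combination x 1 * h2
    · simp; linear_combination x 2 * h2
  have c0 : ∀ a b c : F, rf h ![a, b, c] 1 ∈ M3 → rf h ![b, a, c] 1 ∈ M3 := by
    intro a b c hx
    have := hconj' _ R0 (rf_mem H3 _ _) _ hx
    rw [s0] at this
    simpa using this
  have c1 : ∀ a b c : F, rf h ![a, b, c] 1 ∈ M3 → rf h ![a, c, b] 1 ∈ M3 := by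
    intro a b c hx
    have := hconj' _ R1 (rf_mem H3 _ _) _ hx
    rw [s1] at this
    simpa using this
  have sc : ∀ l a b c : F, l ≠ 0 → rf h ![a, b, c] 1 ∈ M3 → rf h ![l * a, l * b, l * c] 1 ∈ M3 := by
    intro l a b c hl hx
    have := hscale l _ hl hx
    simpa using this
  have k1 : rf h ![1 + ω, ω, 0] 1 ∈ M3 := by
    have h3 := hconj' _ hv (sieg_isom hS _ _ _) _ R1
    rw [sieg_apply g0, hap, hap] at h3
    have e1 : (![0, 1, 1] : Fin 3 → F) + ((![0, 1, 1] : Fin 3 → F) 0 * (![1, 1, 0] : Fin 3 → F) 0 ^ 2 +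
        (![0, 1, 1] : Fin 3 → F) 1 * (![1, 1, 0] : Fin 3 → F) 1 ^ 2 + (![0, 1, 1] : Fin 3 → F) 2 * (![1, 1, 0] : Fin 3 → F) 2 ^ 2) • ![0, 0, 1] +
        ((![0, 1, 1] : Fin 3 → F) 0 * (![0, 0, 1] : Fin 3 → F) 0 ^ 2 + (![0, 1, 1] : Fin 3 → F) 1 * (![0, 0, 1] : Fin 3 → F) 1 ^ 2 +
        (![0, 1, 1] : Fin 3 → F) 2 * (![0, 0, 1] : Fin 3 → F) 2 ^ 2) • ![1, 1, 0] +
        (ω * ((![0, 1, 1] : Fin 3 → F) 0 * (![1, 1, 0] : Fin 3 → F) 0 ^ 2 +
        (![0, 1, 1] : Fin 3 → F) 1 * (![1, 1, 0] : Fin 3 → F) 1 ^ 2 + (![0, 1, 1] : Fin 3 → F) 2 * (![1, 1, 0] : Fin 3 → F) 2 ^ 2)) • ![1, 1, 0] =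
        ![1 + ω, ω, 0] := by
      funext i
      fin_cases i
      · simp
      · simp; linear_combination h2
      · simp; linear_combination h2
    rwa [e1] at h3
  have k2 : rf h ![1, ω ^ 2, 0] 1 ∈ M3 := by
    have h3 := sc ω _ _ _ hω0 k1
    have e1 : ω * (1 + ω) = 1 := by linear_combination hω2 - h2
    have e2 : ω * ω = ω ^ 2 := by ring
    rwa [e1, e2, mul_zero] at h3
  have k3 : rf h ![1, ω, 0] 1 ∈ M3 := by
    have h3 := sc ω _ _ _ hω0 (c0 _ _ _ k2)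
    have e1 : ω * ω ^ 2 = 1 := by rw [← hcube ω hω0]; ring
    rwa [e1, mul_one, mul_zero] at h3
  have k4 : ∀ l : F, l ≠ 0 → rf h ![1, l, 0] 1 ∈ M3 := by
    intro l hl
    have h3 : (l - 1) * ((l - ω) * (l - ω ^ 2)) = 0 := by
      have h4 := hcube l hl
      have h5 := hcube ω hω0
      linear_combination h4 + (-l ^ 2 + l) * hω2 + (l - 1) * h5
    rcases mul_eq_zero.1 h3 with h4 | h4
    · rw [sub_eq_zero.1 h4]; exact R0
    · rcases mul_eq_zero.1 h4 with h5 | h5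
      · rw [sub_eq_zero.1 h5]; exact k3
      · rw [sub_eq_zero.1 h5]; exact k2
  have k5 : ∀ a b : F, a ≠ 0 → b ≠ 0 → rf h ![a, b, 0] 1 ∈ M3 := by
    intro a b ha hb
    have h3 := sc a _ _ _ ha (k4 (b / a) (div_ne_zero hb ha))
    rwa [mul_one, mul_div_cancel₀ _ ha, mul_zero] at h3
  have k6 : ∀ a b c : F, (a = 0 ∧ b ≠ 0 ∧ c ≠ 0) ∨ (a ≠ 0 ∧ b = 0 ∧ c ≠ 0) ∨ (a ≠ 0 ∧ b ≠ 0 ∧ c = 0) →
      rf h ![a, b, c] 1 ∈ M3 := by
    rintro a b c (⟨rfl, hb, hc⟩ | ⟨ha, rfl, hc⟩ | ⟨ha, hb, rfl⟩)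
    · exact c0 _ _ _ (c1 _ _ _ (k5 b c hb hc))
    · exact c1 _ _ _ (k5 a c ha hc)
    · exact k5 a b ha hb
  intro v c hvv hc
  have hc' : c = 0 ∨ c = 1 := by
    rw [hσ] at hc
    have : c * (c - 1) = 0 := by linear_combination hc
    rcases mul_eq_zero.1 this with h | h
    · exact Or.inl h
    · exact Or.inr (sub_eq_zero.1 h)
  rcases hc' with rfl | rfl
  · rw [rf_zero]; exact M3.one_mem
  have hv3 : v = ![v 0, v 1, v 2] := by funext i; fin_cases i <;> rfl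
  rw [hv3]
  rw [hap] at hvv
  have e3 : v 0 ^ 3 + v 1 ^ 3 + v 2 ^ 3 = 0 := by linear_combination hvv
  by_cases a0 : v 0 = 0
  · by_cases a1 : v 1 = 0
    · by_cases a2 : v 2 = 0
      · rw [a0, a1, a2]
        have : (![0, 0, 0] : Fin 3 → F) = (0 : F) • ![0, 1, 1] := by
          funext i; fin_cases i <;> simp
        rw [this, rf_smul H3, map_zero, mul_zero, mul_zero, rf_zero]
        exact M3.one_mem
      · exfalso
        rw [a0, a1, hcube _ a2] at e3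
        simp at e3
    · by_cases a2 : v 2 = 0
      · exfalso
        rw [a0, a2, hcube _ a1] at e3
        simp at e3
      · exact k6 _ _ _ (Or.inl ⟨a0, a1, a2⟩)
  · by_cases a1 : v 1 = 0
    · by_cases a2 : v 2 = 0
      · exfalso
        rw [a1, a2, hcube _ a0] at e3
        simp at e3
      · exact k6 _ _ _ (Or.inr (Or.inl ⟨a0, a1, a2⟩))
    · by_cases a2 : v 2 = 0
      · exact k6 _ _ _ (Or.inr (Or.inr ⟨a0, a1, a2⟩))
      · exfalso
        rw [hcube _ a0, hcube _ a1, hcube _ a2] at e3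
        have : (1 : F) = 0 := by linear_combination e3 - h2
        exact one_ne_zero this

end q2

section fin

variable [Fintype F] {q : ℕ}

/-- the pack of data -/
noncomputable def dat {σ : F →+* F} {ζ : F} (P : Par σ ζ) (hσ : ∀ a, σ a = a ^ q) (n : ℕ) : H6.SUGenC.Data n F q where
  σ := σ
  h := sf σ ζ (Fin n)
  ζ := ζ
  skew := P.skew (Fin n)
  ζ0 := P.z0
  σ_eq := hσ
  σζ := P.σz
  h_eq := by
    intro u v
    rw [sf_apply, Cfsg.hermForm]
    simp only [hσ]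

theorem exists_par (hF : Fintype.card F = q ^ 2) : ∃ (σ : F →+* F) (ζ : F), Par σ ζ ∧ ∀ a, σ a = a ^ q := by
  obtain ⟨D⟩ := H6.SUGenC.exists_data (F := F) 3 hF
  exact ⟨D.σ, D.ζ, ⟨D.skew.inv, D.skew.ne, D.skew.norm, D.ζ0, D.σζ⟩, D.σ_eq⟩

/-- the data for `q ≥ 3` -/
theorem data_ge {σ : F →+* F} {ζ : F} (P : Par σ ζ) (hσ : ∀ a, σ a = a ^ q) (hF : Fintype.card F = q ^ 2) (hq : 3 ≤ q) :
    ∃ u ∈ SU (sf σ ζ (Fin 3)), ∃ s ∈ SU (sf σ ζ (Fin 3)), ∃ e : Fin 3 → F, e ≠ 0 ∧ sf σ ζ (Fin 3) e e = 0 ∧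
      (s * u * s⁻¹) e = e ∧ ∀ M3 : Subgroup ((Fin 3 → F) ≃ₗ[F] (Fin 3 → F)), u ∈ M3 → s * u * s⁻¹ ∈ M3 →
      ∀ v c, sf σ ζ (Fin 3) v v = 0 → σ c = c → rf (sf σ ζ (Fin 3)) v c ∈ M3 := by
  have H3 := P.skew (Fin 3)
  obtain ⟨U, g, ⟨hnil, hne⟩, hcl⟩ := H43.SU3.main (K := F) hq hF
  set D := dat P hσ 3 with hD
  set N : Matrix (Fin 3) (Fin 3) F := ((U : Matrix.SpecialLinearGroup (Fin 3) F) : Matrix (Fin 3) (Fin 3) F) - 1 with hN
  have hNz : ∃ k, N ^ k = 0 := hnil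
  classical
  obtain ⟨k, hk1, hk2⟩ : ∃ k, N ^ (k + 2) ≠ 0 ∧ N ^ (k + 3) = 0 := by
    have h1 := Nat.find_spec hNz
    have h2 : 3 ≤ Nat.find hNz := by
      by_contra hcon
      push Not at hcon
      have : N ^ 2 = 0 := by
        rw [show 2 = Nat.find hNz + (2 - Nat.find hNz) by omega, pow_add, h1, zero_mul]
      exact hne this
    refine ⟨Nat.find hNz - 3, ?_, ?_⟩
    · have := Nat.find_min hNz (m := Nat.find hNz - 3 + 2) (by omega)
      exact this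
    · rw [show Nat.find hNz - 3 + 3 = Nat.find hNz by omega]; exact h1
  obtain ⟨x, hx⟩ : ∃ x, (N ^ (k + 2)).mulVec x ≠ 0 := by
    by_contra hcon
    push Not at hcon
    apply hk1
    ext i j
    have := congrFun (hcon (Pi.single j 1)) i
    rw [Matrix.mulVec_single_one] at this
    exact this
  set e0 := (N ^ (k + 2)).mulVec x with he0
  set y := (N ^ (k + 1)).mulVec x with hy
  have hUact : ∀ v, H6.SUGenC.emb 3 F q U v = v + N.mulVec v := by
    intro v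
    rw [H6.SUGenC.emb_apply, hN, Matrix.sub_mulVec, Matrix.one_mulVec]
    abel
  have hNy : N.mulVec y = e0 := by
    rw [hy, he0, Matrix.mulVec_mulVec, ← pow_succ']
  have hNe : N.mulVec e0 = 0 := by
    rw [he0, Matrix.mulVec_mulVec, ← pow_succ', hk2, Matrix.zero_mulVec]
  have hu : H6.SUGenC.emb 3 F q U ∈ SU (sf σ ζ (Fin 3)) := H6.SUGenC.emb_mem D U
  have hs : H6.SUGenC.emb 3 F q g ∈ SU (sf σ ζ (Fin 3)) := H6.SUGenC.emb_mem D g
  have hue : H6.SUGenC.emb 3 F q U e0 = e0 := by rw [hUact, hNe, add_zero]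
  have hiso : sf σ ζ (Fin 3) e0 e0 = 0 := by
    have h1 := hu.1 y e0
    rw [hue, hUact, hNy, map_add, LinearMap.add_apply] at h1
    exact left_eq_add.1 h1.symm
  refine ⟨_, hu, _, hs, H6.SUGenC.emb 3 F q g e0, ?_, ?_, ?_, ?_⟩
  · intro h0
    apply hx
    exact (H6.SUGenC.emb 3 F q g).injective (by rw [h0, map_zero])
  · rw [hs.1]; exact hiso
  · rw [LinearEquiv.mul_apply, LinearEquiv.mul_apply]
    have h1 : (H6.SUGenC.emb 3 F q g)⁻¹ (H6.SUGenC.emb 3 F q g e0) = e0 := (H6.SUGenC.emb 3 F q g).symm_apply_apply e0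
    rw [h1, hue]
  · intro M3 h1 h2 v c hv hc
    obtain ⟨A, hA⟩ := H6.SUGenC.exists_emb D (tr_mem_SU H3 hv hc)
    change H6.SUGenC.emb 3 F q A = rf (sf σ ζ (Fin 3)) v c at hA
    rw [← hA]
    have h3 : Subgroup.closure ({U, g * U * g⁻¹} : Set ↥(Cfsg.SU 3 F q)) ≤ M3.comap (H6.SUGenC.emb 3 F q) := by
      rw [Subgroup.closure_le]
      intro z hz
      rcases hz with rfl | hz
      · exact h1
      · rw [Set.mem_singleton_iff.1 hz]
        show H6.SUGenC.emb 3 F q (g * U * g⁻¹) ∈ M3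
        rw [map_mul, map_mul, map_inv]
        exact h2
    rw [hcl] at h3
    exact h3 trivial

theorem SU_two_gen (hF : Fintype.card F = q ^ 2) (n : ℕ) (hn : 3 ≤ n) (h32 : n = 3 → q ≠ 2) :
    ∃ a b : Cfsg.SU n F q, Subgroup.closure ({a, b} : Set (Cfsg.SU n F q)) = ⊤ := by
  have hq2 := H44.UField.two_le hF
  by_cases hn3 : n = 3
  · subst hn3
    obtain ⟨U, g, -, hcl⟩ := H43.SU3.main (K := F) (by have := h32 rfl; omega) hF
    exact ⟨U, g * U * g⁻¹, hcl⟩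
  obtain ⟨k, rfl⟩ : ∃ k, n = 3 + k := ⟨n - 3, by omega⟩
  have hk : 1 ≤ k := by omega
  obtain ⟨σ, ζ, P, hσ⟩ := exists_par hF
  obtain ⟨u, hu, s, hs, e, he0, hee, hfix, hgen⟩ : ∃ u ∈ SU (sf σ ζ (Fin 3)), ∃ s ∈ SU (sf σ ζ (Fin 3)),
      ∃ e : Fin 3 → F, e ≠ 0 ∧ sf σ ζ (Fin 3) e e = 0 ∧
      (s * u * s⁻¹) e = e ∧ ∀ M3 : Subgroup ((Fin 3 → F) ≃ₗ[F] (Fin 3 → F)), u ∈ M3 → s * u * s⁻¹ ∈ M3 →
      ∀ v c, sf σ ζ (Fin 3) v v = 0 → σ c = c → rf (sf σ ζ (Fin 3)) v c ∈ M3 := by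
    by_cases h2 : q = 2
    · subst h2
      exact data_two P (by rw [hF]; norm_num) hσ
    · exact data_ge P hσ hF (by omega)
  obtain ⟨a, ha, b, hb, hab⟩ := SUTwoB.main P hk u s hu hs e he0 hee hfix hgen
  set D := dat P hσ (3 + k) with hD
  obtain ⟨A, hA⟩ := H6.SUGenC.exists_emb D ha
  obtain ⟨B, hB⟩ := H6.SUGenC.exists_emb D hb
  refine ⟨A, B, ?_⟩
  set C := Subgroup.closure ({A, B} : Set (Cfsg.SU (3 + k) F q)) with hC
  have h1 := hab (C.map (H6.SUGenC.emb (3 + k) F q)) (by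
    rw [← hA]; exact Subgroup.mem_map_of_mem _ (Subgroup.subset_closure (by simp))) (by
    rw [← hB]; exact Subgroup.mem_map_of_mem _ (Subgroup.subset_closure (by simp)))
  rw [eq_top_iff]
  intro g _
  obtain ⟨g', hg', h2⟩ := h1 (H6.SUGenC.emb_mem D g)
  rwa [← H6.SUGenC.emb_injective (3 + k) F q h2]

end fin

/-- quotients of two-generated groups -/
theorem two_gen_quot {G G' : Type*} [Group G] [Group G'] (f : G →* G') (hf : Function.Surjective f)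
    (h : ∃ a b : G, Subgroup.closure ({a, b} : Set G) = ⊤) : ∃ a b : G', Subgroup.closure ({a, b} : Set G') = ⊤ := by
  obtain ⟨a, b, hab⟩ := h
  refine ⟨f a, f b, ?_⟩
  have h1 : (Subgroup.closure ({a, b} : Set G)).map f = Subgroup.closure ({f a, f b} : Set G') := by
    rw [MonoidHom.map_closure, Set.image_pair]
  rw [← h1, hab, Subgroup.map_top_of_surjective f hf]

end H43.SUTwoC
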